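import Cfsg.Agent.R2.H28.SL2.Bas_m3
import Cfsg.Agent.R2.H9.E6.Num_m3
import Mathlib
import Cfsg.Agent.R2.H28.SL2.ExtY_m3
import Cfsg.Agent.ClassicalGeometry.AutPSL.Auto
import Cfsg.Agent.Prune
set_option linter.all false

section
prune_inst 0x7ffffdfcbfbff9dfdfff7e3fa6d8effc37831fffa6dff943ffe061bf0b5f039009e56f8d0de030fe0ed7e21410b87853f97eefffea6bdc7ffffd5ff41ffbee4fe5f7b50851968c340fbc0ff703f0778a6f3fffffffffffffffffffffffffffbeffbffbfeffff

-- part: R2/H22/L4
section
prune_inst 0x201400006200000004058071001c87820000000048800008a4000a0d808c4009020820a8100012008080840030000000000010000000000a00000001190180000112060000a000020000000080410000000000000000000000000000000000004010000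
set_option linter.all false
open scoped Cfsg.Agent.FastGrp

-- part: R2/H22/Ch
section
/-!
# Chains of vectors in the two modules, local lemmas (helper22)

* `Ch σ n i v` : the vectors `v 0, …, v n` satisfy the relations of the standard basis of `V_{n p^i}`;
* `exists_ch` : a submodule `V_{n p^i}` gives a chain; `Ch.inSoc` : a non-zero chain gives a submodule;
* `Nts` : no stable totally singular subspaces; `eq_bot_of_sq`;
* `coeff_mem` : coefficients of polynomials in `t`.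
-/

set_option autoImplicit false
set_option linter.unusedSectionVars false

namespace Cfsg.Agent.R2.H22.Loc

open Matrix Cfsg.Agent.H943.SL2Rel Cfsg.Agent.H943.SL2Mod Cfsg.Agent.H943.RepAdd
open Cfsg.Lie Cfsg.Agent.R2.H28.SL2
open Cfsg.Agent.ChevalleyStructure Cfsg.Agent.ChevalleyStructure.E6Form.Cubic
  Cfsg.Agent.ChevalleyStructure.E6Form.Table
open Cfsg.Agent.ChevalleyStructure.E6Min.Basic (Zgrp)
open Cfsg.Agent.H952.F4 (sh cr tf)
open Cfsg.Agent.H952.F4.Jord
open Cfsg.Agent.H163.E6 (V V')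
open Cfsg.Agent.R2.GEO (Pair crB crB_apply tfB tfB_apply)

universe u v w

section chains

variable {k : Type u} [Field k] [DecidableEq k] [IsAlgClosed k] {K : Type w} [Field K] [Fintype K] [DecidableEq K]
  (ι : K →+* k) (p : ℕ) [Fact p.Prime] [CharP k p] [CharP K p]

/-- the relations of the standard basis of `V_{n p^i}` -/
structure Ch {V : Type*} [AddCommGroup V] [Module k V] (σ : Representation k (_root_.Matrix.SpecialLinearGroup (Fin 2) K) V) (n i : ℕ)
    (v : ℕ → V) : Prop where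
  zero : ∀ s, n < s → v s = 0
  u : ∀ s ≤ n, ∀ t, σ (u t) (v s) =
    ∑ j ∈ Finset.range (n - s + 1), (((n - s).choose j : k) * (ι t ^ p ^ i) ^ j) • v (s + j)
  h : ∀ s ≤ n, ∀ a : Kˣ, σ (h a) (v s) = ((ι a ^ p ^ i) ^ s * ((ι a ^ p ^ i)⁻¹) ^ (n - s)) • v s
  w : ∀ s ≤ n, σ w (v s) = (-1 : k) ^ s • v (n - s)

variable {ι p} {V : Type*} [AddCommGroup V] [Module k V] {σ : Representation k (_root_.Matrix.SpecialLinearGroup (Fin 2) K) V} {n i : ℕ}

theorem exists_ch (hn : n < p) (h : InSoc ι p σ (n * p ^ i)) :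
    ∃ v : ℕ → V, Ch ι p σ n i v ∧ ∀ s ≤ n, v s ≠ 0 := by
  obtain ⟨X, hX, hb⟩ := h
  obtain ⟨v, hv⟩ := hb.basS ι p hn
  refine ⟨fun s => (v s : V), ⟨fun s hs => by rw [hv.zero s hs]; rfl, fun s hs t => ?_, fun s hs a => ?_,
    fun s hs => ?_⟩, fun s hs h0 => ?_⟩
  · have h1 := congrArg Subtype.val (hv.u s hs t)
    rw [Submodule.coe_sum] at h1
    exact h1
  · exact congrArg Subtype.val (hv.h s hs a)
  · exact congrArg Subtype.val (hv.w s hs)
  · exact hv.li.ne_zero (⟨s, Nat.lt_succ_of_le hs⟩ : Fin (n + 1)) (Subtype.ext h0)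

theorem stab_of_gen {W : Submodule k V} (hu : ∀ t, ∀ x ∈ W, σ (u t) x ∈ W) (hh : ∀ a, ∀ x ∈ W, σ (h a) x ∈ W)
    (hw : ∀ x ∈ W, σ w x ∈ W) : ∀ g, ∀ x ∈ W, σ g x ∈ W := by
  intro g
  refine induct (P := fun g => ∀ x ∈ W, σ g x ∈ W) hu hh hw (fun a b ha hb x hx => ?_) g
  rw [map_mul, Module.End.mul_apply]
  exact ha _ (hb x hx)

theorem fixed_of_gen {x : V} (hu : ∀ t, σ (u t) x = x) (hh : ∀ a, σ (h a) x = x) (hw : σ w x = x) : ∀ g, σ g x = x := by
  intro g
  refine induct (P := fun g => σ g x = x) hu hh hw (fun a b ha hb => ?_) g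
  rw [map_mul, Module.End.mul_apply, hb, ha]

theorem stab_span {S : Set V} (hu : ∀ t, ∀ x ∈ S, σ (u t) x ∈ Submodule.span k S)
    (hh : ∀ a, ∀ x ∈ S, σ (h a) x ∈ Submodule.span k S) (hw : ∀ x ∈ S, σ w x ∈ Submodule.span k S) :
    ∀ g, ∀ x ∈ Submodule.span k S, σ g x ∈ Submodule.span k S := by
  refine stab_of_gen (fun t x hx => ?_) (fun a x hx => ?_) fun x hx => ?_
  · exact (Submodule.map_span_le (σ (u t)) S _).2 (hu t) (Submodule.mem_map_of_mem hx)
  · exact (Submodule.map_span_le (σ (h a)) S _).2 (hh a) (Submodule.mem_map_of_mem hx)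
  · exact (Submodule.map_span_le (σ w) S _).2 hw (Submodule.mem_map_of_mem hx)

theorem Ch.stab {v : ℕ → V} (c : Ch ι p σ n i v) :
    ∀ g, ∀ x ∈ Submodule.span k (Set.range v), σ g x ∈ Submodule.span k (Set.range v) := by
  have hm : ∀ s, v s ∈ Submodule.span k (Set.range v) := fun s => Submodule.subset_span ⟨s, rfl⟩
  have hc : ∀ s, n < s ∨ s ≤ n := fun s => lt_or_ge n s
  refine stab_span ?_ ?_ ?_
  · rintro t _ ⟨s, rfl⟩
    rcases hc s with hs | hs
    · rw [c.zero s hs, map_zero]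
      exact Submodule.zero_mem _
    · rw [c.u s hs]
      exact Submodule.sum_mem _ fun j _ => Submodule.smul_mem _ _ (hm _)
  · rintro a _ ⟨s, rfl⟩
    rcases hc s with hs | hs
    · rw [c.zero s hs, map_zero]
      exact Submodule.zero_mem _
    · rw [c.h s hs]
      exact Submodule.smul_mem _ _ (hm _)
  · rintro _ ⟨s, rfl⟩
    rcases hc s with hs | hs
    · rw [c.zero s hs, map_zero]
      exact Submodule.zero_mem _
    · rw [c.w s hs]
      exact Submodule.smul_mem _ _ (hm _)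

/-- a non-zero chain gives a submodule -/
theorem Ch.inSoc (hn : n < p) (hb : n * p ^ i ≤ Fintype.card K - 1) {y : ℕ → V} (c : Ch ι p σ n i y)
    (h0 : ∃ s, y s ≠ 0) : InSoc ι p σ (n * p ^ i) := by
  have hV : IsV ι p (RB ι p hb) (n * p ^ i) := ⟨hb, LinearEquiv.refl k _, fun _ _ => rfl⟩
  obtain ⟨v, hv⟩ := hV.basS ι p hn
  let B : Module.Basis (Fin (n + 1)) k (Vb ι (n * p ^ i)) := Module.Basis.mk hv.li hv.sp
  let f : Vb ι (n * p ^ i) →ₗ[k] V := B.constr k fun s => y s
  have hf : ∀ s, f (v s) = y s := by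
    intro s
    rcases lt_or_ge n s with hs | hs
    · rw [hv.zero s hs, c.zero s hs, map_zero]
    · have h1 := B.constr_basis k (fun s : Fin (n + 1) => y s) ⟨s, Nat.lt_succ_of_le hs⟩
      rw [Module.Basis.mk_apply] at h1
      exact h1
  have key : ∀ (g : _root_.Matrix.SpecialLinearGroup (Fin 2) K), (∀ s ≤ n, f (RB ι p hb g (v s)) = σ g (y s)) →
      ∀ x, f (RB ι p hb g x) = σ g (f x) := by
    intro g hg x
    have h1 : f ∘ₗ (RB ι p hb g) = (σ g) ∘ₗ f := by
      refine B.ext fun s => ?_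
      rw [Module.Basis.mk_apply, LinearMap.comp_apply, LinearMap.comp_apply, hg s (Nat.lt_succ_iff.1 s.2), hf]
    exact LinearMap.congr_fun h1 x
  have hfe : ∀ g x, f (RB ι p hb g x) = σ g (f x) := by
    intro g
    refine induct (P := fun g => ∀ x, f (RB ι p hb g x) = σ g (f x)) (fun t => key _ fun s hs => ?_)
      (fun a => key _ fun s hs => ?_) (key _ fun s hs => ?_) (fun a b ha hb' x => ?_) g
    · rw [hv.u s hs, map_sum, c.u s hs]
      exact Finset.sum_congr rfl fun j _ => by rw [map_smul, hf]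
    · rw [hv.h s hs, map_smul, c.h s hs, hf]
    · rw [hv.w s hs, map_smul, c.w s hs, hf]
    · rw [map_mul, Module.End.mul_apply, map_mul, Module.End.mul_apply, ha, hb']
  refine inSoc_of_hom ι p hV f hfe fun h1 => ?_
  obtain ⟨s, hs⟩ := h0
  apply hs
  rw [← hf, h1, LinearMap.zero_apply]

/-- coefficients of polynomials in `t` -/
theorem coeff_mem {W : Submodule k V} {I : Type*} (S : Finset I) (f : I → ℕ) (c : I → V)
    (hinj : Set.InjOn f (S : Set I)) (hf : ∀ e ∈ S, f e < Fintype.card K)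
    (h : ∀ t : K, ∑ e ∈ S, ι t ^ f e • c e ∈ W) : ∀ e ∈ S, c e ∈ W := by
  classical
  intro e he
  by_contra hc
  have h1 : W.mkQ (c e) ≠ 0 := by
    intro h0
    exact hc ((Submodule.Quotient.mk_eq_zero W).1 h0)
  obtain ⟨φ, hφ⟩ : ∃ φ : Module.Dual k (V ⧸ W), φ (W.mkQ (c e)) ≠ 0 := by
    by_contra hcon
    push Not at hcon
    exact h1 ((Module.forall_dual_apply_eq_zero_iff k _).1 hcon)
  let P : Polynomial k := ∑ e ∈ S, Polynomial.monomial (f e) (φ (W.mkQ (c e)))
  have hP : P = 0 := by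
    refine Polynomial.eq_zero_of_degree_lt_of_eval_finset_eq_zero (Finset.univ.image ι) ?_ ?_
    · rw [Finset.card_image_of_injective _ ι.injective, Finset.card_univ]
      refine lt_of_le_of_lt (Polynomial.degree_sum_le _ _) ?_
      rw [Finset.sup_lt_iff (WithBot.bot_lt_coe _)]
      intro e' he'
      refine lt_of_le_of_lt (Polynomial.degree_monomial_le _ _) ?_
      exact_mod_cast hf e' he'
    · intro x hx
      obtain ⟨t, -, rfl⟩ := Finset.mem_image.1 hx
      have h2 : φ (W.mkQ (∑ e ∈ S, ι t ^ f e • c e)) = 0 := by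
        rw [show W.mkQ (∑ e ∈ S, ι t ^ f e • c e) = 0 from (Submodule.Quotient.mk_eq_zero W).2 (h t), map_zero]
      rw [map_sum, map_sum] at h2
      rw [Polynomial.eval_finsetSum, ← h2]
      refine Finset.sum_congr rfl fun e' _ => ?_
      rw [Polynomial.eval_monomial, map_smul, map_smul, smul_eq_mul, mul_comm]
  apply hφ
  have h2 : P.coeff (f e) = φ (W.mkQ (c e)) := by
    rw [Polynomial.finsetSum_coeff, Finset.sum_eq_single e]
    · rw [Polynomial.coeff_monomial, if_pos rfl]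
    · intro e' he' hne
      rw [Polynomial.coeff_monomial, if_neg]
      intro h3
      exact hne (hinj he' he h3)
    · intro h3
      exact absurd he h3
  rw [← h2, hP, Polynomial.coeff_zero]

/-- the twisted version: `T = t ^ (p ^ i)` -/
theorem coeff_mem_pow {W : Submodule k V} {I : Type*} (i : ℕ) (S : Finset I) (f : I → ℕ) (c : I → V)
    (hinj : Set.InjOn f (S : Set I)) (hf : ∀ e ∈ S, f e < Fintype.card K)
    (h : ∀ t : K, ∑ e ∈ S, (ι t ^ p ^ i) ^ f e • c e ∈ W) : ∀ e ∈ S, c e ∈ W := by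
  refine coeff_mem (ι := ι) S f c hinj hf fun t => ?_
  obtain ⟨s, rfl⟩ : ∃ s : K, s ^ p ^ i = t := by
    have h1 : Function.Bijective (iterateFrobenius K p i) := by
      rw [Fintype.bijective_iff_injective_and_card]
      exact ⟨(iterateFrobenius K p i).injective, rfl⟩
    obtain ⟨s, hs⟩ := h1.2 t
    exact ⟨s, by rw [← iterateFrobenius_def]; exact hs⟩
  rw [map_pow]
  exact h s

theorem coeffs_zero (i n : ℕ) (hK : n ≤ Fintype.card K) (c : ℕ → V)
    (h : ∀ t : K, ∑ j ∈ Finset.range n, (ι t ^ p ^ i) ^ j • c j = 0) : ∀ j, j < n → c j = 0 := by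
  intro j hj
  have h1 := coeff_mem_pow (W := (⊥ : Submodule k V)) (ι := ι) (p := p) i (Finset.range n) id c
    (fun x _ y _ h => h) (fun e he => lt_of_lt_of_le (Finset.mem_range.1 he) hK) (fun t => by
      rw [Submodule.mem_bot]
      exact h t) j (Finset.mem_range.2 hj)
  exact (Submodule.mem_bot k).1 h1

theorem coeff5 {i : ℕ} (hK : 5 ≤ Fintype.card K) {c0 c1 c2 c3 c4 : V}
    (h : ∀ t : K, c0 + (ι t ^ p ^ i) • c1 + (ι t ^ p ^ i) ^ 2 • c2 + (ι t ^ p ^ i) ^ 3 • c3 + (ι t ^ p ^ i) ^ 4 • c4 = 0) :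
    c0 = 0 ∧ c1 = 0 ∧ c2 = 0 ∧ c3 = 0 ∧ c4 = 0 := by
  have key := coeffs_zero (ι := ι) (p := p) i 5 hK (fun j => if hj : j < 5 then (![c0, c1, c2, c3, c4] : Fin 5 → V) ⟨j, hj⟩ else 0)
    (fun t => by
      rw [← h t]
      simp only [Finset.sum_range_succ, _root_.Nat.succ_eq_add_one, _root_.Nat.reduceAdd, _root_.smul_dite, _root_.smul_add, _root_.Finset.range_one, _root_.Finset.sum_singleton, _root_.Nat.ofNat_pos, ↓ _root_.reduceDIte, _root_.pow_zero, _root_.Fin.zero_eta, _root_.Fin.isValue, _root_.Matrix.cons_val_zero, _root_.one_smul, _root_.Nat.one_lt_ofNat, _root_.pow_one, _root_.Fin.mk_one, _root_.Matrix.cons_val_one, _root_.Nat.reduceLT, _root_.Fin.reduceFinMk, _root_.Matrix.cons_val, _root_.Nat.lt_add_one])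
  exact ⟨key 0 (by norm_num), key 1 (by norm_num), key 2 (by norm_num), key 3 (by norm_num), key 4 (by norm_num)⟩

theorem coeff9 {i : ℕ} (hK : 9 ≤ Fintype.card K) {c0 c1 c2 c3 c4 c5 c6 c7 c8 : V}
    (h : ∀ t : K, c0 + (ι t ^ p ^ i) • c1 + (ι t ^ p ^ i) ^ 2 • c2 + (ι t ^ p ^ i) ^ 3 • c3 + (ι t ^ p ^ i) ^ 4 • c4 + (ι t ^ p ^ i) ^ 5 • c5 + (ι t ^ p ^ i) ^ 6 • c6 + (ι t ^ p ^ i) ^ 7 • c7 + (ι t ^ p ^ i) ^ 8 • c8 = 0) :
    c0 = 0 ∧ c1 = 0 ∧ c2 = 0 ∧ c3 = 0 ∧ c4 = 0 ∧ c5 = 0 ∧ c6 = 0 ∧ c7 = 0 ∧ c8 = 0 := by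
  have key := coeffs_zero (ι := ι) (p := p) i 9 hK (fun j => if hj : j < 9 then (![c0, c1, c2, c3, c4, c5, c6, c7, c8] : Fin 9 → V) ⟨j, hj⟩ else 0)
    (fun t => by
      rw [← h t]
      simp only [Finset.sum_range_succ, _root_.Nat.succ_eq_add_one, _root_.Nat.reduceAdd, _root_.smul_dite, _root_.smul_add, _root_.Finset.range_one, _root_.Finset.sum_singleton, _root_.Nat.ofNat_pos, ↓ _root_.reduceDIte, _root_.pow_zero, _root_.Fin.zero_eta, _root_.Fin.isValue, _root_.Matrix.cons_val_zero, _root_.one_smul, _root_.Nat.one_lt_ofNat, _root_.pow_one, _root_.Fin.mk_one, _root_.Matrix.cons_val_one, _root_.Nat.reduceLT, _root_.Fin.reduceFinMk, _root_.Matrix.cons_val, _root_.Nat.lt_add_one])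
  exact ⟨key 0 (by norm_num), key 1 (by norm_num), key 2 (by norm_num), key 3 (by norm_num), key 4 (by norm_num), key 5 (by norm_num), key 6 (by norm_num), key 7 (by norm_num), key 8 (by norm_num)⟩

end chains

attribute [local irreducible] Cfsg.Agent.H952.F4.cr Cfsg.Agent.H952.F4.sh Cfsg.Agent.H952.F4.tf

section frame

variable {k : Type u} [Field k] [DecidableEq k] [IsAlgClosed k] {K : Type w} [Field K] [Fintype K] [DecidableEq K]
  {ι : K →+* k} {p a : ℕ} [Fact p.Prime] [CharP k p] [CharP K p]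
  {ψ : _root_.Matrix.SpecialLinearGroup (Fin 2) K →* ↥(Zgrp k)} {ρ ρ' : Representation k ↥(Zgrp k) (I27 → k)}

/-- no stable totally singular subspaces -/
def Nts (ψ : _root_.Matrix.SpecialLinearGroup (Fin 2) K →* ↥(Zgrp k)) (ρ : Representation k ↥(Zgrp k) (I27 → k)) : Prop :=
  ∀ W : Submodule k (I27 → k), (∀ g, ∀ x ∈ W, Rr ρ ψ g x ∈ W) → (∀ x ∈ W, sh x = 0) → W = ⊥

theorem cr_zero_right (x : I27 → k) : cr x 0 = 0 := by
  have h := cr_smul_right (0 : k) x 0
  rwa [zero_smul, zero_smul] at h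

theorem cr_zero_left (x : I27 → k) : cr 0 x = 0 := by rw [cr_comm, cr_zero_right]

theorem tf_zero_right (x : I27 → k) : tf x 0 = 0 := by
  have h := tf_smul_right (0 : k) x 0
  rwa [zero_smul, zero_mul] at h

theorem tf_zero_left (x : I27 → k) : tf 0 x = 0 := by rw [tf_comm, tf_zero_right]

theorem cr_span {S : Set (I27 → k)} {W : Submodule k (I27 → k)} (h : ∀ x ∈ S, ∀ y ∈ S, cr x y ∈ W) :
    ∀ x ∈ Submodule.span k S, ∀ y ∈ Submodule.span k S, cr x y ∈ W := by
  intro x hx y hy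
  induction hx using Submodule.span_induction with
  | mem x hx =>
    induction hy using Submodule.span_induction with
    | mem y hy => exact h x hx y hy
    | zero =>
      rw [← zero_smul k (0 : I27 → k), cr_smul_right, zero_smul]
      exact W.zero_mem
    | add y z _ _ h1 h2 =>
      rw [cr_add_right]
      exact W.add_mem h1 h2
    | smul c y _ h1 =>
      rw [cr_smul_right]
      exact W.smul_mem _ h1
  | zero =>
    rw [← zero_smul k (0 : I27 → k), cr_smul_left, zero_smul]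
    exact W.zero_mem
  | add y z _ _ h1 h2 =>
    rw [cr_add_left]
    exact W.add_mem h1 h2
  | smul c y _ h1 =>
    rw [cr_smul_left]
    exact W.smul_mem _ h1

theorem sh_of_cr (h2 : (2 : k) ≠ 0) {x : I27 → k} (h : cr x x = 0) : sh x = 0 := by
  rw [cr_self, smul_eq_zero] at h
  exact h.resolve_left h2

theorem sh_span (h2 : (2 : k) ≠ 0) {S : Set (I27 → k)} (h : ∀ x ∈ S, ∀ y ∈ S, cr x y = 0) :
    ∀ x ∈ Submodule.span k S, sh x = 0 := by
  intro x hx
  have h1 := cr_span (W := ⊥) (fun x hx y hy => (Submodule.mem_bot k).2 (h x hx y hy)) x hx x hx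
  exact sh_of_cr h2 ((Submodule.mem_bot k).1 h1)

include ι in
theorem two_ne_zero' (hp : p ≠ 2) : (2 : k) ≠ 0 := by
  intro h0
  have h1 : ((2 : ℕ) : k) = 0 := by exact_mod_cast h0
  rw [CharP.cast_eq_zero_iff k p] at h1
  exact hp ((Nat.prime_dvd_prime_iff_eq (Fact.out : p.Prime) Nat.prime_two).1 h1)

theorem cr_stab (f : Fra p a ψ ρ ρ') {S : Set (I27 → k)}
    (hS : ∀ g, ∀ x ∈ Submodule.span k S, Rr ρ ψ g x ∈ Submodule.span k S) :
    ∀ g, ∀ x ∈ Submodule.span k {z | ∃ x ∈ S, ∃ y ∈ S, z = cr x y},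
      Rr ρ' ψ g x ∈ Submodule.span k {z | ∃ x ∈ S, ∃ y ∈ S, z = cr x y} := by
  intro g x hx
  refine (Submodule.map_span_le (Rr ρ' ψ g) _ _).2 ?_ (Submodule.mem_map_of_mem hx)
  rintro _ ⟨x, hx, y, hy, rfl⟩
  rw [Rr_apply, ← pair_cr f.pair]
  refine cr_span ?_ _ (hS g x (Submodule.subset_span hx)) _ (hS g y (Submodule.subset_span hy))
  intro x hx y hy
  exact Submodule.subset_span ⟨x, hx, y, hy, rfl⟩

theorem sq_bot (f : Fra p a ψ ρ ρ') (h2 : (2 : k) ≠ 0) (nts : Nts ψ ρ) (nts' : Nts ψ ρ') {S : Set (I27 → k)}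
    (hS : ∀ g, ∀ x ∈ Submodule.span k S, Rr ρ ψ g x ∈ Submodule.span k S)
    (h : ∀ x₁ ∈ S, ∀ x₂ ∈ S, ∀ x₃ ∈ S, ∀ x₄ ∈ S, cr (cr x₁ x₂) (cr x₃ x₄) = 0) : ∀ x ∈ S, x = 0 := by
  have h1 : Submodule.span k {z | ∃ x ∈ S, ∃ y ∈ S, z = cr x y} = ⊥ := by
    refine nts' _ (cr_stab f hS) (sh_span h2 ?_)
    rintro _ ⟨x₁, hx₁, x₂, hx₂, rfl⟩ _ ⟨x₃, hx₃, x₄, hx₄, rfl⟩
    exact h x₁ hx₁ x₂ hx₂ x₃ hx₃ x₄ hx₄
  have h3 : Submodule.span k S = ⊥ := by
    refine nts _ hS (sh_span h2 fun x hx y hy => ?_)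
    rw [← Submodule.mem_bot k, ← h1]
    exact Submodule.subset_span ⟨x, hx, y, hy, rfl⟩
  intro x hx
  rw [← Submodule.mem_bot k, ← h3]
  exact Submodule.subset_span hx

/-- the form of `sq_bot` with a spanning set of the squares -/
theorem sq_bot' (f : Fra p a ψ ρ ρ') (h2 : (2 : k) ≠ 0) (nts : Nts ψ ρ) (nts' : Nts ψ ρ') {S T : Set (I27 → k)}
    (hS : ∀ g, ∀ x ∈ Submodule.span k S, Rr ρ ψ g x ∈ Submodule.span k S)
    (hT : ∀ x ∈ S, ∀ y ∈ S, cr x y ∈ Submodule.span k T) (h : ∀ y ∈ T, ∀ y' ∈ T, cr y y' = 0) : ∀ x ∈ S, x = 0 := by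
  refine sq_bot f h2 nts nts' hS fun x₁ hx₁ x₂ hx₂ x₃ hx₃ x₄ hx₄ => ?_
  have h1 := cr_span (W := ⊥) (fun x hx y hy => (Submodule.mem_bot k).2 (h x hx y hy)) _ (hT x₁ hx₁ x₂ hx₂) _
    (hT x₃ hx₃ x₄ hx₄)
  exact (Submodule.mem_bot k).1 h1

/-- the complete polarization of `(x#)# = N(x) x` -/
theorem cr4 (x y z t : I27 → k) : cr (cr x y) (cr z t) + cr (cr x z) (cr y t) + cr (cr x t) (cr y z) =
    tf (cr x y) z • t + tf (cr x y) t • z + tf (cr x z) t • y + tf (cr y z) t • x := by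
  have h1 := cr_cr (x + t) y z
  have h2 := cr_cr x y z
  have h3 := cr_cr t y z
  simp only [sh_add, cr_add_left, cr_add_right, tf_add_left] at h1
  rw [← tf_cr, ← tf_cr] at h1
  rw [← tf_cr] at h2 h3
  have e1 : tf (cr x t) y = tf (cr x y) t := by rw [tf_cr, cr_comm t y, ← tf_cr]
  have e2 : tf (cr x t) z = tf (cr x z) t := by rw [tf_cr, cr_comm t z, ← tf_cr]
  have e3 : tf (cr t y) z = tf (cr y z) t := by rw [tf_cr, tf_comm]
  rw [e1, e2, e3] at h1
  rw [e3] at h3
  have e4 : cr (cr x z) (cr y t) = cr (cr t y) (cr x z) := by rw [cr_comm (cr x z), cr_comm y t]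
  have e5 : cr (cr x y) (cr z t) = cr (cr x y) (cr t z) := by rw [cr_comm z t]
  rw [e4, e5]
  linear_combination (norm := module) h1 - h2 - h3

theorem fix_zero (f : Fra p a ψ ρ ρ') {x : I27 → k} (hu : ∀ t, ρ (ψ (u t)) x = x) (hh : ∀ b, ρ (ψ (h b)) x = x)
    (hw : ρ (ψ w) x = x) : x = 0 :=
  f.fix x (fixed_of_gen (σ := Rr ρ ψ) hu hh hw)

end frame

end Cfsg.Agent.R2.H22.Loc
end

-- part: R2/H22/L2
section
/-!
# L2 : `V_{2 p^i}` is not a submodule (helper22)
-/

set_option autoImplicit false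
set_option linter.unusedSectionVars false
set_option linter.unusedSimpArgs false

namespace Cfsg.Agent.R2.H22.Loc

open Matrix Cfsg.Agent.H943.SL2Rel Cfsg.Agent.H943.SL2Mod Cfsg.Agent.H943.RepAdd
open Cfsg.Lie Cfsg.Agent.R2.H28.SL2
open Cfsg.Agent.ChevalleyStructure Cfsg.Agent.ChevalleyStructure.E6Form.Cubic
  Cfsg.Agent.ChevalleyStructure.E6Form.Table
open Cfsg.Agent.ChevalleyStructure.E6Min.Basic (Zgrp)
open Cfsg.Agent.H952.F4 (sh cr tf)
open Cfsg.Agent.H952.F4.Jord
open Cfsg.Agent.H163.E6 (V V')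
open Cfsg.Agent.R2.GEO (Pair crB crB_apply tfB tfB_apply)

universe u v w

attribute [local irreducible] Cfsg.Agent.H952.F4.cr Cfsg.Agent.H952.F4.sh Cfsg.Agent.H952.F4.tf

variable {k : Type u} [Field k] [DecidableEq k] [IsAlgClosed k] {K : Type w} [Field K] [Fintype K] [DecidableEq K]
  {ι : K →+* k} {p a : ℕ} [Fact p.Prime] [CharP k p] [CharP K p]
  {ψ : _root_.Matrix.SpecialLinearGroup (Fin 2) K →* ↥(Zgrp k)} {ρ ρ' : Representation k ↥(Zgrp k) (I27 → k)}

section two

variable {i : ℕ} {v : ℕ → I27 → k}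

theorem two_u (c : Ch ι p (Rr ρ ψ) 2 i v) (t : K) :
    ρ (ψ (u t)) (v 0) = v 0 + (2 * ι t ^ p ^ i) • v 1 + ((ι t ^ p ^ i) ^ 2) • v 2 ∧
    ρ (ψ (u t)) (v 1) = v 1 + (ι t ^ p ^ i) • v 2 ∧ ρ (ψ (u t)) (v 2) = v 2 := by
  have h0 := c.u 0 (by norm_num) t
  have h1 := c.u 1 (by norm_num) t
  have h2 := c.u 2 (by norm_num) t
  simp only [Finset.sum_range_succ, Finset.sum_range_zero, Nat.choose, Rr_apply] at h0 h1 h2
  refine ⟨?_, ?_, ?_⟩
  · rw [h0]
    norm_num
  · rw [h1]
    norm_num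
  · rw [h2]
    norm_num

theorem two_w (c : Ch ι p (Rr ρ ψ) 2 i v) :
    ρ (ψ w) (v 0) = v 2 ∧ ρ (ψ w) (v 1) = -v 1 ∧ ρ (ψ w) (v 2) = v 0 := by
  have h0 := c.w 0 (by norm_num)
  have h1 := c.w 1 (by norm_num)
  have h2 := c.w 2 (by norm_num)
  rw [Rr_apply] at h0 h1 h2
  refine ⟨?_, ?_, ?_⟩
  · rw [h0]
    norm_num
  · rw [h1]
    norm_num
  · rw [h2]
    norm_num

theorem two_h (c : Ch ι p (Rr ρ ψ) 2 i v) (b : Kˣ) :
    ρ (ψ (h b)) (v 0) = (((ι b ^ p ^ i)⁻¹) ^ 2) • v 0 ∧ ρ (ψ (h b)) (v 1) = v 1 ∧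
      ρ (ψ (h b)) (v 2) = ((ι b ^ p ^ i) ^ 2) • v 2 := by
  have h0 := c.h 0 (by norm_num) b
  have h1 := c.h 1 (by norm_num) b
  have h2 := c.h 2 (by norm_num) b
  rw [Rr_apply] at h0 h1 h2
  have hb : (ι (b : K) ^ p ^ i) ≠ 0 := pow_ne_zero _ ((map_ne_zero ι).2 b.ne_zero)
  refine ⟨?_, ?_, ?_⟩
  · rw [h0]
    norm_num
  · rw [h1]
    norm_num
  · rw [h2]
    norm_num

/-- the fixed vector of the symmetric square -/
theorem two_fix (f : Fra p a ψ ρ ρ') (c : Ch ι p (Rr ρ ψ) 2 i v) : cr (v 0) (v 2) = cr (v 1) (v 1) := by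
  have hb : ∀ b : Kˣ, (ι (b : K) ^ p ^ i) ≠ 0 := fun b => pow_ne_zero _ ((map_ne_zero ι).2 b.ne_zero)
  have h1 : cr (v 0) (v 2) - cr (v 1) (v 1) = 0 := by
    refine fix_zero f.swap (fun t => ?_) (fun b => ?_) ?_
    · obtain ⟨h0, h1, h2⟩ := two_u c t
      rw [map_sub, ← pair_cr f.pair, ← pair_cr f.pair, h0, h1, h2]
      simp only [cr_add_left, cr_add_right, cr_smul_left, cr_smul_right]
      rw [cr_comm (v 2) (v 1)]
      module
    · obtain ⟨h0, h1, h2⟩ := two_h c b
      rw [map_sub, ← pair_cr f.pair, ← pair_cr f.pair, h0, h1, h2, cr_smul_left, cr_smul_right, smul_smul, ← mul_pow,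
        inv_mul_cancel₀ (hb b), one_pow, one_smul]
    · obtain ⟨h0, h1, h2⟩ := two_w c
      rw [map_sub, ← pair_cr f.pair, ← pair_cr f.pair, h0, h1, h2]
      rw [← neg_one_smul k (v 1), cr_smul_left, cr_smul_right, cr_comm (v 2) (v 0)]
      module
  exact sub_eq_zero.1 h1

/-- invariance of the trilinear form -/
theorem tri_inv (f : Fra p a ψ ρ ρ') (g : _root_.Matrix.SpecialLinearGroup (Fin 2) K) (x y z : I27 → k) :
    tf (cr (ρ (ψ g) x) (ρ (ψ g) y)) (ρ (ψ g) z) = tf (cr x y) z := by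
  rw [pair_cr f.pair, pair_tf f.pair.swap]

omit [DecidableEq k] [IsAlgClosed k] [DecidableEq K] in
include ι in
/-- a unit with `b ^ m ≠ 1` -/
theorem exists_unit {m : ℕ} (hm : 0 < m) (hK : m < Fintype.card K - 1) (i : ℕ) : ∃ b : Kˣ, (ι (b : K) ^ p ^ i) ^ m ≠ 1 := by
  classical
  by_contra hcon
  push Not at hcon
  have h1 : ∀ b : Kˣ, b ^ m = 1 := by
    intro b
    have h2 := hcon b
    rw [← map_pow, ← map_pow, ← map_one ι] at h2
    have h3 := ι.injective h2
    rw [← pow_mul, mul_comm, pow_mul] at h3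
    have h4 : iterateFrobenius K p i ((b : K) ^ m) = iterateFrobenius K p i 1 := by
      rw [iterateFrobenius_def, iterateFrobenius_def, h3, one_pow]
    have h5 := (iterateFrobenius K p i).injective h4
    apply Units.ext
    rw [Units.val_pow_eq_pow_val, h5, Units.val_one]
  have h2 := IsCyclic.card_pow_eq_one_le (α := Kˣ) hm
  rw [Finset.filter_true_of_mem (fun b _ => h1 b), Finset.card_univ, Fintype.card_units] at h2
  omega

/-- the trilinear form vanishes on `V_2` -/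
theorem two_tri (f : Fra p a ψ ρ ρ') (c : Ch ι p (Rr ρ ψ) 2 i v) (h7 : 7 ≤ Fintype.card K) :
    ∀ x ∈ Set.range v, ∀ y ∈ Set.range v, ∀ z ∈ Set.range v, tf (cr x y) z = 0 := by
  have h2 : (2 : k) ≠ 0 := two_ne_zero' (ι := ι) f.odd
  have hsym : ∀ x y z : I27 → k, tf (cr x y) z = tf (cr y x) z := fun x y z => by rw [cr_comm]
  have hsym' : ∀ x y z : I27 → k, tf (cr x y) z = tf (cr x z) y := fun x y z => by rw [tf_cr, cr_comm y z, ← tf_cr]
  have hfix := two_fix f c
  have e111 : tf (cr (v 1) (v 1)) (v 1) = 0 := by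
    have h := tri_inv f w (v 1) (v 1) (v 1)
    rw [(two_w c).2.1] at h
    rw [← neg_one_smul k (v 1), cr_smul_left, cr_smul_right, tf_smul_left, tf_smul_left, tf_smul_right] at h
    have h3 : 2 * tf (cr (v 1) (v 1)) (v 1) = 0 := by linear_combination -h
    exact (mul_eq_zero.1 h3).resolve_left h2
  obtain ⟨b, hb⟩ := exists_unit (ι := ι) (p := p) (m := 2) (by norm_num) (by omega) i
  obtain ⟨b', hb'⟩ := exists_unit (ι := ι) (p := p) (m := 4) (by norm_num) (by omega) i
  have hne : ∀ b : Kˣ, (ι (b : K) ^ p ^ i) ≠ 0 := fun b => pow_ne_zero _ ((map_ne_zero ι).2 b.ne_zero)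
  have e112 : tf (cr (v 1) (v 1)) (v 2) = 0 := by
    have h := tri_inv f (h b) (v 1) (v 1) (v 2)
    rw [(two_h c b).2.1, (two_h c b).2.2, tf_smul_right] at h
    have h3 : ((ι (b : K) ^ p ^ i) ^ 2 - 1) * tf (cr (v 1) (v 1)) (v 2) = 0 := by linear_combination h
    exact (mul_eq_zero.1 h3).resolve_left (sub_ne_zero.2 hb)
  have e122 : tf (cr (v 1) (v 2)) (v 2) = 0 := by
    have h := tri_inv f (h b') (v 1) (v 2) (v 2)
    rw [(two_h c b').2.1, (two_h c b').2.2, cr_smul_right, tf_smul_right, tf_smul_left] at h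
    have h3 : ((ι (b' : K) ^ p ^ i) ^ 4 - 1) * tf (cr (v 1) (v 2)) (v 2) = 0 := by linear_combination h
    exact (mul_eq_zero.1 h3).resolve_left (sub_ne_zero.2 hb')
  have e110 : tf (cr (v 1) (v 1)) (v 0) = 0 := by
    have h := tri_inv f w (v 1) (v 1) (v 2)
    rw [(two_w c).2.1, (two_w c).2.2, e112] at h
    rw [← neg_one_smul k (v 1), cr_smul_left, cr_smul_right, tf_smul_left, tf_smul_left] at h
    linear_combination h
  have e100 : tf (cr (v 1) (v 0)) (v 0) = 0 := by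
    have h := tri_inv f w (v 1) (v 2) (v 2)
    rw [(two_w c).2.1, (two_w c).2.2, e122] at h
    rw [← neg_one_smul k (v 1), cr_smul_left, tf_smul_left] at h
    linear_combination -h
  have c10 := cr_comm (v 1) (v 0)
  have c20 := cr_comm (v 2) (v 0)
  have c21 := cr_comm (v 2) (v 1)
  have r10 : ∀ x, tf (cr x (v 1)) (v 0) = tf (cr x (v 0)) (v 1) := fun x => hsym' x _ _
  have r20 : ∀ x, tf (cr x (v 2)) (v 0) = tf (cr x (v 0)) (v 2) := fun x => hsym' x _ _
  have r21 : ∀ x, tf (cr x (v 2)) (v 1) = tf (cr x (v 1)) (v 2) := fun x => hsym' x _ _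
  have e02 : ∀ z, tf (cr (v 0) (v 2)) z = tf (cr (v 1) (v 1)) z := fun z => by rw [hfix]
  have f001 : tf (cr (v 0) (v 0)) (v 1) = 0 := by rw [← r10, ← c10]; exact e100
  have f011 : tf (cr (v 0) (v 1)) (v 1) = 0 := by rw [← c10, ← r10]; exact e110
  have f012 : tf (cr (v 0) (v 1)) (v 2) = 0 := by rw [← r21, e02]; exact e111
  have f002 : tf (cr (v 0) (v 0)) (v 2) = 0 := by rw [← r20, e02]; exact e110
  have f022 : tf (cr (v 0) (v 2)) (v 2) = 0 := by rw [e02]; exact e112
  have e222 : tf (cr (v 2) (v 2)) (v 2) = 0 := by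
    have h := tri_inv f (u 1) (v 0) (v 0) (v 0)
    rw [(two_u c 1).1] at h
    simp only [map_one, one_pow, one_smul, mul_one, cr_add_left, cr_add_right, cr_smul_left, cr_smul_right, tf_add_left,
      tf_add_right, tf_smul_left, tf_smul_right, c10, c20, c21, r10, r20, r21, f001, f011, f012, f002, f022, e111, e112,
      e122, mul_zero, add_zero, zero_add] at h
    simpa using h
  have e000 : tf (cr (v 0) (v 0)) (v 0) = 0 := by
    have h := tri_inv f w (v 2) (v 2) (v 2)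
    rw [(two_w c).2.2, e222] at h
    exact h
  have hz : ∀ s, 2 < s → v s = 0 := c.zero
  rintro _ ⟨x, rfl⟩ _ ⟨y, rfl⟩ _ ⟨z, rfl⟩
  rcases lt_or_ge 2 x with hx | hx
  · rw [hz x hx, cr_zero_left, tf_zero_left]
  rcases lt_or_ge 2 y with hy | hy
  · rw [hz y hy, cr_zero_right, tf_zero_left]
  rcases lt_or_ge 2 z with hz' | hz'
  · rw [hz z hz', tf_zero_right]
  interval_cases x <;> interval_cases y <;> interval_cases z <;>
    simp only [c10, c20, c21, r10, r20, r21, f001, f011, f012, f002, f022, e111, e112, e122, e222, e000]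

/-- **L2** -/
theorem not_inSoc_two (f : Fra p a ψ ρ ρ') (h5 : 5 ≤ p) (h7 : 7 ≤ Fintype.card K) (nts : Nts ψ ρ) (nts' : Nts ψ ρ')
    (i : ℕ) : ¬ InSoc ι p (Rr ρ ψ) (2 * p ^ i) := by
  intro h
  obtain ⟨v, c, hv⟩ := exists_ch (by omega) h
  have h2 : (2 : k) ≠ 0 := two_ne_zero' (ι := ι) f.odd
  have h3 : (3 : k) ≠ 0 := by
    intro h0
    have h1 : ((3 : ℕ) : k) = 0 := by exact_mod_cast h0
    rw [CharP.cast_eq_zero_iff k p] at h1
    have := (Nat.prime_dvd_prime_iff_eq (Fact.out : p.Prime) Nat.prime_three).1 h1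
    omega
  have htri := two_tri f c h7
  have hfix := two_fix f c
  have L : ∀ x y z t : ℕ, cr (cr (v x) (v y)) (cr (v z) (v t)) + cr (cr (v x) (v z)) (cr (v y) (v t)) +
      cr (cr (v x) (v t)) (cr (v y) (v z)) = 0 := by
    intro x y z t
    rw [cr4, htri _ ⟨x, rfl⟩ _ ⟨y, rfl⟩ _ ⟨z, rfl⟩, htri _ ⟨x, rfl⟩ _ ⟨y, rfl⟩ _ ⟨t, rfl⟩,
      htri _ ⟨x, rfl⟩ _ ⟨z, rfl⟩ _ ⟨t, rfl⟩, htri _ ⟨y, rfl⟩ _ ⟨z, rfl⟩ _ ⟨t, rfl⟩]
    simp
  refine hv 0 (by norm_num) (sq_bot' (T := {cr (v 0) (v 0), cr (v 0) (v 1), cr (v 1) (v 1), cr (v 1) (v 2), cr (v 2) (v 2)})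
    f h2 nts nts' c.stab ?_ ?_ (v 0) ⟨0, rfl⟩)
  · have hz : ∀ s, 2 < s → v s = 0 := c.zero
    rintro _ ⟨x, rfl⟩ _ ⟨y, rfl⟩
    rcases lt_or_ge 2 x with hx | hx
    · rw [hz x hx, cr_zero_left]
      exact Submodule.zero_mem _
    rcases lt_or_ge 2 y with hy | hy
    · rw [hz y hy, cr_zero_right]
      exact Submodule.zero_mem _
    apply Submodule.subset_span
    interval_cases x <;> interval_cases y <;>
      simp only [cr_comm (v 1) (v 0), cr_comm (v 2) (v 0), cr_comm (v 2) (v 1), hfix, _root_.Set.mem_insert_iff, _root_.Set.mem_singleton_iff, _root_.true_or, _root_.or_true]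
  · have s3 : ∀ x : I27 → k, (3 : k) • x = 0 → x = 0 := fun x hx => (smul_eq_zero.1 hx).resolve_left h3
    have s2 : ∀ x : I27 → k, (2 : k) • x = 0 → x = 0 := fun x hx => (smul_eq_zero.1 hx).resolve_left h2
    have c10 := cr_comm (v 1) (v 0)
    have c20 := cr_comm (v 2) (v 0)
    have c21 := cr_comm (v 2) (v 1)
    have l0000 := L 0 0 0 0
    have l0001 := L 0 0 0 1
    have l0002 := L 0 0 0 2
    have l0011 := L 0 0 1 1
    have l0012 := L 0 0 1 2
    have l0111 := L 0 1 1 1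
    have l0022 := L 0 0 2 2
    have l0112 := L 0 1 1 2
    have l1111 := L 1 1 1 1
    have l0122 := L 0 1 2 2
    have l1112 := L 1 1 1 2
    have l0222 := L 0 2 2 2
    have l1122 := L 1 1 2 2
    have l1222 := L 1 2 2 2
    have l2222 := L 2 2 2 2
    rw [hfix] at *
    generalize cr (v 0) (v 0) = A at *
    generalize cr (v 0) (v 1) = B at *
    generalize cr (v 1) (v 1) = D at *
    generalize cr (v 1) (v 2) = E at *
    generalize cr (v 2) (v 2) = G at *
    simp only [cr_comm B A, cr_comm D A, cr_comm E A, cr_comm G A, cr_comm D B, cr_comm E B, cr_comm G B, cr_comm E D,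
      cr_comm G D, cr_comm G E] at l0000 l0001 l0002 l0011 l0012 l0111 l0022 l0112 l1111 l0122 l1112 l0222 l1122 l1222 l2222
    have AA : cr A A = 0 := s3 _ (by linear_combination (norm := module) l0000)
    have AB : cr A B = 0 := s3 _ (by linear_combination (norm := module) l0001)
    have AD : cr A D = 0 := s3 _ (by linear_combination (norm := module) l0002)
    have BB : cr B B = 0 := s2 _ (by linear_combination (norm := module) l0011 - AD)
    have BD : cr B D = 0 := s3 _ (by linear_combination (norm := module) l0111)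
    have AE : cr A E = 0 := by linear_combination (norm := module) l0012 - (2 : k) • BD
    have DD : cr D D = 0 := s3 _ (by linear_combination (norm := module) l1111)
    have AG : cr A G = 0 := by linear_combination (norm := module) l0022 - (2 : k) • DD
    have BE : cr B E = 0 := s2 _ (by linear_combination (norm := module) l0112 - DD)
    have DE : cr D E = 0 := s3 _ (by linear_combination (norm := module) l1112)
    have BG : cr B G = 0 := by linear_combination (norm := module) l0122 - (2 : k) • DE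
    have DG : cr D G = 0 := s3 _ (by linear_combination (norm := module) l0222)
    have EE : cr E E = 0 := s2 _ (by linear_combination (norm := module) l1122 - DG)
    have EG : cr E G = 0 := s3 _ (by linear_combination (norm := module) l1222)
    have GG : cr G G = 0 := s3 _ (by linear_combination (norm := module) l2222)
    have BA : cr B A = 0 := by rw [cr_comm, AB]
    have DA : cr D A = 0 := by rw [cr_comm, AD]
    have EA : cr E A = 0 := by rw [cr_comm, AE]
    have GA : cr G A = 0 := by rw [cr_comm, AG]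
    have DB : cr D B = 0 := by rw [cr_comm, BD]
    have EB : cr E B = 0 := by rw [cr_comm, BE]
    have GB : cr G B = 0 := by rw [cr_comm, BG]
    have ED : cr E D = 0 := by rw [cr_comm, DE]
    have GD : cr G D = 0 := by rw [cr_comm, DG]
    have GE : cr G E = 0 := by rw [cr_comm, EG]
    intro y hy y' hy'
    simp only [Set.mem_insert_iff, Set.mem_singleton_iff] at hy hy'
    rcases hy with rfl | rfl | rfl | rfl | rfl <;> rcases hy' with rfl | rfl | rfl | rfl | rfl <;> assumption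

end two

end Cfsg.Agent.R2.H22.Loc
end

-- part: R2/H22/L4
section
/-!
# L4 : submodules `V_{4 p^i}` (helper22)

`four_sh_ne` : the square of the highest weight vector of a submodule `V_{4 p^i}` does not vanish (`p ≥ 5`, `q > 8`).
-/

set_option autoImplicit false
set_option linter.unusedSectionVars false
set_option linter.unusedSimpArgs false

namespace Cfsg.Agent.R2.H22.Loc

open Matrix Cfsg.Agent.H943.SL2Rel Cfsg.Agent.H943.SL2Mod Cfsg.Agent.H943.RepAdd
open Cfsg.Lie Cfsg.Agent.R2.H28.SL2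
open Cfsg.Agent.ChevalleyStructure Cfsg.Agent.ChevalleyStructure.E6Form.Cubic
  Cfsg.Agent.ChevalleyStructure.E6Form.Table
open Cfsg.Agent.ChevalleyStructure.E6Min.Basic (Zgrp)
open Cfsg.Agent.H952.F4 (sh cr tf)
open Cfsg.Agent.H952.F4.Jord
open Cfsg.Agent.H163.E6 (V V')
open Cfsg.Agent.R2.GEO (Pair crB crB_apply tfB tfB_apply)

universe u v w

attribute [local irreducible] Cfsg.Agent.H952.F4.cr Cfsg.Agent.H952.F4.sh Cfsg.Agent.H952.F4.tf

variable {k : Type u} [Field k] [DecidableEq k] [IsAlgClosed k] {K : Type w} [Field K] [Fintype K] [DecidableEq K]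
  {ι : K →+* k} {p a : ℕ} [Fact p.Prime] [CharP k p] [CharP K p]
  {ψ : _root_.Matrix.SpecialLinearGroup (Fin 2) K →* ↥(Zgrp k)} {ρ ρ' : Representation k ↥(Zgrp k) (I27 → k)}

section four

variable {i : ℕ} {v : ℕ → I27 → k}

theorem four_u (c : Ch ι p (Rr ρ ψ) 4 i v) (t : K) :
    ρ (ψ (u t)) (v 0) = v 0 + (4 * ι t ^ p ^ i) • v 1 + (6 * (ι t ^ p ^ i) ^ 2) • v 2 + (4 * (ι t ^ p ^ i) ^ 3) • v 3 +
      ((ι t ^ p ^ i) ^ 4) • v 4 ∧
    ρ (ψ (u t)) (v 1) = v 1 + (3 * ι t ^ p ^ i) • v 2 + (3 * (ι t ^ p ^ i) ^ 2) • v 3 + ((ι t ^ p ^ i) ^ 3) • v 4 ∧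
    ρ (ψ (u t)) (v 2) = v 2 + (2 * ι t ^ p ^ i) • v 3 + ((ι t ^ p ^ i) ^ 2) • v 4 ∧
    ρ (ψ (u t)) (v 3) = v 3 + (ι t ^ p ^ i) • v 4 ∧ ρ (ψ (u t)) (v 4) = v 4 := by
  have h0 := c.u 0 (by norm_num) t
  have h1 := c.u 1 (by norm_num) t
  have h2 := c.u 2 (by norm_num) t
  have h3 := c.u 3 (by norm_num) t
  have h4 := c.u 4 (by norm_num) t
  simp only [Finset.sum_range_succ, Finset.sum_range_zero, Nat.choose, Rr_apply] at h0 h1 h2 h3 h4
  refine ⟨?_, ?_, ?_, ?_, ?_⟩
  · rw [h0]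
    norm_num
  · rw [h1]
    norm_num
  · rw [h2]
    norm_num
  · rw [h3]
    norm_num
  · rw [h4]
    norm_num

theorem four_w (c : Ch ι p (Rr ρ ψ) 4 i v) :
    ρ (ψ w) (v 0) = v 4 ∧ ρ (ψ w) (v 1) = -v 3 ∧ ρ (ψ w) (v 2) = v 2 ∧ ρ (ψ w) (v 3) = -v 1 ∧ ρ (ψ w) (v 4) = v 0 := by
  have h0 := c.w 0 (by norm_num)
  have h1 := c.w 1 (by norm_num)
  have h2 := c.w 2 (by norm_num)
  have h3 := c.w 3 (by norm_num)
  have h4 := c.w 4 (by norm_num)
  rw [Rr_apply] at h0 h1 h2 h3 h4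
  refine ⟨?_, ?_, ?_, ?_, ?_⟩
  · rw [h0]
    norm_num
  · rw [h1]
    norm_num
  · rw [h2]
    norm_num
  · rw [h3]
    norm_num
  · rw [h4]
    norm_num

theorem four_h (c : Ch ι p (Rr ρ ψ) 4 i v) (b : Kˣ) :
    ρ (ψ (h b)) (v 1) = (((ι b ^ p ^ i)⁻¹) ^ 2) • v 1 ∧ ρ (ψ (h b)) (v 2) = v 2 ∧
      ρ (ψ (h b)) (v 3) = ((ι b ^ p ^ i) ^ 2) • v 3 := by
  have h1 := c.h 1 (by norm_num) b
  have h2 := c.h 2 (by norm_num) b
  have h3 := c.h 3 (by norm_num) b
  rw [Rr_apply] at h1 h2 h3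
  have hb : (ι (b : K) ^ p ^ i) ≠ 0 := pow_ne_zero _ ((map_ne_zero ι).2 b.ne_zero)
  generalize ι (b : K) ^ p ^ i = x at *
  have e1 : x ^ 1 * x⁻¹ ^ (4 - 1) = x⁻¹ ^ 2 := by
    show x ^ 1 * x⁻¹ ^ 3 = x⁻¹ ^ 2
    field_simp
  have e2 : x ^ 2 * x⁻¹ ^ (4 - 2) = 1 := by
    show x ^ 2 * x⁻¹ ^ 2 = 1
    field_simp
  have e3 : x ^ 3 * x⁻¹ ^ (4 - 3) = x ^ 2 := by
    show x ^ 3 * x⁻¹ ^ 1 = x ^ 2
    field_simp
  rw [h1, h2, h3, e1, e2, e3, one_smul]
  exact ⟨rfl, rfl, rfl⟩

/-- the square of the highest weight vector -/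
theorem four_sh_ne (f : Fra p a ψ ρ ρ') (h5 : 5 ≤ p) (h9 : 9 ≤ Fintype.card K) (nts : Nts ψ ρ) (nts' : Nts ψ ρ')
    (c : Ch ι p (Rr ρ ψ) 4 i v) (hv : v 0 ≠ 0) : cr (v 4) (v 4) ≠ 0 := by
  intro k44
  apply hv
  have h2 : (2 : k) ≠ 0 := two_ne_zero' (ι := ι) f.odd
  have h3 : (3 : k) ≠ 0 := by
    intro h0
    have h1 : ((3 : ℕ) : k) = 0 := by exact_mod_cast h0
    rw [CharP.cast_eq_zero_iff k p] at h1
    have := (Nat.prime_dvd_prime_iff_eq (Fact.out : p.Prime) Nat.prime_three).1 h1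
    omega
  have can : ∀ (e : k) (x : I27 → k), e ≠ 0 → e • x = 0 → x = 0 := fun e x he hx => (smul_eq_zero.1 hx).resolve_left he
  have s8 : (8 : k) ≠ 0 := by
    rw [show (8 : k) = 2 ^ 3 by norm_num]
    exact pow_ne_zero _ h2
  have s4 : (4 : k) ≠ 0 := by
    rw [show (4 : k) = 2 ^ 2 by norm_num]
    exact pow_ne_zero _ h2
  have s24 : (24 : k) ≠ 0 := by
    rw [show (24 : k) = 2 ^ 3 * 3 by norm_num]
    exact mul_ne_zero (pow_ne_zero _ h2) h3
  have w' : ∀ x y, cr (ρ (ψ w) x) (ρ (ψ w) y) = ρ' (ψ w) (cr x y) := pair_cr f.pair _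
  have u' : ∀ t x y, cr (ρ (ψ (u t)) x) (ρ (ψ (u t)) y) = ρ' (ψ (u t)) (cr x y) := fun t => pair_cr f.pair _
  obtain ⟨w0, w1, w2, w3, w4⟩ := four_w c
  have c10 := cr_comm (v 1) (v 0)
  have c20 := cr_comm (v 2) (v 0)
  have c30 := cr_comm (v 3) (v 0)
  have c40 := cr_comm (v 4) (v 0)
  have c21 := cr_comm (v 2) (v 1)
  have c31 := cr_comm (v 3) (v 1)
  have c41 := cr_comm (v 4) (v 1)
  have c32 := cr_comm (v 3) (v 2)
  have c42 := cr_comm (v 4) (v 2)
  have c43 := cr_comm (v 4) (v 3)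
  have k00 : cr (v 0) (v 0) = 0 := by
    have h := w' (v 4) (v 4)
    rw [w4, k44, map_zero] at h
    exact h
  have hD : ∀ t : K, ρ' (ψ (u t)) (cr (v 0) (v 0)) = 0 := fun t => by rw [k00, map_zero]
  have hD' : ∀ t : K, (0 : I27 → k) + (ι t ^ p ^ i) • ((8 : k) • cr (v 0) (v 1)) +
      (ι t ^ p ^ i) ^ 2 • ((4 : k) • ((3 : k) • cr (v 0) (v 2) + (4 : k) • cr (v 1) (v 1))) +
      (ι t ^ p ^ i) ^ 3 • ((8 : k) • (cr (v 0) (v 3) + (6 : k) • cr (v 1) (v 2))) +
      (ι t ^ p ^ i) ^ 4 • ((2 : k) • (cr (v 0) (v 4) + (16 : k) • cr (v 1) (v 3) + (18 : k) • cr (v 2) (v 2))) +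
      (ι t ^ p ^ i) ^ 5 • ((8 : k) • (cr (v 1) (v 4) + (6 : k) • cr (v 2) (v 3))) +
      (ι t ^ p ^ i) ^ 6 • ((4 : k) • ((3 : k) • cr (v 2) (v 4) + (4 : k) • cr (v 3) (v 3))) +
      (ι t ^ p ^ i) ^ 7 • ((8 : k) • cr (v 3) (v 4)) + (ι t ^ p ^ i) ^ 8 • (0 : I27 → k) = 0 := by
    intro t
    have h := hD t
    rw [← u', (four_u c t).1] at h
    simp only [cr_add_left, cr_add_right, cr_smul_left, cr_smul_right, c10, c20, c30, c40, c21, c31, c41, c32, c42, c43,
      k00, k44] at h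
    linear_combination (norm := module) h
  obtain ⟨-, d1, d2, d3, d4, d5, d6, d7, -⟩ := coeff9 (ι := ι) (p := p) h9 hD'
  have k01 := can _ _ s8 d1
  have e2 := can _ _ s4 d2
  have e3 := can _ _ s8 d3
  have e4 := can _ _ h2 d4
  have e5 := can _ _ s8 d5
  have e6 := can _ _ s4 d6
  have k34 := can _ _ s8 d7
  -- the fixed vector
  have efix : (4 : k) • cr (v 1) (v 3) + (3 : k) • cr (v 2) (v 2) = 0 := by
    refine fix_zero f.swap (fun t => ?_) (fun b => ?_) ?_
    · obtain ⟨u0, u1, u2, u3, u4⟩ := four_u c t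
      rw [map_add, map_smul, map_smul, ← u', ← u', u1, u2, u3]
      simp only [cr_add_left, cr_add_right, cr_smul_left, cr_smul_right, c10, c20, c30, c40, c21, c31, c41, c32, c42, c43,
        k00, k44, k34]
      have e5' : cr (v 1) (v 4) = -((6 : k) • cr (v 2) (v 3)) := eq_neg_of_add_eq_zero_left e5
      rw [e5']
      linear_combination (norm := module) (6 * (ι t ^ p ^ i) ^ 2) • e6
    · obtain ⟨q1, q2, q3⟩ := four_h c b
      have hb : (ι (b : K) ^ p ^ i) ≠ 0 := pow_ne_zero _ ((map_ne_zero ι).2 b.ne_zero)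
      have e : ∀ z : I27 → k, ((ι (b : K) ^ p ^ i)⁻¹ ^ 2) • ((ι (b : K) ^ p ^ i) ^ 2) • z = z := fun z => by
        rw [smul_smul, ← mul_pow, inv_mul_cancel₀ hb, one_pow, one_smul]
      rw [map_add, map_smul, map_smul, ← pair_cr f.pair, ← pair_cr f.pair, q1, q2, q3, cr_smul_left, cr_smul_right, e]
    · rw [map_add, map_smul, map_smul, ← w', ← w', w1, w2, w3, ← neg_one_smul k (v 1), ← neg_one_smul k (v 3),
        cr_smul_left, cr_smul_right, c31]
      module
  -- the tables in terms of five vectors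
  obtain ⟨z0, hz0⟩ : ∃ z, z = cr (v 0) (v 2) + cr (v 1) (v 1) := ⟨_, rfl⟩
  obtain ⟨z1, hz1⟩ : ∃ z, z = cr (v 1) (v 2) := ⟨_, rfl⟩
  obtain ⟨z2, hz2⟩ : ∃ z, z = cr (v 1) (v 3) + cr (v 2) (v 2) := ⟨_, rfl⟩
  obtain ⟨z3, hz3⟩ : ∃ z, z = cr (v 2) (v 3) := ⟨_, rfl⟩
  obtain ⟨z4, hz4⟩ : ∃ z, z = cr (v 2) (v 4) + cr (v 3) (v 3) := ⟨_, rfl⟩
  have k11 : cr (v 1) (v 1) = (-3 : k) • z0 := by
    rw [hz0]
    linear_combination (norm := module) e2
  have k02 : cr (v 0) (v 2) = (4 : k) • z0 := by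
    rw [hz0]
    linear_combination (norm := module) -e2
  have k12 : cr (v 1) (v 2) = z1 := hz1.symm
  have k03 : cr (v 0) (v 3) = (-6 : k) • z1 := by
    rw [hz1]
    linear_combination (norm := module) e3
  have k22 : cr (v 2) (v 2) = (4 : k) • z2 := by
    rw [hz2]
    linear_combination (norm := module) -efix
  have k13 : cr (v 1) (v 3) = (-3 : k) • z2 := by
    rw [hz2]
    linear_combination (norm := module) efix
  have k04 : cr (v 0) (v 4) = (-24 : k) • z2 := by
    rw [hz2]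
    linear_combination (norm := module) e4 + (2 : k) • efix
  have k23 : cr (v 2) (v 3) = z3 := hz3.symm
  have k14 : cr (v 1) (v 4) = (-6 : k) • z3 := by
    rw [hz3]
    linear_combination (norm := module) e5
  have k24 : cr (v 2) (v 4) = (4 : k) • z4 := by
    rw [hz4]
    linear_combination (norm := module) -e6
  have k33 : cr (v 3) (v 3) = (-3 : k) • z4 := by
    rw [hz4]
    linear_combination (norm := module) e6
  -- the action on the five vectors
  have hw0 : ρ' (ψ w) z0 = z4 := by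
    rw [hz0, map_add, ← w', ← w', w0, w1, w2, ← neg_one_smul k (v 3), cr_smul_left, cr_smul_right, c42, hz4]
    module
  have hw1 : ρ' (ψ w) z1 = -z3 := by
    rw [hz1, ← w', w1, w2, ← neg_one_smul k (v 3), cr_smul_left, c32, hz3]
    module
  have hw2 : ρ' (ψ w) z2 = z2 := by
    rw [hz2, map_add, ← w', ← w', w1, w2, w3, ← neg_one_smul k (v 3), ← neg_one_smul k (v 1), cr_smul_left,
      cr_smul_right, c31]
    module
  have hw3 : ρ' (ψ w) z3 = -z1 := by
    rw [hz3, ← w', w2, w3, ← neg_one_smul k (v 1), cr_smul_right, c21, hz1]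
    module
  have hw4 : ρ' (ψ w) z4 = z0 := by
    rw [hz4, map_add, ← w', ← w', w2, w3, w4, ← neg_one_smul k (v 1), cr_smul_left, cr_smul_right, c20, hz0]
    module
  have hu2 : ∀ t, ρ' (ψ (u t)) z2 = z2 + (ι t ^ p ^ i) • z3 - ((ι t ^ p ^ i) ^ 2) • z4 := by
    intro t
    obtain ⟨u0, u1, u2, u3, u4⟩ := four_u c t
    have h : (4 : k) • ρ' (ψ (u t)) z2 = (4 : k) • (z2 + (ι t ^ p ^ i) • z3 - ((ι t ^ p ^ i) ^ 2) • z4) := by
      rw [← map_smul, ← k22, ← u', u2]
      simp only [cr_add_left, cr_add_right, cr_smul_left, cr_smul_right, c32, c42, c43, k22, k23, k24, k33, k34, k44]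
      module
    exact smul_right_injective _ s4 h
  have hu1 : ∀ t, ρ' (ψ (u t)) z1 = z1 + (6 * ι t ^ p ^ i) • z2 + (3 * (ι t ^ p ^ i) ^ 2) • z3 -
      (2 * (ι t ^ p ^ i) ^ 3) • z4 := by
    intro t
    obtain ⟨u0, u1, u2, u3, u4⟩ := four_u c t
    rw [← k12, ← u', u1, u2]
    simp only [cr_add_left, cr_add_right, cr_smul_left, cr_smul_right, c32, c42, c43, k12, k13, k14, k22, k23, k24, k33,
      k34, k44]
    module
  have hu0 : ∀ t, ρ' (ψ (u t)) z0 = z0 - (2 * ι t ^ p ^ i) • z1 - (6 * (ι t ^ p ^ i) ^ 2) • z2 -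
      (2 * (ι t ^ p ^ i) ^ 3) • z3 + ((ι t ^ p ^ i) ^ 4) • z4 := by
    intro t
    obtain ⟨u0, u1, u2, u3, u4⟩ := four_u c t
    have h : (-3 : k) • ρ' (ψ (u t)) z0 = (-3 : k) • (z0 - (2 * ι t ^ p ^ i) • z1 - (6 * (ι t ^ p ^ i) ^ 2) • z2 -
      (2 * (ι t ^ p ^ i) ^ 3) • z3 + ((ι t ^ p ^ i) ^ 4) • z4) := by
      rw [← map_smul, ← k11, ← u', u1]
      simp only [cr_add_left, cr_add_right, cr_smul_left, cr_smul_right, c21, c31, c41, c32, c42, c43, k11, k12, k13,
        k14, k22, k23, k24, k33, k34, k44]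
      module
    exact smul_right_injective _ (neg_ne_zero.2 h3) h
  -- the products
  have W : ∀ x y, cr (ρ' (ψ w) x) (ρ' (ψ w) y) = ρ (ψ w) (cr x y) := pair_cr f.pair.swap _
  have U : ∀ t x y, cr (ρ' (ψ (u t)) x) (ρ' (ψ (u t)) y) = ρ (ψ (u t)) (cr x y) := fun t => pair_cr f.pair.swap _
  have x10 := cr_comm z1 z0
  have x20 := cr_comm z2 z0
  have x30 := cr_comm z3 z0
  have x40 := cr_comm z4 z0
  have x21 := cr_comm z2 z1
  have x31 := cr_comm z3 z1
  have x41 := cr_comm z4 z1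
  have x32 := cr_comm z3 z2
  have x42 := cr_comm z4 z2
  have x43 := cr_comm z4 z3
  have z22 : cr z2 z2 = 0 := by
    have h := cr4 (v 0) (v 4) (v 0) (v 4)
    rw [k00, k44, cr_zero_left, tf_zero_left, c40, tf_cr (v 0) (v 4) (v 0), c40, ← tf_cr, k00, tf_zero_left,
      tf_cr (v 0) (v 4) (v 4), k44, tf_zero_right, k04, cr_smul_left, cr_smul_right] at h
    have h' : (1152 : k) • cr z2 z2 = 0 := by linear_combination (norm := module) h
    refine can _ _ ?_ h'
    rw [show (1152 : k) = 2 ^ 7 * 3 ^ 2 by norm_num]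
    exact mul_ne_zero (pow_ne_zero _ h2) (pow_ne_zero _ h3)
  have h5' : 5 ≤ Fintype.card K := by omega
  have h6' : 6 ≤ Fintype.card K := by omega
  have g2 : ∀ t : K, (0 : I27 → k) + (ι t ^ p ^ i) • ((2 : k) • cr z2 z3) +
      (ι t ^ p ^ i) ^ 2 • (cr z3 z3 - (2 : k) • cr z2 z4) +
      (ι t ^ p ^ i) ^ 3 • ((-2 : k) • cr z3 z4) + (ι t ^ p ^ i) ^ 4 • cr z4 z4 = 0 := by
    intro t
    have h := U t z2 z2
    rw [z22, map_zero, hu2] at h
    simp only [sub_eq_add_neg, ← neg_smul, cr_add_left, cr_add_right, cr_smul_left, cr_smul_right, x32, x42, x43, z22] at h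
    linear_combination (norm := module) h
  obtain ⟨-, a1, a2, a3, z44⟩ := coeff5 (ι := ι) (p := p) h5' g2
  have z23 := can _ _ h2 a1
  have z34 := can _ _ (neg_ne_zero.2 h2) a3
  have z12 : cr z1 z2 = 0 := by
    have h := W z2 z3
    rw [z23, map_zero, hw2, hw3, ← neg_one_smul k z1, cr_smul_right, x21] at h
    exact can _ _ (neg_ne_zero.2 one_ne_zero) h
  have z01 : cr z0 z1 = 0 := by
    have h := W z4 z3
    rw [x43, z34, map_zero, hw4, hw3, ← neg_one_smul k z1, cr_smul_right] at h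
    exact can _ _ (neg_ne_zero.2 one_ne_zero) h
  have z00 : cr z0 z0 = 0 := by
    have h := W z4 z4
    rw [z44, map_zero, hw4] at h
    exact h
  have g1 : ∀ t : K, (0 : I27 → k) + (ι t ^ p ^ i) • cr z1 z3 +
      (ι t ^ p ^ i) ^ 2 • (-cr z1 z4) +
      (ι t ^ p ^ i) ^ 3 • ((3 : k) • cr z3 z3 - (8 : k) • cr z2 z4) + (ι t ^ p ^ i) ^ 4 • (0 : I27 → k) = 0 := by
    intro t
    have h := U t z1 z2
    rw [z12, map_zero, hu1, hu2] at h
    simp only [sub_eq_add_neg, ← neg_smul, cr_add_left, cr_add_right, cr_smul_left, cr_smul_right, x32, x42, x43, z22,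
      z23, z34, z44, z12] at h
    linear_combination (norm := module) h
  obtain ⟨-, z13, b2, b3, -⟩ := coeff5 (ι := ι) (p := p) h5' g1
  have z14 : cr z1 z4 = 0 := neg_eq_zero.1 b2
  have z24 : cr z2 z4 = 0 := by
    have h : (-2 : k) • cr z2 z4 = 0 := by linear_combination (norm := module) b3 - (3 : k) • a2
    exact can _ _ (neg_ne_zero.2 h2) h
  have z33 : cr z3 z3 = 0 := by
    rw [z24, smul_zero, sub_zero] at a2
    exact a2
  have z02 : cr z0 z2 = 0 := by
    have h := W z4 z2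
    rw [x42, z24, map_zero, hw4, hw2] at h
    exact h
  have z11 : cr z1 z1 = 0 := by
    have h := W z3 z3
    rw [z33, map_zero, hw3, ← neg_one_smul k z1, cr_smul_right, cr_smul_left] at h
    exact can _ _ (neg_ne_zero.2 one_ne_zero) (can _ _ (neg_ne_zero.2 one_ne_zero) h)
  have z03 : cr z0 z3 = 0 := by
    have h := W z4 z1
    rw [x41, z14, map_zero, hw4, hw1, ← neg_one_smul k z3, cr_smul_right] at h
    exact can _ _ (neg_ne_zero.2 one_ne_zero) h
  have g0 : ∀ t : K, (0 : I27 → k) + (ι t ^ p ^ i) • (0 : I27 → k) +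
      (ι t ^ p ^ i) ^ 2 • (-cr z0 z4) +
      (ι t ^ p ^ i) ^ 3 • (0 : I27 → k) + (ι t ^ p ^ i) ^ 4 • (0 : I27 → k) = 0 := by
    intro t
    have h := U t z0 z2
    rw [z02, map_zero, hu0, hu2] at h
    simp only [sub_eq_add_neg, ← neg_smul, cr_add_left, cr_add_right, cr_smul_left, cr_smul_right, x32, x42, x43, z22,
      z23, z34, z44, z12, z13, z14, z24, z33, z02, z03, x21] at h
    linear_combination (norm := module) h
  obtain ⟨-, -, d2', -, -⟩ := coeff5 (ι := ι) (p := p) h5' g0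
  have z04 : cr z0 z4 = 0 := neg_eq_zero.1 d2'
  refine sq_bot' (T := {z0, z1, z2, z3, z4}) f h2 nts nts' c.stab ?_ ?_ (v 0) ⟨0, rfl⟩
  · have hz : ∀ s, 4 < s → v s = 0 := c.zero
    have m0 : z0 ∈ Submodule.span k ({z0, z1, z2, z3, z4} : Set (I27 → k)) := Submodule.subset_span (by simp)
    have m1 : z1 ∈ Submodule.span k ({z0, z1, z2, z3, z4} : Set (I27 → k)) := Submodule.subset_span (by simp)
    have m2 : z2 ∈ Submodule.span k ({z0, z1, z2, z3, z4} : Set (I27 → k)) := Submodule.subset_span (by simp)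
    have m3 : z3 ∈ Submodule.span k ({z0, z1, z2, z3, z4} : Set (I27 → k)) := Submodule.subset_span (by simp)
    have m4 : z4 ∈ Submodule.span k ({z0, z1, z2, z3, z4} : Set (I27 → k)) := Submodule.subset_span (by simp)
    rintro _ ⟨x, rfl⟩ _ ⟨y, rfl⟩
    rcases lt_or_ge 4 x with hx | hx
    · rw [hz x hx, cr_zero_left]
      exact Submodule.zero_mem _
    rcases lt_or_ge 4 y with hy | hy
    · rw [hz y hy, cr_zero_right]
      exact Submodule.zero_mem _
    interval_cases x <;> interval_cases y <;>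
      simp only [c10, c20, c30, c40, c21, c31, c41, c32, c42, c43, k00, k01, k02, k03, k04, k11, k12, k13, k14, k22, k23,
        k24, k33, k34, k44] <;>
      first | exact Submodule.zero_mem _ | assumption | (apply Submodule.smul_mem; assumption)
  · intro y hy y' hy'
    simp only [Set.mem_insert_iff, Set.mem_singleton_iff] at hy hy'
    rcases hy with rfl | rfl | rfl | rfl | rfl <;> rcases hy' with rfl | rfl | rfl | rfl | rfl <;>
      simp only [x10, x20, x30, x40, x21, x31, x41, x32, x42, x43, z00, z01, z02, z03, z04, z11, z12, z13, z14, z22, z23,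
        z24, z33, z34, z44]

end four

end Cfsg.Agent.R2.H22.Loc
end
end

-- part: R2/H22/L11
section
prune_inst 0x4010000
set_option linter.all false
open scoped Cfsg.Agent.FastGrp

/-!
# L11 : `V_{p^i + p^j}` is not a submodule (helper22)
-/

set_option autoImplicit false
set_option linter.unusedSectionVars false
set_option linter.unusedSimpArgs false
set_option linter.unusedVariables false

namespace Cfsg.Agent.R2.H22.Loc

open Matrix Cfsg.Agent.H943.SL2Rel Cfsg.Agent.H943.SL2Mod Cfsg.Agent.H943.RepAdd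
open Cfsg.Lie Cfsg.Agent.R2.H28.SL2
open Cfsg.Agent.ChevalleyStructure Cfsg.Agent.ChevalleyStructure.E6Form.Cubic
  Cfsg.Agent.ChevalleyStructure.E6Form.Table
open Cfsg.Agent.ChevalleyStructure.E6Min.Basic (Zgrp)
open Cfsg.Agent.H952.F4 (sh cr tf)
open Cfsg.Agent.H952.F4.Jord
open Cfsg.Agent.H163.E6 (V V')
open Cfsg.Agent.R2.GEO (Pair crB crB_apply tfB tfB_apply)

universe u v w

attribute [local irreducible] Cfsg.Agent.H952.F4.cr Cfsg.Agent.H952.F4.sh Cfsg.Agent.H952.F4.tf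

variable {k : Type u} [Field k] [DecidableEq k] [IsAlgClosed k] {K : Type w} [Field K] [Fintype K] [DecidableEq K]
  {ι : K →+* k} {p a : ℕ} [Fact p.Prime] [CharP k p] [CharP K p]
  {ψ : SpecialLinearGroup (Fin 2) K →* ↥(Zgrp k)} {ρ ρ' : Representation k ↥(Zgrp k) (I27 → k)}

/-- the multiplication table of the square of `V_{p^i + p^j}` -/
structure T11 (y00 y01 y02 y10 y11 y12 y20 y21 y22 : I27 → k) : Prop where
  t_y00_y00 : cr y00 y00 = 0
  t_y00_y01 : cr y00 y01 = 0
  t_y00_y02 : cr y00 y02 = (-2 : k) • cr y01 y01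
  t_y00_y10 : cr y00 y10 = 0
  t_y00_y11 : cr y00 y11 = 0
  t_y00_y12 : cr y00 y12 = (-2 : k) • cr y01 y11
  t_y00_y20 : cr y00 y20 = (-2 : k) • cr y10 y10
  t_y00_y21 : cr y00 y21 = (-2 : k) • cr y10 y11
  t_y00_y22 : cr y00 y22 = (-2 : k) • cr y11 y11
  t_y01_y02 : cr y01 y02 = 0
  t_y01_y10 : cr y01 y10 = 0
  t_y01_y12 : cr y01 y12 = 0
  t_y01_y20 : cr y01 y20 = (-2 : k) • cr y10 y11
  t_y01_y22 : cr y01 y22 = (-2 : k) • cr y11 y12
  t_y02_y02 : cr y02 y02 = 0
  t_y02_y10 : cr y02 y10 = (-2 : k) • cr y01 y11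
  t_y02_y11 : cr y02 y11 = 0
  t_y02_y12 : cr y02 y12 = 0
  t_y02_y20 : cr y02 y20 = (-2 : k) • cr y11 y11
  t_y02_y21 : cr y02 y21 = (-2 : k) • cr y11 y12
  t_y02_y22 : cr y02 y22 = (-2 : k) • cr y12 y12
  t_y10_y12 : cr y10 y12 = (-1 : k) • cr y11 y11 + (-1 : k) • cr y01 y21
  t_y10_y20 : cr y10 y20 = 0
  t_y10_y21 : cr y10 y21 = 0
  t_y10_y22 : cr y10 y22 = (-2 : k) • cr y11 y21
  t_y11_y20 : cr y11 y20 = 0
  t_y11_y22 : cr y11 y22 = 0
  t_y12_y20 : cr y12 y20 = (-2 : k) • cr y11 y21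
  t_y12_y21 : cr y12 y21 = 0
  t_y12_y22 : cr y12 y22 = 0
  t_y20_y20 : cr y20 y20 = 0
  t_y20_y21 : cr y20 y21 = 0
  t_y20_y22 : cr y20 y22 = (-2 : k) • cr y21 y21
  t_y21_y22 : cr y21 y22 = 0
  t_y22_y22 : cr y22 y22 = 0

theorem T11.of {x0 x1 x2 x3 : I27 → k} (h2 : (2 : k) ≠ 0) (h3 : (3 : k) ≠ 0) (fix : cr x0 x3 = cr x1 x2)
    (L : ∀ x y z t : I27 → k, x ∈ ({x0, x1, x2, x3} : Set (I27 → k)) → y ∈ ({x0, x1, x2, x3} : Set (I27 → k)) →
      z ∈ ({x0, x1, x2, x3} : Set (I27 → k)) → t ∈ ({x0, x1, x2, x3} : Set (I27 → k)) →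
      cr (cr x y) (cr z t) + cr (cr x z) (cr y t) + cr (cr x t) (cr y z) = 0) :
    T11 (cr x0 x0) (cr x0 x2) (cr x2 x2) (cr x0 x1) (cr x0 x3) (cr x2 x3) (cr x1 x1) (cr x1 x3) (cr x3 x3) := by
  have can : ∀ (e : k) (x : I27 → k), e ≠ 0 → e • x = 0 → x = 0 := fun e x he hx => (smul_eq_zero.1 hx).resolve_left he
  have s3 : (3 : k) ≠ 0 := h3
  have s6 : (6 : k) ≠ 0 := by
    rw [show (6 : k) = 2 * 3 by norm_num]
    exact mul_ne_zero h2 h3
  have c10 := cr_comm x1 x0
  have c20 := cr_comm x2 x0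
  have c21 := cr_comm x2 x1
  have c30 := cr_comm x3 x0
  have c31 := cr_comm x3 x1
  have c32 := cr_comm x3 x2
  have fix' : cr x1 x2 = cr x0 x3 := fix.symm
  have l0000 := L x0 x0 x0 x0 (by simp) (by simp) (by simp) (by simp)
  have l0001 := L x0 x0 x0 x1 (by simp) (by simp) (by simp) (by simp)
  have l0002 := L x0 x0 x0 x2 (by simp) (by simp) (by simp) (by simp)
  have l0003 := L x0 x0 x0 x3 (by simp) (by simp) (by simp) (by simp)
  have l0011 := L x0 x0 x1 x1 (by simp) (by simp) (by simp) (by simp)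
  have l0012 := L x0 x0 x1 x2 (by simp) (by simp) (by simp) (by simp)
  have l0013 := L x0 x0 x1 x3 (by simp) (by simp) (by simp) (by simp)
  have l0022 := L x0 x0 x2 x2 (by simp) (by simp) (by simp) (by simp)
  have l0023 := L x0 x0 x2 x3 (by simp) (by simp) (by simp) (by simp)
  have l0033 := L x0 x0 x3 x3 (by simp) (by simp) (by simp) (by simp)
  have l0111 := L x0 x1 x1 x1 (by simp) (by simp) (by simp) (by simp)
  have l0112 := L x0 x1 x1 x2 (by simp) (by simp) (by simp) (by simp)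
  have l0113 := L x0 x1 x1 x3 (by simp) (by simp) (by simp) (by simp)
  have l0122 := L x0 x1 x2 x2 (by simp) (by simp) (by simp) (by simp)
  have l0123 := L x0 x1 x2 x3 (by simp) (by simp) (by simp) (by simp)
  have l0133 := L x0 x1 x3 x3 (by simp) (by simp) (by simp) (by simp)
  have l0222 := L x0 x2 x2 x2 (by simp) (by simp) (by simp) (by simp)
  have l0223 := L x0 x2 x2 x3 (by simp) (by simp) (by simp) (by simp)
  have l0233 := L x0 x2 x3 x3 (by simp) (by simp) (by simp) (by simp)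
  have l0333 := L x0 x3 x3 x3 (by simp) (by simp) (by simp) (by simp)
  have l1111 := L x1 x1 x1 x1 (by simp) (by simp) (by simp) (by simp)
  have l1112 := L x1 x1 x1 x2 (by simp) (by simp) (by simp) (by simp)
  have l1113 := L x1 x1 x1 x3 (by simp) (by simp) (by simp) (by simp)
  have l1122 := L x1 x1 x2 x2 (by simp) (by simp) (by simp) (by simp)
  have l1123 := L x1 x1 x2 x3 (by simp) (by simp) (by simp) (by simp)
  have l1133 := L x1 x1 x3 x3 (by simp) (by simp) (by simp) (by simp)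
  have l1222 := L x1 x2 x2 x2 (by simp) (by simp) (by simp) (by simp)
  have l1223 := L x1 x2 x2 x3 (by simp) (by simp) (by simp) (by simp)
  have l1233 := L x1 x2 x3 x3 (by simp) (by simp) (by simp) (by simp)
  have l1333 := L x1 x3 x3 x3 (by simp) (by simp) (by simp) (by simp)
  have l2222 := L x2 x2 x2 x2 (by simp) (by simp) (by simp) (by simp)
  have l2223 := L x2 x2 x2 x3 (by simp) (by simp) (by simp) (by simp)
  have l2233 := L x2 x2 x3 x3 (by simp) (by simp) (by simp) (by simp)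
  have l2333 := L x2 x3 x3 x3 (by simp) (by simp) (by simp) (by simp)
  have l3333 := L x3 x3 x3 x3 (by simp) (by simp) (by simp) (by simp)
  simp only [c10, c20, c30, c21, c31, c32, fix'] at l0000 l0001 l0002 l0003 l0011 l0012 l0013 l0022 l0023 l0033 l0111 l0112 l0113 l0122 l0123 l0133 l0222 l0223 l0233 l0333 l1111 l1112 l1113 l1122 l1123 l1133 l1222 l1223 l1233 l1333 l2222 l2223 l2233 l2333 l3333
  clear L
  generalize cr x0 x0 = y00 at *
  generalize cr x0 x2 = y01 at *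
  generalize cr x2 x2 = y02 at *
  generalize cr x0 x1 = y10 at *
  generalize cr x0 x3 = y11 at *
  generalize cr x2 x3 = y12 at *
  generalize cr x1 x1 = y20 at *
  generalize cr x1 x3 = y21 at *
  generalize cr x3 x3 = y22 at *
  simp only [cr_comm y01 y00, cr_comm y02 y00, cr_comm y02 y01, cr_comm y10 y00, cr_comm y10 y01, cr_comm y10 y02, cr_comm y11 y00, cr_comm y11 y01, cr_comm y11 y02, cr_comm y11 y10, cr_comm y12 y00, cr_comm y12 y01, cr_comm y12 y02, cr_comm y12 y10, cr_comm y12 y11, cr_comm y20 y00, cr_comm y20 y01, cr_comm y20 y02, cr_comm y20 y10, cr_comm y20 y11, cr_comm y20 y12, cr_comm y21 y00, cr_comm y21 y01, cr_comm y21 y02, cr_comm y21 y10, cr_comm y21 y11, cr_comm y21 y12, cr_comm y21 y20, cr_comm y22 y00, cr_comm y22 y01, cr_comm y22 y02, cr_comm y22 y10, cr_comm y22 y11, cr_comm y22 y12, cr_comm y22 y20, cr_comm y22 y21] at l0000 l0001 l0002 l0003 l0011 l0012 l0013 l0022 l0023 l0033 l0111 l0112 l0113 l0122 l0123 l0133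 l0222 l0223 l0233 l0333 l1111 l1112 l1113 l1122 l1123 l1133 l1222 l1223 l1233 l1333 l2222 l2223 l2233 l2333 l3333
  have t_y00_y00 : cr y00 y00 = 0 := can (3 : k) _ s3 (by linear_combination (norm := module) (1 : k) • l0000)
  have t_y00_y01 : cr y00 y01 = 0 := can (3 : k) _ s3 (by linear_combination (norm := module) (1 : k) • l0002)
  have t_y00_y02 : cr y00 y02 = (-2 : k) • cr y01 y01 := by linear_combination (norm := module) (1 : k) • l0022
  have t_y00_y10 : cr y00 y10 = 0 := can (3 : k) _ s3 (by linear_combination (norm := module) (1 : k) • l0001)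
  have t_y00_y11 : cr y00 y11 = 0 := can (3 : k) _ s3 (by linear_combination (norm := module) (1 : k) • l0003)
  have t_y00_y12 : cr y00 y12 = (-2 : k) • cr y01 y11 := by linear_combination (norm := module) (1 : k) • l0023
  have t_y00_y20 : cr y00 y20 = (-2 : k) • cr y10 y10 := by linear_combination (norm := module) (1 : k) • l0011
  have t_y00_y21 : cr y00 y21 = (-2 : k) • cr y10 y11 := by linear_combination (norm := module) (1 : k) • l0013
  have t_y00_y22 : cr y00 y22 = (-2 : k) • cr y11 y11 := by linear_combination (norm := module) (1 : k) • l0033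
  have t_y01_y02 : cr y01 y02 = 0 := can (3 : k) _ s3 (by linear_combination (norm := module) (1 : k) • l0222)
  have t_y01_y10 : cr y01 y10 = 0 := can (6 : k) _ s6 (by linear_combination (norm := module) (-1 : k) • l0003 + (3 : k) • l0012)
  have t_y01_y12 : cr y01 y12 = 0 := can (6 : k) _ s6 (by linear_combination (norm := module) (3 : k) • l0223 + (-1 : k) • l1222)
  have t_y01_y20 : cr y01 y20 = (-2 : k) • cr y10 y11 := by linear_combination (norm := module) (1 : k) • l0112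
  have t_y01_y22 : cr y01 y22 = (-2 : k) • cr y11 y12 := by linear_combination (norm := module) (1 : k) • l0233
  have t_y02_y02 : cr y02 y02 = 0 := can (3 : k) _ s3 (by linear_combination (norm := module) (1 : k) • l2222)
  have t_y02_y10 : cr y02 y10 = (-2 : k) • cr y01 y11 := by linear_combination (norm := module) (1 : k) • l0122
  have t_y02_y11 : cr y02 y11 = 0 := can (3 : k) _ s3 (by linear_combination (norm := module) (1 : k) • l1222)
  have t_y02_y12 : cr y02 y12 = 0 := can (3 : k) _ s3 (by linear_combination (norm := module) (1 : k) • l2223)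
  have t_y02_y20 : cr y02 y20 = (-2 : k) • cr y11 y11 := by linear_combination (norm := module) (1 : k) • l1122
  have t_y02_y21 : cr y02 y21 = (-2 : k) • cr y11 y12 := by linear_combination (norm := module) (1 : k) • l1223
  have t_y02_y22 : cr y02 y22 = (-2 : k) • cr y12 y12 := by linear_combination (norm := module) (1 : k) • l2233
  have t_y10_y12 : cr y10 y12 = (-1 : k) • cr y11 y11 + (-1 : k) • cr y01 y21 := by linear_combination (norm := module) (1 : k) • l0123
  have t_y10_y20 : cr y10 y20 = 0 := can (3 : k) _ s3 (by linear_combination (norm := module) (1 : k) • l0111)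
  have t_y10_y21 : cr y10 y21 = 0 := can (6 : k) _ s6 (by linear_combination (norm := module) (3 : k) • l0113 + (-1 : k) • l1112)
  have t_y10_y22 : cr y10 y22 = (-2 : k) • cr y11 y21 := by linear_combination (norm := module) (1 : k) • l0133
  have t_y11_y20 : cr y11 y20 = 0 := can (3 : k) _ s3 (by linear_combination (norm := module) (1 : k) • l1112)
  have t_y11_y22 : cr y11 y22 = 0 := can (3 : k) _ s3 (by linear_combination (norm := module) (1 : k) • l0333)
  have t_y12_y20 : cr y12 y20 = (-2 : k) • cr y11 y21 := by linear_combination (norm := module) (1 : k) • l1123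
  have t_y12_y21 : cr y12 y21 = 0 := can (6 : k) _ s6 (by linear_combination (norm := module) (-1 : k) • l0333 + (3 : k) • l1233)
  have t_y12_y22 : cr y12 y22 = 0 := can (3 : k) _ s3 (by linear_combination (norm := module) (1 : k) • l2333)
  have t_y20_y20 : cr y20 y20 = 0 := can (3 : k) _ s3 (by linear_combination (norm := module) (1 : k) • l1111)
  have t_y20_y21 : cr y20 y21 = 0 := can (3 : k) _ s3 (by linear_combination (norm := module) (1 : k) • l1113)
  have t_y20_y22 : cr y20 y22 = (-2 : k) • cr y21 y21 := by linear_combination (norm := module) (1 : k) • l1133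
  have t_y21_y22 : cr y21 y22 = 0 := can (3 : k) _ s3 (by linear_combination (norm := module) (1 : k) • l1333)
  have t_y22_y22 : cr y22 y22 = 0 := can (3 : k) _ s3 (by linear_combination (norm := module) (1 : k) • l3333)
  exact ⟨t_y00_y00, t_y00_y01, t_y00_y02, t_y00_y10, t_y00_y11, t_y00_y12, t_y00_y20, t_y00_y21, t_y00_y22, t_y01_y02, t_y01_y10, t_y01_y12, t_y01_y20, t_y01_y22, t_y02_y02, t_y02_y10, t_y02_y11, t_y02_y12, t_y02_y20, t_y02_y21, t_y02_y22, t_y10_y12, t_y10_y20, t_y10_y21, t_y10_y22, t_y11_y20, t_y11_y22, t_y12_y20, t_y12_y21, t_y12_y22, t_y20_y20, t_y20_y21, t_y20_y22, t_y21_y22, t_y22_y22⟩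

end Cfsg.Agent.R2.H22.Loc
end

-- part: R2/H22/P11
section
prune_inst 0x2024040062000000040580310000850000040000400000a824000a010080408900080108200012000880000000006000000010400000000a000000000100000000120480080000000000000080010000000000000000000000000000000004004010000
set_option linter.all false
open scoped Cfsg.Agent.FastGrp

/-!
# L11 : `V_{p^i + p^j}` is not a submodule, second part (helper22)
-/

set_option autoImplicit false
set_option linter.unusedSectionVars false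
set_option linter.unusedSimpArgs false
set_option linter.unusedVariables false

namespace Cfsg.Agent.R2.H22.Loc

open Matrix Cfsg.Agent.H943.SL2Rel Cfsg.Agent.H943.SL2Mod Cfsg.Agent.H943.RepAdd
open Cfsg.Lie Cfsg.Agent.R2.H28.SL2
open Cfsg.Agent.ChevalleyStructure Cfsg.Agent.ChevalleyStructure.E6Form.Cubic
  Cfsg.Agent.ChevalleyStructure.E6Form.Table
open Cfsg.Agent.ChevalleyStructure.E6Min.Basic (Zgrp)
open Cfsg.Agent.H952.F4 (sh cr tf)
open Cfsg.Agent.H952.F4.Jord
open Cfsg.Agent.H163.E6 (V V')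
open Cfsg.Agent.R2.GEO (Pair crB crB_apply tfB tfB_apply)

universe u v w

attribute [local irreducible] Cfsg.Agent.H952.F4.cr Cfsg.Agent.H952.F4.sh Cfsg.Agent.H952.F4.tf

variable {k : Type u} [Field k] [DecidableEq k] [IsAlgClosed k] {K : Type w} [Field K] [Fintype K] [DecidableEq K]
  {ι : K →+* k} {p a : ℕ} [Fact p.Prime] [CharP k p] [CharP K p]
  {ψ : _root_.Matrix.SpecialLinearGroup (Fin 2) K →* ↥(Zgrp k)} {ρ ρ' : Representation k ↥(Zgrp k) (I27 → k)}

section num

/-- a unit `b` with `b ^ N ≠ 1` -/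
theorem exists_zpow {N : ℤ} (h0 : N ≠ 0) (hN : N.natAbs < Fintype.card K - 1) : ∃ b : Kˣ, (ι (b : K)) ^ N ≠ 1 := by
  classical
  by_contra hcon
  push Not at hcon
  have h1 : ∀ b : Kˣ, b ^ N.natAbs = 1 := by
    intro b
    have h2 := hcon b
    rw [← map_zpow₀] at h2
    have h3 : (b : K) ^ N = 1 := ι.injective (by rw [h2, map_one])
    have h4 : b ^ N = 1 := by
      apply Units.ext
      rw [Units.val_zpow_eq_zpow_val, h3, Units.val_one]
    rcases Int.natAbs_eq N with h5 | h5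
    · rw [h5, zpow_natCast] at h4
      exact h4
    · rw [h5, _root_.zpow_neg, zpow_natCast, inv_eq_one] at h4
      exact h4
  have h2 := IsCyclic.card_pow_eq_one_le (α := Kˣ) (Int.natAbs_pos.2 h0)
  rw [Finset.filter_true_of_mem (fun b _ => h1 b), Finset.card_univ, Fintype.card_units] at h2
  omega

theorem num_lt {p a i j : ℕ} (hp : 5 ≤ p) (hij : i ≠ j) (hi : i < a) (hj : j < a) : 3 * (p ^ i + p ^ j) < p ^ a - 1 := by
  have key : ∀ {i j : ℕ}, i < j → j < a → 3 * (p ^ i + p ^ j) < p ^ a - 1 := by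
    intro i j hij hj
    obtain ⟨d, rfl⟩ : ∃ d, a = d + 2 := ⟨a - 2, by omega⟩
    have h1 : p ^ i ≤ p ^ d := Nat.pow_le_pow_right (by omega) (by omega)
    have h2 : p ^ j ≤ p ^ (d + 1) := Nat.pow_le_pow_right (by omega) (by omega)
    have h3 : p ^ (d + 1) = p * p ^ d := pow_succ' p d
    have h4 : p ^ (d + 2) = p * (p * p ^ d) := by rw [pow_succ', pow_succ']
    have h5 : 0 < p ^ d := Nat.pow_pos (by omega)
    have h6 : 25 * p ^ d ≤ p * (p * p ^ d) := by
      have : 5 * (5 * p ^ d) ≤ p * (p * p ^ d) := Nat.mul_le_mul hp (Nat.mul_le_mul_right _ hp)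
      omega
    have h7 : 5 * (p * p ^ d) ≤ p * (p * p ^ d) := Nat.mul_le_mul_right _ hp
    omega
  rcases Nat.lt_or_gt_of_ne hij with h | h
  · exact key h hj
  · rw [add_comm]
    exact key h hi

theorem num_ne {p i j : ℕ} (hp : 5 ≤ p) (hij : i ≠ j) {E F : ℤ} (hE : E ≠ 0) (hF : F ≠ 0) (hE3 : |E| ≤ 3)
    (hF3 : |F| ≤ 3) : (p : ℤ) ^ i * E + (p : ℤ) ^ j * F ≠ 0 := by
  have key : ∀ {i j : ℕ} {E F : ℤ}, E ≠ 0 → F ≠ 0 → |E| ≤ 3 → i < j → (p : ℤ) ^ i * E + (p : ℤ) ^ j * F ≠ 0 := by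
    intro i j E F hE hF hE3 hij h0
    obtain ⟨d, rfl⟩ : ∃ d, j = i + (d + 1) := ⟨j - i - 1, by omega⟩
    have hp0 : (p : ℤ) ≠ 0 := by
      have : (5 : ℤ) ≤ p := by exact_mod_cast hp
      omega
    have h1 : (p : ℤ) ^ i * (E + (p : ℤ) ^ (d + 1) * F) = 0 := by
      rw [← h0, pow_add]
      ring
    have h2 := (mul_eq_zero.1 h1).resolve_left (pow_ne_zero _ hp0)
    have h3 : |E| = (p : ℤ) ^ (d + 1) * |F| := by
      have h4 : E = -((p : ℤ) ^ (d + 1) * F) := by linear_combination h2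
      rw [h4, abs_neg, abs_mul, abs_pow, abs_of_nonneg (by positivity : (0 : ℤ) ≤ p)]
    have h5 : (5 : ℤ) ≤ (p : ℤ) ^ (d + 1) := by
      have h6 : p ^ 1 ≤ p ^ (d + 1) := Nat.pow_le_pow_right (by omega) (by omega)
      rw [pow_one] at h6
      have h7 : 5 ≤ p ^ (d + 1) := by omega
      exact_mod_cast h7
    have h8 : 1 ≤ |F| := Int.one_le_abs hF
    nlinarith only [hE3, h3, h5, h8]
  rcases Nat.lt_or_gt_of_ne hij with h | h
  · exact key hE hF hE3 h
  · rw [add_comm]
    exact key hF hE hF3 h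

/-- the weights of the trilinear form on `V_{p^i + p^j}` -/
theorem exists_pair {i j : ℕ} (hK : Fintype.card K = p ^ a) (hp : 5 ≤ p) (hij : i ≠ j) (hi : i < a) (hj : j < a) {E F : ℤ}
    (hE : E ≠ 0) (hF : F ≠ 0) (hE3 : |E| ≤ 3) (hF3 : |F| ≤ 3) :
    ∃ b : Kˣ, (ι (b : K) ^ p ^ i) ^ E * (ι (b : K) ^ p ^ j) ^ F ≠ 1 := by
  have h1 : (p : ℤ) ^ i * E + (p : ℤ) ^ j * F ≠ 0 := num_ne hp hij hE hF hE3 hF3
  have h2 := num_lt hp hij hi hj
  obtain ⟨b, hb⟩ := exists_zpow (ι := ι) h1 (by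
    rw [hK]
    refine lt_of_le_of_lt ?_ h2
    have h3 : |(p : ℤ) ^ i * E + (p : ℤ) ^ j * F| ≤ (p : ℤ) ^ i * 3 + (p : ℤ) ^ j * 3 := by
      refine (abs_add_le _ _).trans (add_le_add ?_ ?_)
      · rw [abs_mul, abs_of_nonneg (by positivity : (0 : ℤ) ≤ (p : ℤ) ^ i)]
        exact mul_le_mul_of_nonneg_left hE3 (by positivity)
      · rw [abs_mul, abs_of_nonneg (by positivity : (0 : ℤ) ≤ (p : ℤ) ^ j)]
        exact mul_le_mul_of_nonneg_left hF3 (by positivity)
    have h4 : (((p : ℤ) ^ i * E + (p : ℤ) ^ j * F).natAbs : ℤ) ≤ (3 * (p ^ i + p ^ j) : ℕ) := by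
      rw [Int.natCast_natAbs]
      refine h3.trans (le_of_eq ?_)
      push_cast
      ring
    exact_mod_cast h4)
  refine ⟨b, ?_⟩
  rwa [← zpow_natCast, ← zpow_natCast, ← _root_.zpow_mul, ← _root_.zpow_mul, ← zpow_add₀ ((map_ne_zero ι).2 b.ne_zero), Nat.cast_pow,
    Nat.cast_pow]

end num

section pair

variable {i j : ℕ} {x0 x1 x2 x3 : I27 → k}

/-- the relations of the basis `v₀₀, v₁₀, v₀₁, v₁₁` of `V_{p^i + p^j}` -/
structure P11 (ι : K →+* k) (p : ℕ) (ρ : Representation k ↥(Zgrp k) (I27 → k))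
    (ψ : _root_.Matrix.SpecialLinearGroup (Fin 2) K →* ↥(Zgrp k)) (i j : ℕ) (x0 x1 x2 x3 : I27 → k) : Prop where
  u0 : ∀ t, ρ (ψ (Cfsg.Agent.H943.SL2Rel.u t)) x0 =
    x0 + (ι t ^ p ^ i) • x1 + (ι t ^ p ^ j) • x2 + (ι t ^ p ^ i * ι t ^ p ^ j) • x3
  u1 : ∀ t, ρ (ψ (Cfsg.Agent.H943.SL2Rel.u t)) x1 = x1 + (ι t ^ p ^ j) • x3
  u2 : ∀ t, ρ (ψ (Cfsg.Agent.H943.SL2Rel.u t)) x2 = x2 + (ι t ^ p ^ i) • x3
  u3 : ∀ t, ρ (ψ (Cfsg.Agent.H943.SL2Rel.u t)) x3 = x3
  h0 : ∀ b : Kˣ, ρ (ψ (Cfsg.Agent.H943.SL2Rel.h b)) x0 = ((ι b ^ p ^ i)⁻¹ * (ι b ^ p ^ j)⁻¹) • x0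
  h1 : ∀ b : Kˣ, ρ (ψ (Cfsg.Agent.H943.SL2Rel.h b)) x1 = ((ι b ^ p ^ i) * (ι b ^ p ^ j)⁻¹) • x1
  h2 : ∀ b : Kˣ, ρ (ψ (Cfsg.Agent.H943.SL2Rel.h b)) x2 = ((ι b ^ p ^ i)⁻¹ * (ι b ^ p ^ j)) • x2
  h3 : ∀ b : Kˣ, ρ (ψ (Cfsg.Agent.H943.SL2Rel.h b)) x3 = ((ι b ^ p ^ i) * (ι b ^ p ^ j)) • x3
  w0 : ρ (ψ Cfsg.Agent.H943.SL2Rel.w) x0 = x3
  w1 : ρ (ψ Cfsg.Agent.H943.SL2Rel.w) x1 = -x2
  w2 : ρ (ψ Cfsg.Agent.H943.SL2Rel.w) x2 = -x1
  w3 : ρ (ψ Cfsg.Agent.H943.SL2Rel.w) x3 = x0

theorem P11.swap (P : P11 ι p ρ ψ i j x0 x1 x2 x3) : P11 ι p ρ ψ j i x0 x2 x1 x3 where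
  u0 t := by
    rw [P.u0]
    module
  u1 t := P.u2 t
  u2 t := P.u1 t
  u3 t := P.u3 t
  h0 b := by rw [P.h0, mul_comm]
  h1 b := by rw [P.h2, mul_comm]
  h2 b := by rw [P.h1, mul_comm]
  h3 b := by rw [P.h3, mul_comm]
  w0 := P.w0
  w1 := P.w2
  w2 := P.w1
  w3 := P.w3

theorem P11.fix (P : P11 ι p ρ ψ i j x0 x1 x2 x3) (f : Fra p a ψ ρ ρ') : cr x0 x3 = cr x1 x2 := by
  have hb : ∀ (n : ℕ) (b : Kˣ), (ι (b : K) ^ n) ≠ 0 := fun n b => pow_ne_zero _ ((map_ne_zero ι).2 b.ne_zero)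
  have h1 : cr x0 x3 - cr x1 x2 = 0 := by
    refine fix_zero f.swap (fun t => ?_) (fun b => ?_) ?_
    · rw [map_sub, ← pair_cr f.pair, ← pair_cr f.pair, P.u0, P.u1, P.u2, P.u3]
      simp only [cr_add_left, cr_add_right, cr_smul_left, cr_smul_right]
      rw [cr_comm x3 x2]
      module
    · rw [map_sub, ← pair_cr f.pair, ← pair_cr f.pair, P.h0, P.h1, P.h2, P.h3]
      simp only [cr_smul_left, cr_smul_right, smul_smul]
      have e1 : (ι (b : K) ^ p ^ i)⁻¹ * (ι (b : K) ^ p ^ j)⁻¹ * (ι (b : K) ^ p ^ i * ι (b : K) ^ p ^ j) = 1 := by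
        have h1 := hb (p ^ i) b
        have h2 := hb (p ^ j) b
        field_simp
      have e2 : ι (b : K) ^ p ^ i * (ι (b : K) ^ p ^ j)⁻¹ * ((ι (b : K) ^ p ^ i)⁻¹ * ι (b : K) ^ p ^ j) = 1 := by
        have h1 := hb (p ^ i) b
        have h2 := hb (p ^ j) b
        field_simp
      rw [mul_comm (ι (b : K) ^ p ^ i * ι (b : K) ^ p ^ j), e1]
      first | rw [e2, one_smul, one_smul] | rw [mul_comm ((ι (b : K) ^ p ^ i)⁻¹ * ι (b : K) ^ p ^ j), e2, one_smul, one_smul]
    · rw [map_sub, ← pair_cr f.pair, ← pair_cr f.pair, P.w0, P.w1, P.w2, P.w3]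
      rw [← neg_one_smul k x1, ← neg_one_smul k x2, cr_smul_left, cr_smul_right, cr_comm x3 x0, cr_comm x2 x1]
      module
  exact sub_eq_zero.1 h1

/-- the trilinear form vanishes -/
theorem P11.tri (P : P11 ι p ρ ψ i j x0 x1 x2 x3) (f : Fra p a ψ ρ ρ') (hp : 5 ≤ p) (hij : i ≠ j) (hi : i < a)
    (hj : j < a) : ∀ x ∈ ({x0, x1, x2, x3} : Set (I27 → k)), ∀ y ∈ ({x0, x1, x2, x3} : Set (I27 → k)),
      ∀ z ∈ ({x0, x1, x2, x3} : Set (I27 → k)), tf (cr x y) z = 0 := by
  have hb : ∀ (n : ℕ) (b : Kˣ), (ι (b : K) ^ n) ≠ 0 := fun n b => pow_ne_zero _ ((map_ne_zero ι).2 b.ne_zero)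
  have hw : ∀ x ∈ ({x0, x1, x2, x3} : Set (I27 → k)), ∃ E F : ℤ, (E = 1 ∨ E = -1) ∧ (F = 1 ∨ F = -1) ∧
      ∀ b : Kˣ, ρ (ψ (Cfsg.Agent.H943.SL2Rel.h b)) x = ((ι (b : K) ^ p ^ i) ^ E * (ι (b : K) ^ p ^ j) ^ F) • x := by
    intro x hx
    simp only [Set.mem_insert_iff, Set.mem_singleton_iff] at hx
    rcases hx with rfl | rfl | rfl | rfl
    · refine ⟨-1, -1, Or.inr rfl, Or.inr rfl, fun b => ?_⟩
      rw [P.h0, _root_.zpow_neg_one, _root_.zpow_neg_one]
    · refine ⟨1, -1, Or.inl rfl, Or.inr rfl, fun b => ?_⟩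
      rw [P.h1, _root_.zpow_neg_one, zpow_one]
    · refine ⟨-1, 1, Or.inr rfl, Or.inl rfl, fun b => ?_⟩
      rw [P.h2, _root_.zpow_neg_one, zpow_one]
    · refine ⟨1, 1, Or.inl rfl, Or.inl rfl, fun b => ?_⟩
      rw [P.h3, zpow_one, zpow_one]
  intro x hx y hy z hz
  obtain ⟨E1, F1, hE1, hF1, h1⟩ := hw x hx
  obtain ⟨E2, F2, hE2, hF2, h2⟩ := hw y hy
  obtain ⟨E3, F3, hE3, hF3, h3⟩ := hw z hz
  have hE : E1 + E2 + E3 ≠ 0 ∧ |E1 + E2 + E3| ≤ 3 := by
    rcases hE1 with rfl | rfl <;> rcases hE2 with rfl | rfl <;> rcases hE3 with rfl | rfl <;> decide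
  have hF : F1 + F2 + F3 ≠ 0 ∧ |F1 + F2 + F3| ≤ 3 := by
    rcases hF1 with rfl | rfl <;> rcases hF2 with rfl | rfl <;> rcases hF3 with rfl | rfl <;> decide
  obtain ⟨b, hne⟩ := exists_pair (ι := ι) (p := p) f.card hp hij hi hj hE.1 hF.1 hE.2 hF.2
  have h := tri_inv f (Cfsg.Agent.H943.SL2Rel.h b) x y z
  rw [h1, h2, h3, cr_smul_left, cr_smul_right, tf_smul_left, tf_smul_left, tf_smul_right] at h
  have h4 : ((ι (b : K) ^ p ^ i) ^ (E1 + E2 + E3) * (ι (b : K) ^ p ^ j) ^ (F1 + F2 + F3) - 1) * tf (cr x y) z = 0 := by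
    rw [zpow_add₀ (hb _ b), zpow_add₀ (hb _ b), zpow_add₀ (hb _ b), zpow_add₀ (hb _ b)]
    linear_combination h
  exact (mul_eq_zero.1 h4).resolve_left (sub_ne_zero.2 hne)


/-- the components `P` vanish -/
theorem P11.pzero (P : P11 ι p ρ ψ i j x0 x1 x2 x3) (f : Fra p a ψ ρ ρ') (h5 : 5 ≤ p) (h9 : 9 ≤ Fintype.card K)
    (nts : Nts ψ ρ) (nts' : Nts ψ ρ') (T : T11 (cr x0 x0) (cr x0 x2) (cr x2 x2) (cr x0 x1) (cr x0 x3) (cr x2 x3) (cr x1 x1) (cr x1 x3) (cr x3 x3)) :
    cr (cr x0 x2) (cr x0 x2) = 0 ∧ cr (cr x0 x2) (cr x0 x3) = 0 ∧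
      (2 : k) • cr (cr x0 x3) (cr x0 x3) + cr (cr x0 x2) (cr x1 x3) = 0 ∧ cr (cr x0 x3) (cr x1 x3) = 0 ∧
      cr (cr x1 x3) (cr x1 x3) = 0 := by
  have h2 : (2 : k) ≠ 0 := two_ne_zero' (ι := ι) f.odd
  have h3 : (3 : k) ≠ 0 := by
    intro h0
    have h1 : ((3 : ℕ) : k) = 0 := by exact_mod_cast h0
    rw [CharP.cast_eq_zero_iff k p] at h1
    have := (Nat.prime_dvd_prime_iff_eq (Fact.out : p.Prime) Nat.prime_three).1 h1
    omega
  have can : ∀ (e : k) (x : I27 → k), e ≠ 0 → e • x = 0 → x = 0 := fun e x he hx => (smul_eq_zero.1 hx).resolve_left he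
  have hb : ∀ (n : ℕ) (b : Kˣ), (ι (b : K) ^ n) ≠ 0 := fun n b => pow_ne_zero _ ((map_ne_zero ι).2 b.ne_zero)
  have W' : ∀ x y, cr (ρ (ψ Cfsg.Agent.H943.SL2Rel.w) x) (ρ (ψ Cfsg.Agent.H943.SL2Rel.w) y) = ρ' (ψ Cfsg.Agent.H943.SL2Rel.w) (cr x y) := pair_cr f.pair _
  have W : ∀ x y, cr (ρ' (ψ Cfsg.Agent.H943.SL2Rel.w) x) (ρ' (ψ Cfsg.Agent.H943.SL2Rel.w) y) = ρ (ψ Cfsg.Agent.H943.SL2Rel.w) (cr x y) := pair_cr f.pair.swap _
  have U' : ∀ t x y, cr (ρ (ψ (Cfsg.Agent.H943.SL2Rel.u t)) x) (ρ (ψ (Cfsg.Agent.H943.SL2Rel.u t)) y) = ρ' (ψ (Cfsg.Agent.H943.SL2Rel.u t)) (cr x y) := fun t => pair_cr f.pair _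
  have U : ∀ t x y, cr (ρ' (ψ (Cfsg.Agent.H943.SL2Rel.u t)) x) (ρ' (ψ (Cfsg.Agent.H943.SL2Rel.u t)) y) = ρ (ψ (Cfsg.Agent.H943.SL2Rel.u t)) (cr x y) := fun t => pair_cr f.pair.swap _
  have H' : ∀ b x y, cr (ρ (ψ (Cfsg.Agent.H943.SL2Rel.h b)) x) (ρ (ψ (Cfsg.Agent.H943.SL2Rel.h b)) y) = ρ' (ψ (Cfsg.Agent.H943.SL2Rel.h b)) (cr x y) := fun t => pair_cr f.pair _
  have H : ∀ b x y, cr (ρ' (ψ (Cfsg.Agent.H943.SL2Rel.h b)) x) (ρ' (ψ (Cfsg.Agent.H943.SL2Rel.h b)) y) = ρ (ψ (Cfsg.Agent.H943.SL2Rel.h b)) (cr x y) := fun t => pair_cr f.pair.swap _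
  have fix' : cr x1 x2 = cr x0 x3 := (P.fix f).symm
  have c10 := cr_comm x1 x0
  have c20 := cr_comm x2 x0
  have c21 := cr_comm x2 x1
  have c30 := cr_comm x3 x0
  have c31 := cr_comm x3 x1
  have c32 := cr_comm x3 x2
  have u00 : ∀ t, ρ' (ψ (Cfsg.Agent.H943.SL2Rel.u t)) (cr x0 x0) = (cr x0 x0) + (2 * ι t ^ p ^ i) • (cr x0 x1) + ((ι t ^ p ^ i) ^ 2) • (cr x1 x1) + (2 * ι t ^ p ^ j) • (cr x0 x2) + (4 * ι t ^ p ^ i * ι t ^ p ^ j) • (cr x0 x3) + (2 * (ι t ^ p ^ i) ^ 2 * ι t ^ p ^ j) • (cr x1 x3) + ((ι t ^ p ^ j) ^ 2) • (cr x2 x2) + (2 * ι t ^ p ^ i * (ι t ^ p ^ j) ^ 2) • (cr x2 x3) + ((ι t ^ p ^ i) ^ 2 * (ι t ^ p ^ j) ^ 2) • (cr x3 x3) := by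
    intro t
    rw [← U', P.u0]
    try simp only [cr_add_left, cr_add_right, cr_smul_left, cr_smul_right, c10, c20, c21, c30, c31, c32, fix']
    try module
  have u01 : ∀ t, ρ' (ψ (Cfsg.Agent.H943.SL2Rel.u t)) (cr x0 x2) = (cr x0 x2) + (2 * ι t ^ p ^ i) • (cr x0 x3) + ((ι t ^ p ^ i) ^ 2) • (cr x1 x3) + (ι t ^ p ^ j) • (cr x2 x2) + (2 * ι t ^ p ^ i * ι t ^ p ^ j) • (cr x2 x3) + ((ι t ^ p ^ i) ^ 2 * ι t ^ p ^ j) • (cr x3 x3) := by
    intro t
    rw [← U', P.u0, P.u2]
    try simp only [cr_add_left, cr_add_right, cr_smul_left, cr_smul_right, c10, c20, c21, c30, c31, c32, fix']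
    try module
  have u02 : ∀ t, ρ' (ψ (Cfsg.Agent.H943.SL2Rel.u t)) (cr x2 x2) = (cr x2 x2) + (2 * ι t ^ p ^ i) • (cr x2 x3) + ((ι t ^ p ^ i) ^ 2) • (cr x3 x3) := by
    intro t
    rw [← U', P.u2]
    try simp only [cr_add_left, cr_add_right, cr_smul_left, cr_smul_right, c10, c20, c21, c30, c31, c32, fix']
    try module
  have u10 : ∀ t, ρ' (ψ (Cfsg.Agent.H943.SL2Rel.u t)) (cr x0 x1) = (cr x0 x1) + (ι t ^ p ^ i) • (cr x1 x1) + (2 * ι t ^ p ^ j) • (cr x0 x3) + (2 * ι t ^ p ^ i * ι t ^ p ^ j) • (cr x1 x3) + ((ι t ^ p ^ j) ^ 2) • (cr x2 x3) + (ι t ^ p ^ i * (ι t ^ p ^ j) ^ 2) • (cr x3 x3) := by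
    intro t
    rw [← U', P.u0, P.u1]
    try simp only [cr_add_left, cr_add_right, cr_smul_left, cr_smul_right, c10, c20, c21, c30, c31, c32, fix']
    try module
  have u11 : ∀ t, ρ' (ψ (Cfsg.Agent.H943.SL2Rel.u t)) (cr x0 x3) = (cr x0 x3) + (ι t ^ p ^ i) • (cr x1 x3) + (ι t ^ p ^ j) • (cr x2 x3) + (ι t ^ p ^ i * ι t ^ p ^ j) • (cr x3 x3) := by
    intro t
    rw [← U', P.u0, P.u3]
    try simp only [cr_add_left, cr_add_right, cr_smul_left, cr_smul_right, c10, c20, c21, c30, c31, c32, fix']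
    try module
  have u12 : ∀ t, ρ' (ψ (Cfsg.Agent.H943.SL2Rel.u t)) (cr x2 x3) = (cr x2 x3) + (ι t ^ p ^ i) • (cr x3 x3) := by
    intro t
    rw [← U', P.u2, P.u3]
    try simp only [cr_add_left, cr_add_right, cr_smul_left, cr_smul_right, c10, c20, c21, c30, c31, c32, fix']
    try module
  have u20 : ∀ t, ρ' (ψ (Cfsg.Agent.H943.SL2Rel.u t)) (cr x1 x1) = (cr x1 x1) + (2 * ι t ^ p ^ j) • (cr x1 x3) + ((ι t ^ p ^ j) ^ 2) • (cr x3 x3) := by
    intro t
    rw [← U', P.u1]
    try simp only [cr_add_left, cr_add_right, cr_smul_left, cr_smul_right, c10, c20, c21, c30, c31, c32, fix']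
    try module
  have u21 : ∀ t, ρ' (ψ (Cfsg.Agent.H943.SL2Rel.u t)) (cr x1 x3) = (cr x1 x3) + (ι t ^ p ^ j) • (cr x3 x3) := by
    intro t
    rw [← U', P.u1, P.u3]
    try simp only [cr_add_left, cr_add_right, cr_smul_left, cr_smul_right, c10, c20, c21, c30, c31, c32, fix']
    try module
  have u22 : ∀ t, ρ' (ψ (Cfsg.Agent.H943.SL2Rel.u t)) (cr x3 x3) = (cr x3 x3) := by
    intro t
    rw [← U', P.u3]
    try simp only [cr_add_left, cr_add_right, cr_smul_left, cr_smul_right, c10, c20, c21, c30, c31, c32, fix']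
    try module
  have w00 : ρ' (ψ Cfsg.Agent.H943.SL2Rel.w) (cr x0 x0) = (cr x3 x3) := by
    rw [← W', P.w0]
    try simp only [← neg_one_smul k x1, ← neg_one_smul k x2, cr_smul_left, cr_smul_right, c10, c20, c21, c30, c31, c32, fix']
    try module
  have w01 : ρ' (ψ Cfsg.Agent.H943.SL2Rel.w) (cr x0 x2) = -(cr x1 x3) := by
    rw [← W', P.w0, P.w2]
    try simp only [← neg_one_smul k x1, ← neg_one_smul k x2, cr_smul_left, cr_smul_right, c10, c20, c21, c30, c31, c32, fix']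
    try module
  have w02 : ρ' (ψ Cfsg.Agent.H943.SL2Rel.w) (cr x2 x2) = (cr x1 x1) := by
    rw [← W', P.w2]
    try simp only [← neg_one_smul k x1, ← neg_one_smul k x2, cr_smul_left, cr_smul_right, c10, c20, c21, c30, c31, c32, fix']
    try module
  have w10 : ρ' (ψ Cfsg.Agent.H943.SL2Rel.w) (cr x0 x1) = -(cr x2 x3) := by
    rw [← W', P.w0, P.w1]
    try simp only [← neg_one_smul k x1, ← neg_one_smul k x2, cr_smul_left, cr_smul_right, c10, c20, c21, c30, c31, c32, fix']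
    try module
  have w11 : ρ' (ψ Cfsg.Agent.H943.SL2Rel.w) (cr x0 x3) = (cr x0 x3) := by
    rw [← W', P.w0, P.w3]
    try simp only [← neg_one_smul k x1, ← neg_one_smul k x2, cr_smul_left, cr_smul_right, c10, c20, c21, c30, c31, c32, fix']
    try module
  have w12 : ρ' (ψ Cfsg.Agent.H943.SL2Rel.w) (cr x2 x3) = -(cr x0 x1) := by
    rw [← W', P.w2, P.w3]
    try simp only [← neg_one_smul k x1, ← neg_one_smul k x2, cr_smul_left, cr_smul_right, c10, c20, c21, c30, c31, c32, fix']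
    try module
  have w20 : ρ' (ψ Cfsg.Agent.H943.SL2Rel.w) (cr x1 x1) = (cr x2 x2) := by
    rw [← W', P.w1]
    try simp only [← neg_one_smul k x1, ← neg_one_smul k x2, cr_smul_left, cr_smul_right, c10, c20, c21, c30, c31, c32, fix']
    try module
  have w21 : ρ' (ψ Cfsg.Agent.H943.SL2Rel.w) (cr x1 x3) = -(cr x0 x2) := by
    rw [← W', P.w1, P.w3]
    try simp only [← neg_one_smul k x1, ← neg_one_smul k x2, cr_smul_left, cr_smul_right, c10, c20, c21, c30, c31, c32, fix']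
    try module
  have w22 : ρ' (ψ Cfsg.Agent.H943.SL2Rel.w) (cr x3 x3) = (cr x0 x0) := by
    rw [← W', P.w3]
    try simp only [← neg_one_smul k x1, ← neg_one_smul k x2, cr_smul_left, cr_smul_right, c10, c20, c21, c30, c31, c32, fix']
    try module
  have h01 : ∀ b : Kˣ, ρ' (ψ (Cfsg.Agent.H943.SL2Rel.h b)) (cr x0 x2) = ((ι (b : K) ^ p ^ i)⁻¹ ^ 2) • (cr x0 x2) := by
    intro b
    rw [← H', P.h0, P.h2, cr_smul_left, cr_smul_right, smul_smul]
    congr 1
    have e1 := hb (p ^ i) b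
    have e2 := hb (p ^ j) b
    field_simp
  have h11 : ∀ b : Kˣ, ρ' (ψ (Cfsg.Agent.H943.SL2Rel.h b)) (cr x0 x3) = (1 : k) • (cr x0 x3) := by
    intro b
    rw [← H', P.h0, P.h3, cr_smul_left, cr_smul_right, smul_smul]
    congr 1
    have e1 := hb (p ^ i) b
    have e2 := hb (p ^ j) b
    field_simp
  have h21 : ∀ b : Kˣ, ρ' (ψ (Cfsg.Agent.H943.SL2Rel.h b)) (cr x1 x3) = ((ι (b : K) ^ p ^ i) ^ 2) • (cr x1 x3) := by
    intro b
    rw [← H', P.h1, P.h3, cr_smul_left, cr_smul_right, smul_smul]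
    congr 1
    have e1 := hb (p ^ i) b
    have e2 := hb (p ^ j) b
    field_simp
  clear c10 c20 c21 c30 c31 c32 fix'
  generalize cr x0 x0 = y00 at *
  generalize cr x0 x2 = y01 at *
  generalize cr x2 x2 = y02 at *
  generalize cr x0 x1 = y10 at *
  generalize cr x0 x3 = y11 at *
  generalize cr x2 x3 = y12 at *
  generalize cr x1 x1 = y20 at *
  generalize cr x1 x3 = y21 at *
  generalize cr x3 x3 = y22 at *
  let C : ℕ → I27 → k := fun e => match e with
    | 0 => (3 : k) • cr y01 y01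
    | 1 => (3 : k) • cr y01 y11
    | 2 => (2 : k) • cr y11 y11 + cr y01 y21
    | 3 => (3 : k) • cr y11 y21
    | 4 => (3 : k) • cr y21 y21
    | _ => 0
  have cch : Ch ι p (Rr ρ ψ) 4 i C := by
    refine ⟨fun s hs => ?_, fun s hs t => ?_, fun s hs b => ?_, fun s hs => ?_⟩
    · match s, hs with
      | s + 5, _ => rfl
    · rw [Rr_apply]
      interval_cases s
      · show ρ (ψ (Cfsg.Agent.H943.SL2Rel.u t)) ((3 : k) • cr y01 y01) = _
        rw [map_smul, ← U, u01]
        simp only [cr_add_left, cr_add_right, cr_smul_left, cr_smul_right, T.t_y00_y00, T.t_y00_y01, T.t_y00_y02, T.t_y00_y10, T.t_y00_y11, T.t_y00_y12, T.t_y00_y20, T.t_y00_y21, T.t_y00_y22, T.t_y01_y02, T.t_y01_y10, T.t_y01_y12, T.t_y01_y20, T.t_y01_y22, T.t_y02_y02, T.t_y02_y10, T.t_y02_y11, T.t_y02_y12, T.t_y02_y20, T.t_y02_y21, T.t_y02_y22, T.t_y10_y12, T.t_y10_y20, T.t_y10_y21, T.t_y10_y22, T.t_y11_y20, T.t_y11_y22, T.t_y12_y20, T.t_y12_y21, T.t_y12_y22, T.t_y20_y20, T.t_y20_y21,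 T.t_y20_y22, T.t_y21_y22, T.t_y22_y22, cr_comm y01 y00, cr_comm y02 y00, cr_comm y02 y01, cr_comm y10 y00, cr_comm y10 y01, cr_comm y10 y02, cr_comm y11 y00, cr_comm y11 y01, cr_comm y11 y02, cr_comm y11 y10, cr_comm y12 y00, cr_comm y12 y01, cr_comm y12 y02, cr_comm y12 y10, cr_comm y12 y11, cr_comm y20 y00, cr_comm y20 y01, cr_comm y20 y02, cr_comm y20 y10, cr_comm y20 y11, cr_comm y20 y12, cr_comm y21 y00, cr_comm y21 y01, cr_comm y21 y02, cr_comm y21 y10, cr_comm y21 y11, cr_comm y21 y12, cr_comm y21 y20, cr_comm y22 y00, cr_comm y22 y01, cr_comm y22 y02, cr_comm y22 y10, cr_comm y22 y11, cr_comm y22 y12, cr_comm y22 y20, cr_comm y22 y21]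
        simp only [Finset.sum_range_succ, Finset.sum_range_zero, Nat.choose, C]
        norm_num only [_root_.smul_zero, _root_.add_zero, _root_.neg_smul, _root_.smul_neg, _root_.smul_add, _root_.zero_add, _root_.pow_zero, _root_.mul_one, _root_.one_smul, _root_.pow_one, _root_.one_mul]
        module
      · show ρ (ψ (Cfsg.Agent.H943.SL2Rel.u t)) ((3 : k) • cr y01 y11) = _
        rw [map_smul, ← U, u01, u11]
        simp only [cr_add_left, cr_add_right, cr_smul_left, cr_smul_right, T.t_y00_y00, T.t_y00_y01, T.t_y00_y02, T.t_y00_y10, T.t_y00_y11, T.t_y00_y12, T.t_y00_y20, T.t_y00_y21, T.t_y00_y22, T.t_y01_y02, T.t_y01_y10, T.t_y01_y12, T.t_y01_y20, T.t_y01_y22, T.t_y02_y02, T.t_y02_y10, T.t_y02_y11, T.t_y02_y12, T.t_y02_y20, T.t_y02_y21, T.t_y02_y22, T.t_y10_y12, T.t_y10_y20, T.t_y10_y21, T.t_y10_y22, T.t_y11_y20, T.t_y11_y22, T.t_y12_y20, T.t_y12_y21, T.t_y12_y22, T.t_y20_y20, T.t_y20_y21, T.t_y20_y22, T.t_y21_y22, T.t_y22_y22, cr_comm y01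 y00, cr_comm y02 y00, cr_comm y02 y01, cr_comm y10 y00, cr_comm y10 y01, cr_comm y10 y02, cr_comm y11 y00, cr_comm y11 y01, cr_comm y11 y02, cr_comm y11 y10, cr_comm y12 y00, cr_comm y12 y01, cr_comm y12 y02, cr_comm y12 y10, cr_comm y12 y11, cr_comm y20 y00, cr_comm y20 y01, cr_comm y20 y02, cr_comm y20 y10, cr_comm y20 y11, cr_comm y20 y12, cr_comm y21 y00, cr_comm y21 y01, cr_comm y21 y02, cr_comm y21 y10, cr_comm y21 y11, cr_comm y21 y12, cr_comm y21 y20, cr_comm y22 y00, cr_comm y22 y01, cr_comm y22 y02, cr_comm y22 y10, cr_comm y22 y11, cr_comm y22 y12, cr_comm y22 y20, cr_comm y22 y21]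
        simp only [Finset.sum_range_succ, Finset.sum_range_zero, Nat.choose, C]
        norm_num only [_root_.smul_zero, _root_.add_zero, _root_.neg_smul, _root_.smul_neg, _root_.smul_add, _root_.zero_add, _root_.pow_zero, _root_.mul_one, _root_.one_smul, _root_.pow_one, _root_.one_mul]
        module
      · show ρ (ψ (Cfsg.Agent.H943.SL2Rel.u t)) ((2 : k) • cr y11 y11 + cr y01 y21) = _
        rw [map_add, map_smul, ← U, ← U, u01, u11, u21]
        simp only [cr_add_left, cr_add_right, cr_smul_left, cr_smul_right, T.t_y00_y00, T.t_y00_y01, T.t_y00_y02, T.t_y00_y10, T.t_y00_y11, T.t_y00_y12, T.t_y00_y20, T.t_y00_y21, T.t_y00_y22, T.t_y01_y02, T.t_y01_y10, T.t_y01_y12, T.t_y01_y20, T.t_y01_y22, T.t_y02_y02, T.t_y02_y10, T.t_y02_y11, T.t_y02_y12, T.t_y02_y20, T.t_y02_y21, T.t_y02_y22, T.t_y10_y12, T.t_y10_y20, T.t_y10_y21, T.t_y10_y22, T.t_y11_y20, T.t_y11_y22, T.t_y12_y20, T.t_y12_y21, T.t_y12_y22, T.t_y20_y20, T.t_y20_y21, T.t_y20_y22, T.t_y21_y22,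 T.t_y22_y22, cr_comm y01 y00, cr_comm y02 y00, cr_comm y02 y01, cr_comm y10 y00, cr_comm y10 y01, cr_comm y10 y02, cr_comm y11 y00, cr_comm y11 y01, cr_comm y11 y02, cr_comm y11 y10, cr_comm y12 y00, cr_comm y12 y01, cr_comm y12 y02, cr_comm y12 y10, cr_comm y12 y11, cr_comm y20 y00, cr_comm y20 y01, cr_comm y20 y02, cr_comm y20 y10, cr_comm y20 y11, cr_comm y20 y12, cr_comm y21 y00, cr_comm y21 y01, cr_comm y21 y02, cr_comm y21 y10, cr_comm y21 y11, cr_comm y21 y12, cr_comm y21 y20, cr_comm y22 y00, cr_comm y22 y01, cr_comm y22 y02, cr_comm y22 y10, cr_comm y22 y11, cr_comm y22 y12, cr_comm y22 y20, cr_comm y22 y21]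
        simp only [Finset.sum_range_succ, Finset.sum_range_zero, Nat.choose, C]
        norm_num only [_root_.smul_zero, _root_.add_zero, _root_.smul_add, _root_.neg_smul, _root_.smul_neg, _root_.pow_zero, _root_.mul_one, _root_.one_smul, _root_.zero_add, _root_.pow_one, _root_.one_mul]
        module
      · show ρ (ψ (Cfsg.Agent.H943.SL2Rel.u t)) ((3 : k) • cr y11 y21) = _
        rw [map_smul, ← U, u11, u21]
        simp only [cr_add_left, cr_add_right, cr_smul_left, cr_smul_right, T.t_y00_y00, T.t_y00_y01, T.t_y00_y02, T.t_y00_y10, T.t_y00_y11, T.t_y00_y12, T.t_y00_y20, T.t_y00_y21, T.t_y00_y22, T.t_y01_y02, T.t_y01_y10, T.t_y01_y12, T.t_y01_y20, T.t_y01_y22, T.t_y02_y02, T.t_y02_y10, T.t_y02_y11, T.t_y02_y12, T.t_y02_y20, T.t_y02_y21, T.t_y02_y22, T.t_y10_y12, T.t_y10_y20, T.t_y10_y21, T.t_y10_y22, T.t_y11_y20, T.t_y11_y22, T.t_y12_y20, T.t_y12_y21, T.t_y12_y22, T.t_y20_y20, T.t_y20_y21, T.t_y20_y22, T.t_y21_y22, T.t_y22_y22, cr_comm y01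 y00, cr_comm y02 y00, cr_comm y02 y01, cr_comm y10 y00, cr_comm y10 y01, cr_comm y10 y02, cr_comm y11 y00, cr_comm y11 y01, cr_comm y11 y02, cr_comm y11 y10, cr_comm y12 y00, cr_comm y12 y01, cr_comm y12 y02, cr_comm y12 y10, cr_comm y12 y11, cr_comm y20 y00, cr_comm y20 y01, cr_comm y20 y02, cr_comm y20 y10, cr_comm y20 y11, cr_comm y20 y12, cr_comm y21 y00, cr_comm y21 y01, cr_comm y21 y02, cr_comm y21 y10, cr_comm y21 y11, cr_comm y21 y12, cr_comm y21 y20, cr_comm y22 y00, cr_comm y22 y01, cr_comm y22 y02, cr_comm y22 y10, cr_comm y22 y11, cr_comm y22 y12, cr_comm y22 y20, cr_comm y22 y21]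
        simp only [Finset.sum_range_succ, Finset.sum_range_zero, Nat.choose, C]
        norm_num only [_root_.smul_zero, _root_.add_zero, _root_.smul_add, _root_.pow_zero, _root_.mul_one, _root_.one_smul, _root_.zero_add, _root_.pow_one, _root_.one_mul, _root_.add_right_inj]
        module
      · show ρ (ψ (Cfsg.Agent.H943.SL2Rel.u t)) ((3 : k) • cr y21 y21) = _
        rw [map_smul, ← U, u21]
        simp only [cr_add_left, cr_add_right, cr_smul_left, cr_smul_right, T.t_y00_y00, T.t_y00_y01, T.t_y00_y02, T.t_y00_y10, T.t_y00_y11, T.t_y00_y12, T.t_y00_y20, T.t_y00_y21, T.t_y00_y22, T.t_y01_y02, T.t_y01_y10, T.t_y01_y12, T.t_y01_y20, T.t_y01_y22, T.t_y02_y02, T.t_y02_y10, T.t_y02_y11, T.t_y02_y12, T.t_y02_y20, T.t_y02_y21, T.t_y02_y22, T.t_y10_y12, T.t_y10_y20, T.t_y10_y21, T.t_y10_y22, T.t_y11_y20, T.t_y11_y22, T.t_y12_y20, T.t_y12_y21, T.t_y12_y22, T.t_y20_y20, T.t_y20_y21, T.t_y20_y22, T.t_y21_y22, T.t_y22_y22, cr_comm y01 y00, cr_comm y02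 y00, cr_comm y02 y01, cr_comm y10 y00, cr_comm y10 y01, cr_comm y10 y02, cr_comm y11 y00, cr_comm y11 y01, cr_comm y11 y02, cr_comm y11 y10, cr_comm y12 y00, cr_comm y12 y01, cr_comm y12 y02, cr_comm y12 y10, cr_comm y12 y11, cr_comm y20 y00, cr_comm y20 y01, cr_comm y20 y02, cr_comm y20 y10, cr_comm y20 y11, cr_comm y20 y12, cr_comm y21 y00, cr_comm y21 y01, cr_comm y21 y02, cr_comm y21 y10, cr_comm y21 y11, cr_comm y21 y12, cr_comm y21 y20, cr_comm y22 y00, cr_comm y22 y01, cr_comm y22 y02, cr_comm y22 y10, cr_comm y22 y11, cr_comm y22 y12, cr_comm y22 y20, cr_comm y22 y21]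
        simp only [Finset.sum_range_succ, Finset.sum_range_zero, Nat.choose, C]
        norm_num
    · rw [Rr_apply]
      have e1 := hb (p ^ i) b
      interval_cases s
      · show ρ (ψ (Cfsg.Agent.H943.SL2Rel.h b)) ((3 : k) • cr y01 y01) = _ • ((3 : k) • cr y01 y01)
        rw [map_smul, ← H, h01]
        simp only [cr_smul_left, cr_smul_right, smul_smul]
        congr 1
        show _ = (ι (b : K) ^ p ^ i) ^ 0 * ((ι (b : K) ^ p ^ i)⁻¹) ^ 4 * 3
        field_simp
      · show ρ (ψ (Cfsg.Agent.H943.SL2Rel.h b)) ((3 : k) • cr y01 y11) = _ • ((3 : k) • cr y01 y11)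
        rw [map_smul, ← H, h01, h11]
        simp only [cr_smul_left, cr_smul_right, smul_smul]
        congr 1
        show _ = (ι (b : K) ^ p ^ i) ^ 1 * ((ι (b : K) ^ p ^ i)⁻¹) ^ 3 * 3
        field_simp
      · show ρ (ψ (Cfsg.Agent.H943.SL2Rel.h b)) ((2 : k) • cr y11 y11 + cr y01 y21) = _ • ((2 : k) • cr y11 y11 + cr y01 y21)
        rw [map_add, map_smul, ← H, ← H, h01, h11, h21]
        simp only [cr_smul_left, cr_smul_right, smul_smul, smul_add]
        congr 2
        show _ = (ι (b : K) ^ p ^ i) ^ 2 * ((ι (b : K) ^ p ^ i)⁻¹) ^ 2 * 2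
        field_simp
      · show ρ (ψ (Cfsg.Agent.H943.SL2Rel.h b)) ((3 : k) • cr y11 y21) = _ • ((3 : k) • cr y11 y21)
        rw [map_smul, ← H, h11, h21]
        simp only [cr_smul_left, cr_smul_right, smul_smul]
        congr 1
        show _ = (ι (b : K) ^ p ^ i) ^ 3 * ((ι (b : K) ^ p ^ i)⁻¹) ^ 1 * 3
        field_simp
      · show ρ (ψ (Cfsg.Agent.H943.SL2Rel.h b)) ((3 : k) • cr y21 y21) = _ • ((3 : k) • cr y21 y21)
        rw [map_smul, ← H, h21]
        simp only [cr_smul_left, cr_smul_right, smul_smul]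
        congr 1
        show _ = (ι (b : K) ^ p ^ i) ^ 4 * ((ι (b : K) ^ p ^ i)⁻¹) ^ 0 * 3
        field_simp
    · rw [Rr_apply]
      interval_cases s
      · show ρ (ψ Cfsg.Agent.H943.SL2Rel.w) ((3 : k) • cr y01 y01) = (-1 : k) ^ 0 • ((3 : k) • cr y21 y21)
        rw [map_smul, ← W, w01, ← neg_one_smul k y21, cr_smul_left, cr_smul_right]
        module
      · show ρ (ψ Cfsg.Agent.H943.SL2Rel.w) ((3 : k) • cr y01 y11) = (-1 : k) ^ 1 • ((3 : k) • cr y11 y21)
        rw [map_smul, ← W, w01, w11, ← neg_one_smul k y21, cr_smul_left, cr_comm y21 y11]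
        module
      · show ρ (ψ Cfsg.Agent.H943.SL2Rel.w) ((2 : k) • cr y11 y11 + cr y01 y21) =
          (-1 : k) ^ 2 • ((2 : k) • cr y11 y11 + cr y01 y21)
        rw [map_add, map_smul, ← W, ← W, w01, w11, w21, ← neg_one_smul k y21, ← neg_one_smul k y01, cr_smul_left,
          cr_smul_right, cr_comm y21 y01]
        module
      · show ρ (ψ Cfsg.Agent.H943.SL2Rel.w) ((3 : k) • cr y11 y21) = (-1 : k) ^ 3 • ((3 : k) • cr y01 y11)
        rw [map_smul, ← W, w21, w11, ← neg_one_smul k y01, cr_smul_right, cr_comm y11 y01]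
        module
      · show ρ (ψ Cfsg.Agent.H943.SL2Rel.w) ((3 : k) • cr y21 y21) = (-1 : k) ^ 4 • ((3 : k) • cr y01 y01)
        rw [map_smul, ← W, w21, ← neg_one_smul k y01, cr_smul_left, cr_smul_right]
        module
  have hsq : cr (cr y21 y21) (cr y21 y21) = 0 := by
    have h := cr4 y20 y22 y20 y22
    rw [T.t_y20_y20, T.t_y22_y22, cr_zero_left, tf_zero_left, cr_comm y22 y20, tf_cr y20 y22 y20, cr_comm y22 y20, ← tf_cr,
      T.t_y20_y20, tf_zero_left, tf_cr y20 y22 y22, T.t_y22_y22, tf_zero_right, T.t_y20_y22, cr_smul_left,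
      cr_smul_right] at h
    have h' : (8 : k) • cr (cr y21 y21) (cr y21 y21) = 0 := by linear_combination (norm := module) h
    refine can _ _ ?_ h'
    rw [show (8 : k) = 2 ^ 3 by norm_num]
    exact pow_ne_zero _ h2
  have hC0 : C 0 = 0 := by
    by_contra hne
    apply four_sh_ne f h5 h9 nts nts' cch hne
    show cr ((3 : k) • cr y21 y21) ((3 : k) • cr y21 y21) = 0
    rw [cr_smul_left, cr_smul_right, hsq, smul_zero, smul_zero]
  have hC : ∀ t : K, C 0 + (ι t ^ p ^ i) • ((4 : k) • C 1) + (ι t ^ p ^ i) ^ 2 • ((6 : k) • C 2) +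
      (ι t ^ p ^ i) ^ 3 • ((4 : k) • C 3) + (ι t ^ p ^ i) ^ 4 • C 4 = 0 := by
    intro t
    have h := (four_u cch t).1
    rw [hC0, map_zero] at h
    rw [hC0]
    linear_combination (norm := module) -h
  obtain ⟨-, k1, k2, k3, k4⟩ := coeff5 (ι := ι) (p := p) (by omega) hC
  have s4 : (4 : k) ≠ 0 := by
    rw [show (4 : k) = 2 ^ 2 by norm_num]
    exact pow_ne_zero _ h2
  have s6 : (6 : k) ≠ 0 := by
    rw [show (6 : k) = 2 * 3 by norm_num]
    exact mul_ne_zero h2 h3
  exact ⟨can (3 : k) _ h3 hC0, can (3 : k) _ h3 (can (4 : k) _ s4 k1), can (6 : k) _ s6 k2,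
    can (3 : k) _ h3 (can (4 : k) _ s4 k3), can (3 : k) _ h3 k4⟩

/-- `V_{p^i + p^j}` has a zero basis vector -/
theorem P11.zero (P : P11 ι p ρ ψ i j x0 x1 x2 x3) (f : Fra p a ψ ρ ρ') (h5 : 5 ≤ p) (nts : Nts ψ ρ) (nts' : Nts ψ ρ')
    (hij : i ≠ j) (hi : i < a) (hj : j < a)
    (hst : ∀ g, ∀ x ∈ Submodule.span k ({x0, x1, x2, x3} : Set (I27 → k)), Rr ρ ψ g x ∈
      Submodule.span k ({x0, x1, x2, x3} : Set (I27 → k))) : x0 = 0 := by
  have h2 : (2 : k) ≠ 0 := two_ne_zero' (ι := ι) f.odd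
  have h3 : (3 : k) ≠ 0 := by
    intro h0
    have h1 : ((3 : ℕ) : k) = 0 := by exact_mod_cast h0
    rw [CharP.cast_eq_zero_iff k p] at h1
    have := (Nat.prime_dvd_prime_iff_eq (Fact.out : p.Prime) Nat.prime_three).1 h1
    omega
  have h9 : 9 ≤ Fintype.card K := by
    have h1 : p ^ 2 ≤ p ^ a := Nat.pow_le_pow_right (by omega) (by omega)
    have h2 : 5 ^ 2 ≤ p ^ 2 := Nat.pow_le_pow_left h5 2
    rw [f.card]
    omega
  have can : ∀ (e : k) (x : I27 → k), e ≠ 0 → e • x = 0 → x = 0 := fun e x he hx => (smul_eq_zero.1 hx).resolve_left he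
  have htri := P.tri f h5 hij hi hj
  have L : ∀ x y z t : I27 → k, x ∈ ({x0, x1, x2, x3} : Set (I27 → k)) → y ∈ ({x0, x1, x2, x3} : Set (I27 → k)) →
      z ∈ ({x0, x1, x2, x3} : Set (I27 → k)) → t ∈ ({x0, x1, x2, x3} : Set (I27 → k)) →
      cr (cr x y) (cr z t) + cr (cr x z) (cr y t) + cr (cr x t) (cr y z) = 0 := by
    intro x y z t hx hy hz ht
    rw [cr4, htri x hx y hy z hz, htri x hx y hy t ht, htri x hx z hz t ht, htri y hy z hz t ht]
    simp
  have T := T11.of h2 h3 (P.fix f) L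
  obtain ⟨a0, a1, a2, a3, a4⟩ := P.pzero f h5 h9 nts nts' T
  have L' : ∀ x y z t : I27 → k, x ∈ ({x0, x2, x1, x3} : Set (I27 → k)) → y ∈ ({x0, x2, x1, x3} : Set (I27 → k)) →
      z ∈ ({x0, x2, x1, x3} : Set (I27 → k)) → t ∈ ({x0, x2, x1, x3} : Set (I27 → k)) →
      cr (cr x y) (cr z t) + cr (cr x z) (cr y t) + cr (cr x t) (cr y z) = 0 := by
    have e : ({x0, x2, x1, x3} : Set (I27 → k)) = {x0, x1, x2, x3} := by
      ext x
      simp only [Set.mem_insert_iff, Set.mem_singleton_iff]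
      (clear * -; tauto)
    rw [e]
    exact L
  have T' := T11.of h2 h3 (P.swap.fix f) L'
  obtain ⟨b0, b1, b2, b3, b4⟩ := P.swap.pzero f h5 h9 nts nts' T'
  have fix' : cr x1 x2 = cr x0 x3 := (P.fix f).symm
  have hr : cr (cr x0 x3) (cr x0 x3) = 0 := by
    refine can (3 : k) _ h3 ?_
    rw [T.t_y10_y12] at b2
    linear_combination (norm := module) a2 + b2
  have hs : cr (cr x0 x2) (cr x1 x3) = 0 := by
    rw [hr, smul_zero, zero_add] at a2
    exact a2
  refine sq_bot' (S := {x0, x1, x2, x3}) (T := {cr x0 x0, cr x0 x2, cr x2 x2, cr x0 x1, cr x0 x3, cr x2 x3, cr x1 x1, cr x1 x3, cr x3 x3}) f h2 nts nts' hst ?_ ?_ x0 (by simp)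
  · intro x hx y hy
    apply Submodule.subset_span
    simp only [Set.mem_insert_iff, Set.mem_singleton_iff] at hx hy ⊢
    rcases hx with h | h | h | h <;> rcases hy with h' | h' | h' | h' <;> rw [h, h'] <;>
      simp only [cr_comm x1 x0, cr_comm x2 x0, cr_comm x3 x0, cr_comm x2 x1, cr_comm x3 x1, cr_comm x3 x2, fix', _root_.true_or, _root_.or_true]
  · clear hst L L' T' htri fix' P
    generalize cr x0 x0 = y00 at *
    generalize cr x0 x2 = y01 at *
    generalize cr x2 x2 = y02 at *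
    generalize cr x0 x1 = y10 at *
    generalize cr x0 x3 = y11 at *
    generalize cr x2 x3 = y12 at *
    generalize cr x1 x1 = y20 at *
    generalize cr x1 x3 = y21 at *
    generalize cr x3 x3 = y22 at *
    intro y hy y' hy'
    simp only [Set.mem_insert_iff, Set.mem_singleton_iff] at hy hy'
    rcases hy with h | h | h | h | h | h | h | h | h <;>
      rcases hy' with h' | h' | h' | h' | h' | h' | h' | h' | h' <;> rw [h, h'] <;>
      simp only [cr_comm y01 y00, cr_comm y02 y00, cr_comm y02 y01, cr_comm y10 y00, cr_comm y10 y01, cr_comm y10 y02, cr_comm y11 y00, cr_comm y11 y01, cr_comm y11 y02, cr_comm y11 y10, cr_comm y12 y00, cr_comm y12 y01, cr_comm y12 y02, cr_comm y12 y10, cr_comm y12 y11, cr_comm y20 y00, cr_comm y20 y01, cr_comm y20 y02, cr_comm y20 y10, cr_comm y20 y11, cr_comm y20 y12, cr_comm y21 y00, cr_comm y21 y01, cr_comm y21 y02, cr_comm y21 y10, cr_comm y21 y11, cr_comm y21 y12, cr_comm y21 y20, cr_comm y22 y00, cr_comm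 y22 y01, cr_comm y22 y02, cr_comm y22 y10, cr_comm y22 y11, cr_comm y22 y12, cr_comm y22 y20, cr_comm y22 y21, T.t_y00_y00, T.t_y00_y01, T.t_y00_y02, T.t_y00_y10, T.t_y00_y11, T.t_y00_y12, T.t_y00_y20, T.t_y00_y21, T.t_y00_y22, T.t_y01_y02, T.t_y01_y10, T.t_y01_y12, T.t_y01_y20, T.t_y01_y22, T.t_y02_y02, T.t_y02_y10, T.t_y02_y11, T.t_y02_y12, T.t_y02_y20, T.t_y02_y21, T.t_y02_y22, T.t_y10_y12, T.t_y10_y20, T.t_y10_y21, T.t_y10_y22, T.t_y11_y20, T.t_y11_y22, T.t_y12_y20, T.t_y12_y21, T.t_y12_y22, T.t_y20_y20, T.t_y20_y21, T.t_y20_y22, T.t_y21_y22, T.t_y22_y22, a0, a1, a3, a4, b0, b1, b3, b4, hr, hs, smul_zero, add_zero]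

end pair

/-- **L11** -/
theorem not_inSoc_pair (f : Fra p a ψ ρ ρ') (h5 : 5 ≤ p) (nts : Nts ψ ρ) (nts' : Nts ψ ρ') {i j : ℕ}
    (hij : i ≠ j) (hi : i < a) (hj : j < a) : ¬ InSoc ι p (Rr ρ ψ) (p ^ i + p ^ j) := by
  intro h
  obtain ⟨X, hX, hb⟩ := h
  have hb' : IsV ι p (subRep (Rr ρ ψ) X hX) (1 * p ^ i + 1 * p ^ j) := by rwa [one_mul, one_mul]
  obtain ⟨v, hv⟩ := hb'.basP ι p f.card (by omega) (by omega) hij hi hj
  have hne : ((v 0 0 : X) : I27 → k) ≠ 0 := by
    intro h0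
    exact hv.li.ne_zero ((0, 0) : Fin (1 + 1) × Fin (1 + 1)) (Subtype.ext h0)
  have hu : ∀ s ≤ 1, ∀ s' ≤ 1, ∀ t, Rr ρ ψ (Cfsg.Agent.H943.SL2Rel.u t) (v s s' : I27 → k) =
      ∑ l ∈ Finset.range (1 - s + 1), ∑ l' ∈ Finset.range (1 - s' + 1),
      ((((1 - s).choose l : k) * (ι t ^ p ^ i) ^ l) * (((1 - s').choose l' : k) * (ι t ^ p ^ j) ^ l')) •
        (v (s + l) (s' + l') : I27 → k) := by
    intro s hs s' hs' t
    have h1 := congrArg Subtype.val (hv.u s hs s' hs' t)
    rw [Submodule.coe_sum] at h1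
    refine h1.trans (Finset.sum_congr rfl fun l _ => ?_)
    rw [Submodule.coe_sum]
    rfl
  have P : P11 ι p ρ ψ i j (v 0 0 : I27 → k) (v 1 0) (v 0 1) (v 1 1) := by
    refine ⟨fun t => ?_, fun t => ?_, fun t => ?_, fun t => ?_, fun b => ?_, fun b => ?_, fun b => ?_, fun b => ?_, ?_, ?_,
      ?_, ?_⟩
    · have h1 := hu 0 (by norm_num) 0 (by norm_num) t
      simp only [Finset.sum_range_succ, Finset.sum_range_zero, Nat.choose, Rr_apply] at h1
      rw [h1]
      norm_num only [_root_.pow_zero, _root_.mul_one, _root_.one_smul, _root_.zero_add, _root_.pow_one, _root_.one_mul]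
      module
    · have h1 := hu 1 (by norm_num) 0 (by norm_num) t
      simp only [Finset.sum_range_succ, Finset.sum_range_zero, Nat.choose, Rr_apply] at h1
      rw [h1]
      norm_num only [_root_.Nat.choose_self, _root_.Nat.cast_one, _root_.pow_zero, _root_.mul_one, _root_.one_smul, _root_.zero_add, _root_.pow_one, _root_.one_mul]
    · have h1 := hu 0 (by norm_num) 1 (by norm_num) t
      simp only [Finset.sum_range_succ, Finset.sum_range_zero, Nat.choose, Rr_apply] at h1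
      rw [h1]
      norm_num only [_root_.pow_zero, _root_.mul_one, _root_.Nat.choose_self, _root_.Nat.cast_one, _root_.one_smul, _root_.zero_add, _root_.pow_one, _root_.one_mul]
    · have h1 := hu 1 (by norm_num) 1 (by norm_num) t
      simp only [Finset.sum_range_succ, Finset.sum_range_zero, Nat.choose, Rr_apply] at h1
      rw [h1]
      norm_num
    · have h1 := congrArg Subtype.val (hv.h 0 (by norm_num) 0 (by norm_num) b)
      refine h1.trans ?_
      show ((ι (b : K) ^ p ^ i) ^ 0 * ((ι (b : K) ^ p ^ i)⁻¹) ^ 1 * ((ι (b : K) ^ p ^ j) ^ 0 * ((ι (b : K) ^ p ^ j)⁻¹) ^ 1)) •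
        (v 0 0 : I27 → k) = _
      rw [pow_zero, pow_zero, pow_one, pow_one, one_mul, one_mul]
    · have h1 := congrArg Subtype.val (hv.h 1 (by norm_num) 0 (by norm_num) b)
      refine h1.trans ?_
      show ((ι (b : K) ^ p ^ i) ^ 1 * ((ι (b : K) ^ p ^ i)⁻¹) ^ 0 * ((ι (b : K) ^ p ^ j) ^ 0 * ((ι (b : K) ^ p ^ j)⁻¹) ^ 1)) •
        (v 1 0 : I27 → k) = _
      rw [pow_zero, pow_zero, pow_one, pow_one, mul_one, one_mul]
    · have h1 := congrArg Subtype.val (hv.h 0 (by norm_num) 1 (by norm_num) b)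
      refine h1.trans ?_
      show ((ι (b : K) ^ p ^ i) ^ 0 * ((ι (b : K) ^ p ^ i)⁻¹) ^ 1 * ((ι (b : K) ^ p ^ j) ^ 1 * ((ι (b : K) ^ p ^ j)⁻¹) ^ 0)) •
        (v 0 1 : I27 → k) = _
      rw [pow_zero, pow_zero, pow_one, pow_one, mul_one, one_mul]
    · have h1 := congrArg Subtype.val (hv.h 1 (by norm_num) 1 (by norm_num) b)
      refine h1.trans ?_
      show ((ι (b : K) ^ p ^ i) ^ 1 * ((ι (b : K) ^ p ^ i)⁻¹) ^ 0 * ((ι (b : K) ^ p ^ j) ^ 1 * ((ι (b : K) ^ p ^ j)⁻¹) ^ 0)) •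
        (v 1 1 : I27 → k) = _
      rw [pow_zero, pow_zero, pow_one, pow_one, mul_one, mul_one]
    · have h1 := congrArg Subtype.val (hv.w 0 (by norm_num) 0 (by norm_num))
      refine h1.trans ?_
      show ((-1 : k) ^ 0 * (-1 : k) ^ 0) • (v 1 1 : I27 → k) = _
      rw [pow_zero, one_mul, one_smul]
    · have h1 := congrArg Subtype.val (hv.w 1 (by norm_num) 0 (by norm_num))
      refine h1.trans ?_
      show ((-1 : k) ^ 1 * (-1 : k) ^ 0) • (v 0 1 : I27 → k) = _
      rw [pow_zero, pow_one, mul_one, neg_one_smul]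
    · have h1 := congrArg Subtype.val (hv.w 0 (by norm_num) 1 (by norm_num))
      refine h1.trans ?_
      show ((-1 : k) ^ 0 * (-1 : k) ^ 1) • (v 1 0 : I27 → k) = _
      rw [pow_zero, pow_one, one_mul, neg_one_smul]
    · have h1 := congrArg Subtype.val (hv.w 1 (by norm_num) 1 (by norm_num))
      refine h1.trans ?_
      show ((-1 : k) ^ 1 * (-1 : k) ^ 1) • (v 0 0 : I27 → k) = _
      rw [pow_one, neg_one_mul, neg_neg, one_smul]
  refine hne (P.zero f h5 nts nts' hij hi hj ?_)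
  have hspan : Submodule.span k ({(v 0 0 : I27 → k), (v 1 0 : I27 → k), (v 0 1 : I27 → k), (v 1 1 : I27 → k)} :
      Set (I27 → k)) = X := by
    apply le_antisymm
    · rw [Submodule.span_le]
      intro x hx
      simp only [Set.mem_insert_iff, Set.mem_singleton_iff] at hx
      rcases hx with rfl | rfl | rfl | rfl <;> exact Subtype.property _
    · intro x hx
      have h1 : (⟨x, hx⟩ : X) ∈ Submodule.span k (Set.range fun y : Fin (1 + 1) × Fin (1 + 1) => v y.1 y.2) :=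
        hv.sp trivial
      have h2 := Submodule.mem_map_of_mem (f := X.subtype) h1
      rw [Submodule.map_span] at h2
      refine Submodule.span_mono ?_ h2
      rintro _ ⟨_, ⟨⟨y, z⟩, rfl⟩, rfl⟩
      (revert y z; simp only [_root_.Fin.forall_fin_succ, Nat.reduceAdd, _root_.Submodule.subtype_apply, _root_.Set.mem_insert_iff, _root_.SetLike.coe_eq_coe, _root_.Set.mem_singleton_iff, Fin.isValue, _root_.Fin.coe_ofNat_eq_mod, _root_.Nat.zero_mod, _root_.Fin.val_succ, _root_.Fin.val_eq_zero, _root_.zero_add, _root_.forall_const, _root_.true_or, _root_.or_true, _root_.and_self, _root_.implies_true])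
  rw [hspan]
  exact hX

end Cfsg.Agent.R2.H22.Loc
end

-- part: R2/H28/SL2/Typ
section
set_option linter.all false
open scoped Cfsg.Agent.FastGrp

/-!
# Types of labels and strict pressure for patterns (helper28)

`tyl_single`, `tyl_pair` : the types of the labels with one or two digits; `hb_le_typ` : the exceptional labels have the
type `[1, p - 2]` (`[p - 3]` for `q = p`); `no_trivial` : for `p ≥ 5` a pattern of the list with a trivial factor does not
occur, except two patterns for `q = 7` and `q = 11`.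
-/

set_option autoImplicit false
set_option linter.unusedSectionVars false

namespace Cfsg.Agent.R2.H28.SL2

open Matrix Cfsg.Agent.H943.SL2Rel Cfsg.Agent.H943.SL2Mod Cfsg.Agent.H943.RepAdd
open Cfsg.Agent.R2.SL2 (typ tyl coe_tyl typ_step typ_zero listE6 tyl_eq_nil mem_typ)

universe u v w

section labels

variable {p : ℕ} [Fact p.Prime]

theorem tyl_eq {b : ℕ} {l : List ℕ} (hl : l.Pairwise (· ≤ ·)) (h : typ p b = l) : tyl p b = l := by
  have h1 : (tyl p b).Perm l := by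
    rw [← Multiset.coe_eq_coe, coe_tyl, h]
  exact h1.eq_of_pairwise' (r := (· ≤ ·)) (Multiset.pairwise_sort _ _) hl

theorem typ_mul (b : ℕ) : typ p (p * b) = typ p b := by
  have hp : p.Prime := Fact.out
  rcases Nat.eq_zero_or_pos b with rfl | hb
  · rw [mul_zero]
  · rw [typ_step hp.one_lt (Nat.mul_pos hp.pos hb).ne', Nat.mul_mod_right, if_pos rfl, zero_add, Nat.mul_div_cancel_left _ hp.pos]

theorem typ_pow (b i : ℕ) : typ p (b * p ^ i) = typ p b := by
  induction i with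
  | zero => rw [pow_zero, mul_one]
  | succ i ih => rw [show b * p ^ (i + 1) = p * (b * p ^ i) by ring, typ_mul, ih]

theorem typ_add {c n : ℕ} (h0 : 0 < n) (hn : n < p) : typ p (p * c + n) = {n} + typ p c := by
  have hp : p.Prime := Fact.out
  rw [typ_step hp.one_lt (by omega), Nat.mul_add_mod, Nat.mod_eq_of_lt hn, if_neg h0.ne', Nat.mul_add_div hp.pos,
    Nat.div_eq_of_lt hn, add_zero]

theorem typ_single {n : ℕ} (h0 : 0 < n) (hn : n < p) (i : ℕ) : typ p (n * p ^ i) = {n} := by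
  have h := typ_add (c := 0) h0 hn
  rw [mul_zero, zero_add, typ_zero, add_zero] at h
  rw [typ_pow, h]

theorem tyl_single {n : ℕ} (h0 : 0 < n) (hn : n < p) (i : ℕ) : tyl p (n * p ^ i) = [n] :=
  tyl_eq (List.pairwise_singleton _ _) (typ_single h0 hn i)

theorem typ_pair {n m : ℕ} (h0 : 0 < n) (hn : n < p) (h0' : 0 < m) (hm : m < p) {i j : ℕ} (hij : i ≠ j) :
    typ p (n * p ^ i + m * p ^ j) = {n, m} := by
  have key : ∀ {n m : ℕ}, 0 < n → n < p → 0 < m → m < p → ∀ i j : ℕ, i < j →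
      typ p (n * p ^ i + m * p ^ j) = {n, m} := by
    intro n m h0 hn h0' hm i j hij
    obtain ⟨d, rfl⟩ : ∃ d, j = i + (d + 1) := ⟨j - i - 1, by omega⟩
    rw [show n * p ^ i + m * p ^ (i + (d + 1)) = (p * (m * p ^ d) + n) * p ^ i by ring, typ_pow, typ_add h0 hn,
      typ_single h0' hm]
    rfl
  rcases Nat.lt_or_gt_of_ne hij with h | h
  · exact key h0 hn h0' hm i j h
  · rw [add_comm, key h0' hm h0 hn j i h, Multiset.pair_comm]

theorem tyl_pair {n m : ℕ} (h0 : 0 < n) (hn : n < p) (hnm : n ≤ m) (hm : m < p) {i j : ℕ} (hij : i ≠ j) :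
    tyl p (n * p ^ i + m * p ^ j) = [n, m] :=
  tyl_eq (List.pairwise_pair.2 hnm) (typ_pair h0 hn (by omega) hm hij)

theorem tyl_pair' {n m : ℕ} (h0 : 0 < n) (hn : n < p) (hnm : n ≤ m) (hm : m < p) {i j : ℕ} (hij : i ≠ j) :
    tyl p (m * p ^ i + n * p ^ j) = [n, m] := by
  rw [add_comm]
  exact tyl_pair h0 hn hnm hm (Ne.symm hij)

/-- the type of the exceptional labels -/
def hty (p a : ℕ) : List ℕ := if a = 1 then [p - 3] else [1, p - 2]

theorem hb_le_typ (hp5 : 5 ≤ p) {a b : ℕ} (hlt : b < p ^ a) (h9 : p ^ a ≠ 9) :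
    hb p a b ≤ if tyl p b = hty p a then 1 else 0 := by
  have hp : p.Prime := Fact.out
  split_ifs with h
  · exact hb_le_one hp hlt h9
  · rw [Nat.le_zero]
    unfold hb
    rw [Finset.card_eq_zero, Finset.filter_eq_empty_iff]
    intro i hi hE
    rw [Finset.mem_range] at hi
    apply h
    unfold hty
    rcases exc_odd hp (by omega) hi hlt hE with ⟨h1, h2⟩ | ⟨h1, h2⟩
    · rw [if_pos h1, h2]
      have := tyl_single (p := p) (n := p - 3) (by omega) (by omega) 0
      rwa [pow_zero, mul_one] at this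
    · rw [if_neg (by omega), h2]
      have := tyl_pair' (p := p) (n := 1) (m := p - 2) (by omega) (by omega) (by omega) (by omega) (succ_mod_ne h1 hi)
      rwa [one_mul] at this

theorem Hs_le_count (hp5 : 5 ≤ p) {a : ℕ} (h9 : p ^ a ≠ 9) {s : Multiset ℕ} (hlt : ∀ b ∈ s, b < p ^ a) :
    Hs p a s ≤ (s.map (tyl p)).count (hty p a) := by
  induction s using Multiset.induction with
  | empty => simp [Hs]
  | cons b s ih =>
    have h1 := ih fun c hc => hlt c (Multiset.mem_cons_of_mem hc)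
    have h2 := hb_le_typ hp5 (hlt b (Multiset.mem_cons_self b s)) h9
    unfold Hs at h1 ⊢
    rw [Multiset.map_cons, Multiset.sum_cons, Multiset.map_cons, Multiset.count_cons]
    have h3 : (if tyl p b = hty p a then 1 else 0) = if hty p a = tyl p b then 1 else 0 := by
      by_cases h : tyl p b = hty p a
      · rw [if_pos h, if_pos h.symm]
      · rw [if_neg h, if_neg (Ne.symm h)]
    omega

end labels

variable {k : Type u} [Field k] [DecidableEq k] {F : Type w} [Field F] [Fintype F] [DecidableEq F] (ι : F →+* k)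
variable (p : ℕ) [Fact p.Prime] [CharP k p] [CharP F p] [IsAlgClosed k] {a : ℕ} (hF : Fintype.card F = p ^ a)

theorem ne_nine (hp5 : 5 ≤ p) (a : ℕ) : p ^ a ≠ 9 := by
  have hp : p.Prime := Fact.out
  intro h
  rcases Nat.eq_zero_or_pos a with rfl | ha
  · norm_num at h
  · have h1 : p ∣ 9 := by
      rw [← h]
      exact dvd_pow_self p ha.ne'
    have h2 : p ∣ 3 := hp.dvd_of_dvd_pow (show p ∣ 3 ^ 2 from h1)
    have h3 := Nat.le_of_dvd (by norm_num) h2
    omega

include hF in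
/-- **no trivial factors** -/
theorem no_trivial {V : Type v} [AddCommGroup V] [Module k V] [FiniteDimensional k V]
    {ρ : Representation k (SpecialLinearGroup (Fin 2) F) V} (hp5 : 5 ≤ p) (hq7 : 7 ≤ p ^ a) (hfx : ∀ x, (∀ g, ρ g x = x) → x = 0)
    (hco : ∀ f : V →ₗ[k] k, (∀ g x, f (ρ g x) = f x) → f = 0) {W : List (List ℕ)} (hW : W ∈ listE6)
    (hw : (W : Multiset (List ℕ)) = (cf (Sy.{u, v, w} ι p) ρ).map (tyl p)) :
    [] ∉ W ∨ (a = 1 ∧ p = 7 ∧ W = [[], [], [2], [4], [4], [4], [6]]) ∨ (a = 1 ∧ p = 11 ∧ W = [[], [2], [4], [8], [8]]) := by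
  have hp : p.Prime := Fact.out
  by_cases hmem : [] ∉ W
  · exact Or.inl hmem
  right
  rw [not_not] at hmem
  have ha := ha_pos p hF
  have h9 := ne_nine p hp5 a
  have h0 : hb p a 0 = 0 := by
    have h1 := hb_le_typ (p := p) hp5 (a := a) (b := 0) (Nat.pow_pos hp.pos) h9
    rw [tyl_eq_nil.2 rfl, if_neg] at h1
    · omega
    · unfold hty
      split_ifs <;> simp
  -- the count of `[]`
  have h2 : (W : Multiset (List ℕ)).count [] = (cf (Sy.{u, v, w} ι p) ρ).count 0 := by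
    rw [hw, Multiset.count_map, Multiset.count_eq_card_filter_eq]
    congr 1
    refine Multiset.filter_congr fun b _ => ?_
    rw [eq_comm, tyl_eq_nil, eq_comm]
  have h3 : 0 < (cf (Sy.{u, v, w} ι p) ρ).count 0 := by
    rw [← h2]
    exact Multiset.count_pos.2 hmem
  have h4 := strict_pressure ι p hF h0 hfx hco h3
  have h5 := Hs_le_count (p := p) hp5 h9 (cf_lt ι p hF ρ)
  rw [← hw] at h5
  rw [← h2] at h4
  have h6 : (W : Multiset (List ℕ)).count [] < (W : Multiset (List ℕ)).count (hty p a) := lt_of_lt_of_le h4 h5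
  by_cases ha1 : a = 1
  · -- labels below `p`
    have h7 : ∀ t ∈ W, t.length ≤ 1 ∧ ∀ d ∈ t, d < p := by
      intro t ht
      have h8 : t ∈ (cf (Sy.{u, v, w} ι p) ρ).map (tyl p) := by
        rw [← hw]
        exact ht
      obtain ⟨b, hb, rfl⟩ := Multiset.mem_map.1 h8
      have h9 := cf_lt ι p hF ρ b hb
      refine ⟨?_, fun d hd => (Cfsg.Agent.R2.SL2.tyl_mem hd).2⟩
      have := Cfsg.Agent.R2.SL2.length_tyl_le h9
      omega
    have key : ∀ W ∈ listE6, [] ∈ W → (∀ t ∈ W, t.length ≤ 1) → ∀ n ∈ List.range 30, 4 ≤ n → (∀ t ∈ W, ∀ d ∈ t, d < n + 3) →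
        (W : Multiset (List ℕ)).count [] < (W : Multiset (List ℕ)).count [n] → (n = 4 ∧ W = [[], [], [2], [4], [4], [4], [6]]) ∨ (n = 8 ∧ W = [[], [2], [4], [8], [8]]) := by
      decide +kernel
    have key2 : ∀ W ∈ listE6, ∀ t ∈ W, ∀ d ∈ t, d < 30 := by decide +kernel
    have h8 : hty p a = [p - 3] := by
      unfold hty
      rw [if_pos ha1]
    rw [h8] at h6
    have h10' : 0 < (W : Multiset (List ℕ)).count [p - 3] := by omega
    have h10 : [p - 3] ∈ W := Multiset.count_pos.1 h10'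
    have h11 := key2 W hW _ h10 (p - 3) (List.mem_singleton_self _)
    rw [ha1, pow_one] at hq7
    rcases key W hW hmem (fun t ht => (h7 t ht).1) (p - 3) (List.mem_range.2 h11) (by omega) (fun t ht d hd => by
      have := (h7 t ht).2 d hd
      omega) h6 with ⟨h12, h13⟩ | ⟨h12, h13⟩
    · exact Or.inl ⟨ha1, by omega, h13⟩
    · exact Or.inr ⟨ha1, by omega, h13⟩
  · exfalso
    have h8 : hty p a = [1, p - 2] := by
      unfold hty
      rw [if_neg ha1]
    rw [h8] at h6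
    have key : ∀ W ∈ listE6, [] ∈ W → ∀ n ∈ List.range 30, 3 ≤ n → ¬ (W : Multiset (List ℕ)).count [] < (W : Multiset (List ℕ)).count [1, n] := by decide +kernel
    have key2 : ∀ W ∈ listE6, ∀ t ∈ W, ∀ d ∈ t, d < 30 := by decide +kernel
    have h10' : 0 < (W : Multiset (List ℕ)).count [1, p - 2] := by omega
    have h10 : [1, p - 2] ∈ W := Multiset.count_pos.1 h10'
    have h11 := key2 W hW _ h10 (p - 2) (by simp)
    exact key W hW hmem (p - 2) (List.mem_range.2 h11) (by omega) h6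

end Cfsg.Agent.R2.H28.SL2

private theorem dce_84a967c8b950 : _root_.True := by
  try have : _root_.True := by simp only [_root_.Cfsg.Agent.R2.H28.SL2.Hs.eq_1]
  exact _root_.True.intro
end

-- part: R2/H28/SL2/TK
section
prune_inst 0x4010000
set_option linter.all false
open scoped Cfsg.Agent.FastGrp

/-!
# The type kills, `p ≥ 5` (helper28): preparations

`Lc` : the local statements (L2, L4, L6, L8, L11, L22) about the socle of `V`; consequences in terms of types.
-/

set_option autoImplicit false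
set_option linter.unusedSectionVars false

namespace Cfsg.Agent.R2.H28.SL2

open Matrix Cfsg.Agent.H943.SL2Rel Cfsg.Agent.H943.SL2Mod Cfsg.Agent.H943.RepAdd
open Cfsg.Agent.R2.SL2 (typ tyl coe_tyl typ_step typ_zero listE6 tyl_eq_nil mem_typ tyl_one tyl_two)

universe u v w

/-- digits occur in the type -/
theorem digit_mem_typ {p : ℕ} [Fact p.Prime] (l : ℕ) : ∀ b : ℕ, b / p ^ l % p ≠ 0 → b / p ^ l % p ∈ typ p b := by
  have hp : p.Prime := Fact.out
  induction l with
  | zero =>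
    intro b hb
    rw [pow_zero, Nat.div_one] at hb ⊢
    have hb0 : b ≠ 0 := by
      rintro rfl
      exact hb (Nat.zero_mod p)
    rw [typ_step hp.one_lt hb0, if_neg hb]
    exact Multiset.mem_add.2 (Or.inl (Multiset.mem_singleton_self _))
  | succ l ih =>
    intro b hb
    rw [digit_shift] at hb ⊢
    have hb0 : b ≠ 0 := by
      rintro rfl
      rw [Nat.zero_div, Nat.zero_div, Nat.zero_mod] at hb
      exact hb rfl
    rw [typ_step hp.one_lt hb0]
    exact Multiset.mem_add.2 (Or.inr (ih _ hb))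

theorem count_le_map {α β : Type*} [DecidableEq α] [DecidableEq β] (f : α → β) (s : Multiset α) (c : α) :
    s.count c ≤ (s.map f).count (f c) := by
  rw [Multiset.count_map, Multiset.count_eq_card_filter_eq]
  refine Multiset.card_le_card (Multiset.monotone_filter_right _ fun x hx => ?_)
  rw [← hx]

theorem digit_le_of_tyl {p : ℕ} [Fact p.Prime] {b N : ℕ} (h : ∀ d ∈ tyl p b, d ≤ N) (l : ℕ) : b / p ^ l % p ≤ N := by
  by_cases h0 : b / p ^ l % p = 0
  · rw [h0]
    exact Nat.zero_le _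
  · refine h _ ?_
    have h1 := digit_mem_typ l b h0
    rw [← coe_tyl] at h1
    exact h1

theorem pos_of_single {p a n i : ℕ} (hn : 0 < n) (h : n * p ^ i < p ^ a) (hp : 1 < p) : i < a := by
  by_contra hc
  have h1 : p ^ a ≤ p ^ i := Nat.pow_le_pow_right (by omega) (by omega)
  have h2 : p ^ i ≤ n * p ^ i := Nat.le_mul_of_pos_left _ hn
  omega

theorem tyl_single_inv {p a : ℕ} [Fact p.Prime] {b n : ℕ} (h : tyl p b = [n]) (hb : b < p ^ a) (hn : 0 < n) :
    ∃ i < a, b = n * p ^ i := by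
  have hp : p.Prime := Fact.out
  obtain ⟨i, rfl⟩ := tyl_one h
  exact ⟨i, pos_of_single hn hb hp.one_lt, rfl⟩

theorem tyl_pair_inv {p a : ℕ} [Fact p.Prime] {b n m : ℕ} (h : tyl p b = [n, m]) (hb : b < p ^ a) (hn : 0 < n)
    (hm : 0 < m) : ∃ i < a, ∃ j < a, i ≠ j ∧ b = n * p ^ i + m * p ^ j := by
  have hp : p.Prime := Fact.out
  obtain ⟨i, j, hij, rfl⟩ := tyl_two h
  exact ⟨i, pos_of_single hn (by omega) hp.one_lt, j, pos_of_single hm (by omega) hp.one_lt, hij, rfl⟩

variable {k : Type u} [Field k] [DecidableEq k] {F : Type w} [Field F] [Fintype F] [DecidableEq F] (ι : F →+* k)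
variable (p : ℕ) [Fact p.Prime] [CharP k p] [CharP F p] [IsAlgClosed k]

/-- **the local statements** -/
structure Lc (a : ℕ) {V : Type v} [AddCommGroup V] [Module k V] [FiniteDimensional k V]
    (ρ : Representation k (_root_.Matrix.SpecialLinearGroup (Fin 2) F) V) {V' : Type v} [AddCommGroup V'] [Module k V']
    [FiniteDimensional k V'] (ρ' : Representation k (_root_.Matrix.SpecialLinearGroup (Fin 2) F) V') : Prop where
  n2 : ∀ i < a, ¬ InSoc ι p ρ (2 * p ^ i)
  n11 : ∀ i < a, ∀ j < a, i ≠ j → ¬ InSoc ι p ρ (p ^ i + p ^ j)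
  l4 : ∀ i < a, InSoc ι p ρ (4 * p ^ i) → (11 ≤ p ∧ 8 * p ^ i ∈ cf (Sy.{u, v, w} ι p) ρ) ∨
    (p = 7 ∧ p ^ i + p ^ ((i + 1) % a) ∈ cf (Sy.{u, v, w} ι p) ρ) ∨
    (p = 5 ∧ 3 * p ^ i + p ^ ((i + 1) % a) ∈ cf (Sy.{u, v, w} ι p) ρ)
  l6 : ∀ i < a, InSoc ι p ρ (6 * p ^ i) → ∃ c ∈ sqs p a i 6, c ≠ 0 ∧ InSoc ι p ρ' c
  l8 : (∀ c ∈ cf (Sy.{u, v, w} ι p) ρ, tyl p c = [8] ∨ tyl p c = [2, 2]) → ∀ i < a, ¬ InSoc ι p ρ (8 * p ^ i)
  l22 : ∀ i < a, ∀ j < a, i ≠ j → ∀ (X : Submodule k V) (hX : ∀ g, ∀ x ∈ X, ρ g x ∈ X),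
    IsV ι p (subRep ρ X hX) (2 * p ^ i + 2 * p ^ j) → ¬ InSoc ι p ρ' (4 * p ^ i) → ¬ InSoc ι p ρ' (4 * p ^ j) →
    ∃ (K : Submodule k V) (_ : ∀ g, ∀ x ∈ K, ρ g x ∈ K), IsCompl X K

variable {a : ℕ} (hF : Fintype.card F = p ^ a)
variable {V : Type v} [AddCommGroup V] [Module k V] [FiniteDimensional k V]
  {ρ : Representation k (_root_.Matrix.SpecialLinearGroup (Fin 2) F) V} {V' : Type v} [AddCommGroup V'] [Module k V']
  [FiniteDimensional k V'] {ρ' : Representation k (_root_.Matrix.SpecialLinearGroup (Fin 2) F) V'} {P : V →ₗ[k] V' →ₗ[k] k}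
  {W : List (List ℕ)}

section Soc

variable (hw : (W : Multiset (List ℕ)) = (cf (Sy.{u, v, w} ι p) ρ).map (tyl p))

include hw in
theorem cf_typ_mem {c : ℕ} (hc : c ∈ cf (Sy.{u, v, w} ι p) ρ) : tyl p c ∈ W := by
  have h1 : tyl p c ∈ (W : Multiset (List ℕ)) := by
    rw [hw]
    exact Multiset.mem_map_of_mem _ hc
  exact h1

variable (L : Lc.{u, v, w} ι p a ρ ρ') (L' : Lc.{u, v, w} ι p a ρ' ρ)
  (hw' : (W : Multiset (List ℕ)) = (cf (Sy.{u, v, w} ι p) ρ').map (tyl p))

include L hF in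
theorem soc_ne_2 {c : ℕ} (hc : InSoc ι p ρ c) : tyl p c ≠ [2] := by
  intro h
  obtain ⟨i, hi, rfl⟩ := tyl_single_inv h (cf_lt ι p hF ρ c hc.mem_cf) (by norm_num)
  exact L.n2 i hi hc

include L hF in
theorem soc_ne_11 {c : ℕ} (hc : InSoc ι p ρ c) : tyl p c ≠ [1, 1] := by
  intro h
  obtain ⟨i, hi, j, hj, hij, rfl⟩ := tyl_pair_inv h (cf_lt ι p hF ρ c hc.mem_cf) (by norm_num) (by norm_num)
  rw [one_mul, one_mul] at hc
  exact L.n11 i hi j hj hij hc

include L hF hw in
theorem soc_4 (hq9 : 9 ≤ p ^ a) {c : ℕ} (hc : InSoc ι p ρ c) (h : tyl p c = [4]) : (11 ≤ p ∧ [8] ∈ W) ∨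
    (p = 7 ∧ [1, 1] ∈ W) ∨ (p = 5 ∧ [1, 3] ∈ W) := by
  obtain ⟨i, hi, rfl⟩ := tyl_single_inv h (cf_lt ι p hF ρ c hc.mem_cf) (by norm_num)
  have ha : p < 9 → 2 ≤ a := by
    intro h9
    by_contra hc
    have ha1 : a = 1 := by omega
    rw [ha1, pow_one] at hq9
    omega
  rcases L.l4 i hi hc with ⟨h1, h2⟩ | ⟨h1, h2⟩ | ⟨h1, h2⟩
  · left
    have h3 := cf_typ_mem ι p hw h2
    rw [tyl_single (by norm_num) (by omega)] at h3
    exact ⟨h1, h3⟩
  · right; left
    have h3 := cf_typ_mem ι p hw h2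
    have h4 := tyl_pair (p := p) (n := 1) (m := 1) (by norm_num) (by omega) (by norm_num) (by omega)
      (succ_mod_ne (ha (by omega)) hi)
    rw [one_mul, one_mul] at h4
    rw [h4] at h3
    exact ⟨h1, h3⟩
  · right; right
    have h3 := cf_typ_mem ι p hw h2
    have h4 := tyl_pair' (p := p) (n := 1) (m := 3) (by norm_num) (by omega) (by norm_num) (by omega)
      (succ_mod_ne (ha (by omega)) hi)
    rw [one_mul] at h4
    rw [h4] at h3
    exact ⟨h1, h3⟩

theorem lt_of_tyl {b n : ℕ} (h : n ∈ tyl p b) : n < p := (Cfsg.Agent.R2.SL2.tyl_mem h).2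

include L L' hF hw hw' in
theorem soc_6 {c : ℕ} (hc : InSoc ι p ρ c) (h : tyl p c = [6]) :
    [12] ∈ W ∨ [8] ∈ W ∨ [4] ∈ W ∨ [1, 5] ∈ W ∨ (a = 1 ∧ p = 7) := by
  have hp : p.Prime := Fact.out
  obtain ⟨i, hi, rfl⟩ := tyl_single_inv h (cf_lt ι p hF ρ c hc.mem_cf) (by norm_num)
  have h6 : 6 < p := lt_of_tyl p (b := 6 * p ^ i) (by rw [h]; exact List.mem_singleton_self _)
  obtain ⟨c, hcs, hc0, hc'⟩ := L.l6 i hi hc
  have hW := cf_typ_mem ι p hw' hc'.mem_cf
  have hn2 := soc_ne_2 ι p hF L' hc'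
  have hn11 := soc_ne_11 ι p hF L' hc'
  have e : sqs p a i 6 = one p a i 12 + (one p a i 8 + (one p a i 4 + {0})) := rfl
  rw [e] at hcs
  simp only [Multiset.mem_add] at hcs
  have hpc : p = 7 ∨ p = 11 ∨ 13 ≤ p := by
    by_contra hcon
    have h13 : p < 13 := by omega
    interval_cases p <;> first | omega | (norm_num at hp)
  have key4 : ∀ {c : ℕ}, c ∈ one p a i 4 → tyl p c = [4] := by
    intro c hc
    unfold one at hc
    rw [if_pos (by omega), Multiset.mem_singleton] at hc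
    rw [hc, tyl_single (by norm_num) (by omega)]
  rcases hpc with h7 | h11 | h13
  · subst h7
    rcases hcs with hcs | hcs | hcs | hcs
    · by_cases ha1 : a = 1
      · exact Or.inr (Or.inr (Or.inr (Or.inr ⟨ha1, rfl⟩)))
      · unfold one ov at hcs
        rw [if_neg (by norm_num), if_neg ha1] at hcs
        simp only [Multiset.insert_eq_cons, Multiset.mem_cons, Multiset.mem_singleton] at hcs
        rcases hcs with hcs | hcs
        · have h4 := tyl_pair' (p := 7) (n := 1) (m := 5) (by norm_num) (by omega) (by norm_num) (by omega)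
            (succ_mod_ne (a := a) (i := i) (by omega) hi)
          rw [one_mul] at h4
          norm_num at hcs
          rw [← hcs] at h4
          rw [h4] at hW
          exact Or.inr (Or.inr (Or.inr (Or.inl hW)))
        · norm_num at hcs
          exact absurd hcs hc0
    · by_cases ha1 : a = 1
      · exact Or.inr (Or.inr (Or.inr (Or.inr ⟨ha1, rfl⟩)))
      · unfold one ov at hcs
        rw [if_neg (by norm_num), if_neg ha1] at hcs
        simp only [Multiset.insert_eq_cons, Multiset.mem_cons, Multiset.mem_singleton] at hcs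
        rcases hcs with hcs | hcs
        · have h4 := tyl_pair (p := 7) (n := 1) (m := 1) (by norm_num) (by omega) (by norm_num) (by omega)
            (succ_mod_ne (a := a) (i := i) (by omega) hi)
          rw [one_mul, one_mul] at h4
          norm_num at hcs
          rw [← hcs] at h4
          exact absurd h4 hn11
        · norm_num at hcs
          rw [hcs, tyl_single (by norm_num) (by norm_num)] at hW
          exact Or.inr (Or.inr (Or.inl hW))
    · rw [key4 hcs] at hW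
      exact Or.inr (Or.inr (Or.inl hW))
    · exact absurd (Multiset.mem_singleton.1 hcs) hc0
  · subst h11
    rcases hcs with hcs | hcs | hcs | hcs
    · by_cases ha1 : a = 1
      · unfold one ov at hcs
        rw [if_neg (by norm_num), if_pos ha1, if_neg (by norm_num)] at hcs
        simp only [Multiset.insert_eq_cons, Multiset.mem_cons, Multiset.mem_singleton] at hcs
        norm_num at hcs
        rcases hcs with hcs | hcs | hcs
        · have h4 := tyl_single (p := 11) (n := 2) (by norm_num) (by norm_num) 0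
          rw [pow_zero, mul_one] at h4
          exact absurd (by rw [hcs]; exact h4) hn2
        · exact absurd hcs hc0
        · have h4 := tyl_single (p := 11) (n := 8) (by norm_num) (by norm_num) 0
          rw [pow_zero, mul_one] at h4
          rw [hcs, h4] at hW
          exact Or.inr (Or.inl hW)
      · unfold one ov at hcs
        rw [if_neg (by norm_num), if_neg ha1] at hcs
        simp only [Multiset.insert_eq_cons, Multiset.mem_cons, Multiset.mem_singleton] at hcs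
        rcases hcs with hcs | hcs
        · have h4 := tyl_pair (p := 11) (n := 1) (m := 1) (by norm_num) (by omega) (by norm_num) (by omega)
            (succ_mod_ne (a := a) (i := i) (by omega) hi)
          rw [one_mul, one_mul] at h4
          norm_num at hcs
          rw [← hcs] at h4
          exact absurd h4 hn11
        · norm_num at hcs
          rw [hcs, tyl_single (by norm_num) (by norm_num)] at hW
          exact Or.inr (Or.inl hW)
    · unfold one at hcs
      rw [if_pos (by norm_num), Multiset.mem_singleton] at hcs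
      rw [hcs, tyl_single (by norm_num) (by norm_num)] at hW
      exact Or.inr (Or.inl hW)
    · rw [key4 hcs] at hW
      exact Or.inr (Or.inr (Or.inl hW))
    · exact absurd (Multiset.mem_singleton.1 hcs) hc0
  · rcases hcs with hcs | hcs | hcs | hcs
    · unfold one at hcs
      rw [if_pos (by omega), Multiset.mem_singleton] at hcs
      rw [hcs, tyl_single (by norm_num) (by omega)] at hW
      exact Or.inl hW
    · unfold one at hcs
      rw [if_pos (by omega), Multiset.mem_singleton] at hcs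
      rw [hcs, tyl_single (by norm_num) (by omega)] at hW
      exact Or.inr (Or.inl hW)
    · rw [key4 hcs] at hW
      exact Or.inr (Or.inr (Or.inl hW))
    · exact absurd (Multiset.mem_singleton.1 hcs) hc0

include L hF hw in
theorem soc_8 {c : ℕ} (hc : InSoc ι p ρ c) (h : tyl p c = [8]) : ¬ ∀ t ∈ W, t = [8] ∨ t = [2, 2] := by
  intro hall
  obtain ⟨i, hi, rfl⟩ := tyl_single_inv h (cf_lt ι p hF ρ c hc.mem_cf) (by norm_num)
  exact L.l8 (fun c hc => hall _ (cf_typ_mem ι p hw hc)) i hi hc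

/-- the conditions on the types of the factors of the socle -/
def Sty (p a : ℕ) (W : List (List ℕ)) (s : List ℕ) : Prop :=
  s ∈ W ∧ s ≠ [2] ∧ s ≠ [1, 1] ∧
  (s = [4] → (11 ≤ p ∧ [8] ∈ W) ∨ (p = 7 ∧ [1, 1] ∈ W) ∨ (p = 5 ∧ [1, 3] ∈ W)) ∧
  (s = [6] → [12] ∈ W ∨ [8] ∈ W ∨ [4] ∈ W ∨ [1, 5] ∈ W ∨ (a = 1 ∧ p = 7)) ∧
  (s = [8] → ¬ ∀ t ∈ W, t = [8] ∨ t = [2, 2])

include L L' hF hw hw' in
theorem sty (hq9 : 9 ≤ p ^ a) {c : ℕ} (hc : InSoc ι p ρ c) : Sty p a W (tyl p c) :=
  ⟨cf_typ_mem ι p hw hc.mem_cf, soc_ne_2 ι p hF L hc, soc_ne_11 ι p hF L hc, soc_4 ι p hF hw L hq9 hc,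
    soc_6 ι p hF hw L L' hw' hc, soc_8 ι p hF hw L hc⟩

include hw in
/-- `kill_typ` with types -/
theorem kt (D : Dul ρ ρ' P) (t : List ℕ) (h1 : (W : Multiset (List ℕ)).count t = 1) (hs : ∀ c, InSoc ι p ρ c → tyl p c = t)
    (hs' : ∀ c, InSoc ι p ρ' c → tyl p c = t) (hc : 2 ≤ W.length) : False := by
  refine kill_typ ι p D (fun b => t = tyl p b) ?_ (fun c hc => (hs c hc).symm) (fun c hc => (hs' c hc).symm) ?_
  · rw [hw, Multiset.count_map] at h1
    rw [Multiset.countP_eq_card_filter]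
    exact h1
  · have h2 : Multiset.card (W : Multiset (List ℕ)) = W.length := rfl
    rw [← h2, hw, Multiset.card_map] at hc
    exact hc

end Soc

/-! ## EXTP for types -/

/-- the neighbour of a single label -/
def nb (p a d : ℕ) : ℕ := p ^ (Nat.log p d) + p ^ ((Nat.log p d + 1) % a)

theorem nb_single {n m : ℕ} (hn : 0 < n) (hnp : n < p) : nb p a (n * p ^ m) = p ^ m + p ^ ((m + 1) % a) := by
  have h1 : Nat.log p (n * p ^ m) = m := by
    refine Nat.log_eq_of_pow_le_of_lt_pow (Nat.le_mul_of_pos_left _ hn) ?_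
    rw [pow_succ, mul_comm]
    exact Nat.mul_lt_mul_of_pos_left hnp (Nat.pow_pos (by omega))
  unfold nb
  rw [h1]

include hF in
theorem extp_11 (D : Dul ρ ρ' P) (hp5 : 5 < p) (ha : 2 ≤ a) {i j : ℕ} (hi : i < a) (hj : j < a) (hij : i ≠ j)
    (h1 : ¬ InSoc ι p ρ (p ^ i + p ^ j)) (h2 : ¬ InSoc ι p ρ' (p ^ i + p ^ j))
    (hbm : p ^ i + p ^ j ∈ cf (Sy.{u, v, w} ι p) ρ)
    (hsm : ∀ d ∈ cf (Sy.{u, v, w} ι p) ρ, tyl p d = [p - 3] ∨ ∀ e ∈ tyl p d, e < p - 3) :
    (cf (Sy.{u, v, w} ι p) ρ).count (p ^ i + p ^ j) <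
      (((cf (Sy.{u, v, w} ι p) ρ).filter fun d => tyl p d = [p - 3]).map (nb p a)).count (p ^ i + p ^ j) := by
  have hp : p.Prime := Fact.out
  have hdig : ∀ d ∈ cf (Sy.{u, v, w} ι p) ρ, ∀ l, d / p ^ l % p ≤ p - 3 := by
    intro d hd l
    rcases hsm d hd with h | h
    · exact digit_le_of_tyl (by rw [h]; intro e he; exact (List.mem_singleton.1 he).le) l
    · exact digit_le_of_tyl (fun e he => (h e he).le) l
  have h0 : hb p a 0 = 0 := hb_eq_zero_of_digits hp (by omega) ha (Nat.pow_pos hp.pos) fun i _ => by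
    rw [Nat.zero_div, Nat.zero_mod]
    omega
  have h3 := extp ι p hF D h0 h1 h2 hbm fun d hd l _ => by
    have := hdig d hd l
    rw [dg_pair p hp.one_lt hij]
    split_ifs <;> omega
  refine lt_of_lt_of_le h3 ?_
  rw [Multiset.count_map, Multiset.filter_filter, ← Multiset.countP_eq_card_filter]
  have key : ∀ s : Multiset ℕ, (∀ d ∈ s, d ∈ cf (Sy.{u, v, w} ι p) ρ) →
      (s.map fun d => Hs p a (cg p a (p ^ i + p ^ j) d)).sum ≤
        s.countP fun d => p ^ i + p ^ j = nb p a d ∧ tyl p d = [p - 3] := by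
    intro s
    induction s using Multiset.induction with
    | empty => intro _; simp
    | cons d s ih =>
      intro hs
      have h4 := ih fun e he => hs e (Multiset.mem_cons_of_mem he)
      have hd := hs d (Multiset.mem_cons_self d s)
      rw [Multiset.map_cons, Multiset.sum_cons, Multiset.countP_cons]
      have h5 : Hs p a (cg p a (p ^ i + p ^ j) d) ≤ if p ^ i + p ^ j = nb p a d ∧ tyl p d = [p - 3] then 1 else 0 := by
        by_cases h6 : tyl p d = [p - 3]
        · obtain ⟨m, hm, rfl⟩ := tyl_single_inv h6 (cf_lt ι p hF ρ d hd) (by omega)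
          refine le_trans (Hs_pair_single p hp hp5 ha hij hi hj hm) ?_
          rw [nb_single p (by omega) (by omega)]
          split_ifs with h7 h8
          · exact le_rfl
          · exfalso
            apply h8
            refine ⟨?_, h6⟩
            rcases h7 with ⟨rfl, rfl⟩ | ⟨rfl, rfl⟩
            · rfl
            · exact add_comm _ _
          · exact Nat.zero_le _
          · exact Nat.zero_le _
        · have h7 := (hsm d hd).resolve_left h6
          rw [Hs_pair_small p hp (by omega) ha hij fun l _ => ?_]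
          · exact Nat.zero_le _
          · by_cases h8 : d / p ^ l % p = 0
            · omega
            · refine h7 _ ?_
              have h9 := digit_mem_typ l d h8
              rw [← coe_tyl] at h9
              exact h9
      omega
  exact key _ fun d hd => hd

include hF in
/-- **EXTP for the types** -/
theorem ext_types (D : Dul ρ ρ' P) (hp5 : 5 < p) (ha : 2 ≤ a) (L : Lc.{u, v, w} ι p a ρ ρ') (L' : Lc.{u, v, w} ι p a ρ' ρ)
    (hw : (W : Multiset (List ℕ)) = (cf (Sy.{u, v, w} ι p) ρ).map (tyl p))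
    (hsm : ∀ t ∈ W, t = [p - 3] ∨ ∀ e ∈ t, e < p - 3) (h11 : [1, 1] ∈ W) :
    (W : Multiset (List ℕ)).count [1, 1] < (W : Multiset (List ℕ)).count [p - 3] := by
  have hp : p.Prime := Fact.out
  set A := (cf (Sy.{u, v, w} ι p) ρ).filter fun d => [1, 1] = tyl p d with hA
  set C := (cf (Sy.{u, v, w} ι p) ρ).filter fun d => tyl p d = [p - 3] with hC
  have hA1 : (W : Multiset (List ℕ)).count [1, 1] = Multiset.card A := by rw [hw, Multiset.count_map]
  have hC1 : (W : Multiset (List ℕ)).count [p - 3] = Multiset.card C := by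
    rw [hw, Multiset.count_map, hC]
    congr 1
    exact Multiset.filter_congr fun _ _ => eq_comm
  have key : ∀ b ∈ A, A.count b < (C.map (nb p a)).count b := by
    intro b hb
    obtain ⟨hb1, hb2⟩ := Multiset.mem_filter.1 hb
    obtain ⟨i, hi, j, hj, hij, rfl⟩ := tyl_pair_inv hb2.symm (cf_lt ι p hF ρ b hb1) (by norm_num) (by norm_num)
    rw [one_mul, one_mul] at *
    refine lt_of_le_of_lt (Multiset.count_le_of_le _ (Multiset.filter_le _ _)) ?_
    exact extp_11 ι p hF D hp5 ha hi hj hij (L.n11 i hi j hj hij) (L'.n11 i hi j hj hij) hb1 fun d hd =>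
      hsm _ (cf_typ_mem ι p hw hd)
  have hA0 : A.toFinset.Nonempty := by
    have h1 : 0 < Multiset.card A := by
      rw [← hA1]
      exact Multiset.count_pos.2 h11
    obtain ⟨b, hb⟩ := Multiset.card_pos_iff_exists_mem.1 h1
    exact ⟨b, Multiset.mem_toFinset.2 hb⟩
  rw [hA1, hC1, ← Multiset.toFinset_sum_count_eq A, ← Multiset.card_map (nb p a) C]
  calc ∑ b ∈ A.toFinset, A.count b < ∑ b ∈ A.toFinset, (C.map (nb p a)).count b :=
        Finset.sum_lt_sum_of_nonempty hA0 fun b hb => key b (Multiset.mem_toFinset.1 hb)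
    _ ≤ ∑ b ∈ A.toFinset ∪ (C.map (nb p a)).toFinset, (C.map (nb p a)).count b :=
        Finset.sum_le_sum_of_subset Finset.subset_union_left
    _ = Multiset.card (C.map (nb p a)) := by
        symm
        exact (Multiset.sum_count_eq_card fun b hb => Finset.mem_union_right _ (Multiset.mem_toFinset.2 hb)).symm

/-! ## Complements -/

theorem compl_inSoc (D : Dul ρ ρ' P) {X K : Submodule k V} (hX : ∀ g, ∀ x ∈ X, ρ g x ∈ X) (hK : ∀ g, ∀ x ∈ K, ρ g x ∈ K)
    (h : IsCompl X K) {b : ℕ} (hb : IsV ι p (subRep ρ X hX) b) : InSoc ι p ρ' b := by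
  obtain ⟨B', D', -⟩ := D.quot hK
  obtain ⟨e, he⟩ := eqv_of_compl hK hX h.symm
  exact ⟨orth P K, D.orth_inv hK, IsV.dual ι p (IsV.iso ι p e he hb) D'⟩

theorem inSoc_quot {X K : Submodule k V} (hX : ∀ g, ∀ x ∈ X, ρ g x ∈ X) (hK : ∀ g, ∀ x ∈ K, ρ g x ∈ K)
    (h : IsCompl X K) {b : ℕ} (hb : InSoc ι p (quotRep ρ X hX) b) : InSoc ι p (subRep ρ K hK) b := by
  obtain ⟨e, he⟩ := eqv_of_compl hX hK h
  refine hb.iso ι p (e.symm : (V ⧸ X) →ₗ[k] K) (fun g x => ?_) e.symm.injective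
  show e.symm _ = subRep ρ K hK g (e.symm x)
  rw [LinearEquiv.symm_apply_eq, he, LinearEquiv.apply_symm_apply]

theorem uniq_typ (hw : (W : Multiset (List ℕ)) = (cf (Sy.{u, v, w} ι p) ρ).map (tyl p)) {t : List ℕ}
    (h1 : (W : Multiset (List ℕ)).count t = 1) {b c : ℕ} (hb : b ∈ cf (Sy.{u, v, w} ι p) ρ)
    (hc : c ∈ cf (Sy.{u, v, w} ι p) ρ) (hbt : tyl p b = t) (hct : tyl p c = t) :
    b = c ∧ (cf (Sy.{u, v, w} ι p) ρ).count b = 1 := by
  obtain ⟨s, hs⟩ := Multiset.exists_cons_of_mem hb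
  rw [hw, hs, Multiset.map_cons, hbt, Multiset.count_cons_self] at h1
  have h2 : t ∉ s.map (tyl p) := by
    rw [← Multiset.count_eq_zero]
    omega
  have h3 : ∀ d ∈ s, tyl p d ≠ t := fun d hd h => h2 (by rw [← h]; exact Multiset.mem_map_of_mem _ hd)
  constructor
  · rw [hs] at hc
    rcases Multiset.mem_cons.1 hc with h | h
    · exact h.symm
    · exact absurd hct (h3 c h)
  · rw [hs, Multiset.count_cons_self, Multiset.count_eq_zero_of_notMem fun h => h3 b h hbt]

/-- the types of the factors of a complement -/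
theorem compl_typ (hw : (W : Multiset (List ℕ)) = (cf (Sy.{u, v, w} ι p) ρ).map (tyl p)) {t : List ℕ}
    (h1 : (W : Multiset (List ℕ)).count t = 1) {X K : Submodule k V} (hX : ∀ g, ∀ x ∈ X, ρ g x ∈ X)
    (hK : ∀ g, ∀ x ∈ K, ρ g x ∈ K)
    (h : IsCompl X K) {b : ℕ} (hb : IsV ι p (subRep ρ X hX) b) (hbt : tyl p b = t) {c : ℕ}
    (hc : c ∈ cf (Sy.{u, v, w} ι p) (subRep ρ K hK)) : tyl p c ≠ t := by
  intro hct
  have h2 := cf_sup (S := Sy.{u, v, w} ι p) hX hK h
  rw [hw, h2, cf_irr (Sy.{u, v, w} ι p) hb, Multiset.map_add, Multiset.count_add, Multiset.map_singleton, hbt,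
    Multiset.count_singleton_self] at h1
  have h3 : 0 < ((cf (Sy.{u, v, w} ι p) (subRep ρ K hK)).map (tyl p)).count t := by
    rw [← hct]
    exact Multiset.count_pos.2 (Multiset.mem_map_of_mem _ hc)
  omega

end Cfsg.Agent.R2.H28.SL2
end

-- part: R2/H28/SL2/TK2
section
prune_inst 0x4010000
set_option linter.all false
open scoped Cfsg.Agent.FastGrp

/-!
# The type kills, `p ≥ 5` (helper28): the theorem
-/

set_option autoImplicit false
set_option linter.unusedSectionVars false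

namespace Cfsg.Agent.R2.H28.SL2

open Matrix Cfsg.Agent.H943.SL2Rel Cfsg.Agent.H943.SL2Mod Cfsg.Agent.H943.RepAdd
open Cfsg.Agent.R2.SL2 (typ tyl coe_tyl typ_step typ_zero listE6 tyl_eq_nil mem_typ tyl_one tyl_two)

universe u v w

variable {k : Type u} [Field k] [DecidableEq k] {F : Type w} [Field F] [Fintype F] [DecidableEq F] (ι : F →+* k)
variable (p : ℕ) [Fact p.Prime] [CharP k p] [CharP F p] [IsAlgClosed k] {a : ℕ} (hF : Fintype.card F = p ^ a)
variable {V : Type v} [AddCommGroup V] [Module k V] [FiniteDimensional k V]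
  {ρ : Representation k (SpecialLinearGroup (Fin 2) F) V} {V' : Type v} [AddCommGroup V'] [Module k V']
  [FiniteDimensional k V'] {ρ' : Representation k (SpecialLinearGroup (Fin 2) F) V'} {P : V →ₗ[k] V' →ₗ[k] k}
  {W : List (List ℕ)}

include hF in
/-- the complements from `L22` -/
theorem compl_22 (L : Lc.{u, v, w} ι p a ρ ρ') (h4 : ∀ c, InSoc ι p ρ' c → tyl p c ≠ [4]) (h5 : 4 < p)
    {X : Submodule k V} (hX : ∀ g, ∀ x ∈ X, ρ g x ∈ X) {b : ℕ} (hb : IsV ι p (subRep ρ X hX) b) (hbt : tyl p b = [2, 2]) :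
    ∃ (K : Submodule k V) (_ : ∀ g, ∀ x ∈ K, ρ g x ∈ K), IsCompl X K := by
  have hbs : InSoc ι p ρ b := ⟨X, hX, hb⟩
  obtain ⟨i, hi, j, hj, hij, rfl⟩ := tyl_pair_inv hbt (cf_lt ι p hF ρ b hbs.mem_cf) (by norm_num) (by norm_num)
  exact L.l22 i hi j hj hij X hX hb (fun h => h4 _ h (tyl_single (by norm_num) h5 i))
    (fun h => h4 _ h (tyl_single (by norm_num) h5 j))

include hF in
/-- the pattern `[2,2], [4], [12]` -/
theorem kill_p22 (D : Dul ρ ρ' P) (L : Lc.{u, v, w} ι p a ρ ρ') (L' : Lc.{u, v, w} ι p a ρ' ρ)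
    (hw : (W : Multiset (List ℕ)) = (cf (Sy.{u, v, w} ι p) ρ).map (tyl p))
    (hw' : (W : Multiset (List ℕ)) = (cf (Sy.{u, v, w} ι p) ρ').map (tyl p))
    (hW : W = [[2, 2], [4], [12]])
    (hs : ∀ c, InSoc ι p ρ c → tyl p c = [2, 2] ∨ tyl p c = [12]) (hs' : ∀ c, InSoc ι p ρ' c → tyl p c = [2, 2] ∨ tyl p c = [12])
    (h5 : 4 < p) : False := by
  have hcf := cf_dual ι p D
  have h4 : ∀ c, InSoc ι p ρ c → tyl p c ≠ [4] := fun c hc h => by
    rcases hs c hc with h1 | h1 <;> rw [h1] at h <;> simp at h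
  have h4' : ∀ c, InSoc ι p ρ' c → tyl p c ≠ [4] := fun c hc h => by
    rcases hs' c hc with h1 | h1 <;> rw [h1] at h <;> simp at h
  have c22 : (W : Multiset (List ℕ)).count [2, 2] = 1 := by rw [hW]; decide
  have c12 : (W : Multiset (List ℕ)).count [12] = 1 := by rw [hW]; decide
  by_cases h22 : (∃ c, InSoc ι p ρ c ∧ tyl p c = [2, 2]) ∨ ∃ c, InSoc ι p ρ' c ∧ tyl p c = [2, 2]
  · -- both
    have hboth : ∃ b, InSoc ι p ρ b ∧ InSoc ι p ρ' b ∧ tyl p b = [2, 2] := by
      rcases h22 with ⟨c, ⟨X, hX, hc⟩, ht⟩ | ⟨c, ⟨X, hX, hc⟩, ht⟩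
      · obtain ⟨K, hK, hXK⟩ := compl_22 ι p hF L h4' h5 hX hc ht
        exact ⟨c, ⟨X, hX, hc⟩, compl_inSoc ι p D hX hK hXK hc, ht⟩
      · obtain ⟨K, hK, hXK⟩ := compl_22 ι p hF L' h4 h5 hX hc ht
        exact ⟨c, compl_inSoc ι p D.flip hX hK hXK hc, ⟨X, hX, hc⟩, ht⟩
    obtain ⟨b, ⟨X, hX, hb⟩, ⟨X', hX', hb'⟩, ht⟩ := hboth
    -- the `12`
    have key : ∀ {V : Type v} [AddCommGroup V] [Module k V] [FiniteDimensional k V]
        {ρ : Representation k (SpecialLinearGroup (Fin 2) F) V} {V' : Type v} [AddCommGroup V'] [Module k V']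
        [FiniteDimensional k V'] {ρ' : Representation k (SpecialLinearGroup (Fin 2) F) V'}
        (_ : Lc.{u, v, w} ι p a ρ ρ')
        (_ : (W : Multiset (List ℕ)) = (cf (Sy.{u, v, w} ι p) ρ).map (tyl p))
        (_ : ∀ c, InSoc ι p ρ c → tyl p c = [2, 2] ∨ tyl p c = [12]) (_ : ∀ c, InSoc ι p ρ' c → tyl p c ≠ [4])
        {X : Submodule k V} (hX : ∀ g, ∀ x ∈ X, ρ g x ∈ X) (_ : IsV ι p (subRep ρ X hX) b),
        ∃ c, InSoc ι p ρ c ∧ tyl p c = [12] := by
      intro V _ _ _ ρ V' _ _ _ ρ' L hw hs h4' X hX hb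
      obtain ⟨K, hK, hXK⟩ := compl_22 ι p hF L h4' h5 hX hb ht
      have hK0 : K ≠ ⊥ := by
        rintro rfl
        have h6 := cf_sup (S := Sy.{u, v, w} ι p) hX hK hXK
        have h7 : cf (Sy.{u, v, w} ι p) (subRep ρ ⊥ hK) = 0 := cf_zero _ _
        rw [h7, add_zero, cf_irr (Sy.{u, v, w} ι p) hb] at h6
        have h8 : Multiset.card (W : Multiset (List ℕ)) = 3 := by rw [hW]; rfl
        rw [hw, h6, Multiset.map_singleton, Multiset.card_singleton] at h8
        omega
      obtain ⟨c, hc1, hc2⟩ := exists_inSoc_sub ι p hK hK0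
      exact ⟨c, hc2, (hs c hc2).resolve_left (compl_typ ι p hw c22 hX hK hXK hb ht hc1.mem_cf)⟩
    obtain ⟨c, hc, hct⟩ := key L hw hs h4' hX hb
    obtain ⟨c', hc', hct'⟩ := key L' hw' hs' h4 hX' hb'
    have hcc := uniq_typ ι p hw c12 hc.mem_cf (by rw [← hcf]; exact hc'.mem_cf) hct hct'
    rw [← hcc.1] at hc'
    have hall := ss_of_compl ι p _ V ρ le_rfl fun Y hY d hd => by
      have hds : InSoc ι p ρ d := ⟨Y, hY, hd⟩
      rcases hs d hds with h6 | h6
      · exact compl_22 ι p hF L h4' h5 hY hd h6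
      · have h7 := uniq_typ ι p hw c12 hc.mem_cf hds.mem_cf hct h6
        rw [h7.1] at hc' h7
        obtain ⟨K, hK, hYK, -⟩ := exists_compl_of_both ι p D hY hd hc' h7.2
        exact ⟨K, hK, hYK⟩
    have h6 : [4] ∈ (W : Multiset (List ℕ)) := by rw [hW]; decide
    rw [hw] at h6
    obtain ⟨d, hd, hdt⟩ := Multiset.mem_map.1 h6
    exact h4 d (hall d hd) hdt
  · push Not at h22
    refine kt ι p hw D [12] c12 (fun c hc => (hs c hc).resolve_left (h22.1 c hc))
      (fun c hc => (hs' c hc).resolve_left (h22.2 c hc)) ?_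
    rw [hW]
    decide

include hF in
/-- patterns with `[2,2]` the only type in the socles -/
theorem kill_22 (L : Lc.{u, v, w} ι p a ρ ρ')
    (hw : (W : Multiset (List ℕ)) = (cf (Sy.{u, v, w} ι p) ρ).map (tyl p))
    (hs : ∀ c, InSoc ι p ρ c → tyl p c = [2, 2]) (hs' : ∀ c, InSoc ι p ρ' c → tyl p c = [2, 2])
    (h5 : 4 < p) {t : List ℕ} (ht : t ∈ W) (ht' : t ≠ [2, 2]) : False := by
  have h4' : ∀ c, InSoc ι p ρ' c → tyl p c ≠ [4] := fun c hc h => by
    rw [hs' c hc] at h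
    simp at h
  have hall := ss_of_compl ι p _ V ρ le_rfl fun Y hY d hd =>
    compl_22 ι p hF L h4' h5 hY hd (hs d ⟨Y, hY, hd⟩)
  have h6 : t ∈ (W : Multiset (List ℕ)) := ht
  rw [hw] at h6
  obtain ⟨d, hd, hdt⟩ := Multiset.mem_map.1 h6
  apply ht'
  rw [← hdt]
  exact hs d (hall d hd)

set_option synthInstance.maxHeartbeats 400000 in
set_option synthInstance.maxSize 1024 in
/-- the conditions on the types of the factors of the socle, decidable -/
def styb (W : List (List ℕ)) (e7 : Bool) (s : List ℕ) : Bool :=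
  decide (s ≠ [2] ∧ s ≠ [1, 1] ∧ (s = [4] → [8] ∈ W ∨ (e7 = true ∧ [1, 1] ∈ W) ∨ [1, 3] ∈ W) ∧
  (s = [6] → [12] ∈ W ∨ [8] ∈ W ∨ [4] ∈ W ∨ [1, 5] ∈ W) ∧
  (s = [8] → ¬ ∀ t ∈ W, t = [8] ∨ t = [2, 2]))

set_option synthInstance.maxHeartbeats 400000 in
set_option synthInstance.maxSize 1024 in
theorem styb_of_sty (hq9 : 9 ≤ p ^ a) {s : List ℕ} (h : Sty p a W s) (e7 : Bool) (h7 : e7 = false → p ≠ 7) :
    s ∈ W ∧ styb W e7 s = true := by
  obtain ⟨h1, h2, h3, h4, h5, h8⟩ := h
  refine ⟨h1, ?_⟩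
  unfold styb
  rw [decide_eq_true_iff]
  refine ⟨h2, h3, fun hs => ?_, fun hs => ?_, h8⟩
  · rcases h4 hs with h | h | h
    · exact Or.inl h.2
    · right; left
      refine ⟨?_, h.2⟩
      by_contra hc
      exact h7 (Bool.eq_false_iff.2 hc) h.1
    · exact Or.inr (Or.inr h.2)
  · rcases h5 hs with h | h | h | h | h
    · exact Or.inl h
    · exact Or.inr (Or.inl h)
    · exact Or.inr (Or.inr (Or.inl h))
    · exact Or.inr (Or.inr (Or.inr h))
    · exfalso
      rw [h.1, h.2] at hq9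
      omega

section Main

variable (D : Dul ρ ρ' P) (L : Lc.{u, v, w} ι p a ρ ρ') (L' : Lc.{u, v, w} ι p a ρ' ρ)
  (hw : (W : Multiset (List ℕ)) = (cf (Sy.{u, v, w} ι p) ρ).map (tyl p))
  (hw' : (W : Multiset (List ℕ)) = (cf (Sy.{u, v, w} ι p) ρ').map (tyl p)) (hq9 : 9 ≤ p ^ a)

include hF L L' hw hw' hq9 in
theorem styb_soc (e7 : Bool) (h7 : e7 = false → p ≠ 7) {c : ℕ}
    (hc : InSoc ι p ρ c) : tyl p c ∈ W ∧ styb W e7 (tyl p c) = true :=
  styb_of_sty p hq9 (sty ι p hF hw L L' hw' hq9 hc) e7 h7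

include hF L L' hw hw' hq9 D in
theorem kt2 (e7 : Bool) (h7 : e7 = false → p ≠ 7) (t : List ℕ)
    (h1 : (W : Multiset (List ℕ)).count t = 1) (hs : ∀ s ∈ W, styb W e7 s = true → s = t) (hc : 2 ≤ W.length) : False :=
  kt ι p hw D t h1
    (fun _ hc => hs _ (styb_soc ι p hF L L' hw hw' hq9 e7 h7 hc).1 (styb_soc ι p hF L L' hw hw' hq9 e7 h7 hc).2)
    (fun _ hc => hs _ (styb_soc ι p hF L' L hw' hw hq9 e7 h7 hc).1 (styb_soc ι p hF L' L hw' hw hq9 e7 h7 hc).2) hc

include hF L L' hw hw' hq9 in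
theorem kt0 (e7 : Bool) (h7 : e7 = false → p ≠ 7)
    (hs : ∀ s ∈ W, styb W e7 s = false) (hc : 2 ≤ W.length) : False := by
  have hnt : Nontrivial V := by
    by_contra h
    have := not_nontrivial_iff_subsingleton.1 h
    rw [cf_zero, Multiset.map_zero] at hw
    have h2 : Multiset.card (W : Multiset (List ℕ)) = W.length := rfl
    rw [← h2, hw, Multiset.card_zero] at hc
    omega
  obtain ⟨c, hc⟩ := exists_inSoc ι p ρ
  have h8 := styb_soc ι p hF L L' hw hw' hq9 e7 h7 hc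
  rw [hs _ h8.1] at h8
  exact absurd h8.2 (by decide)

include hF hw in
theorem two_le_a {t : List ℕ} (ht : t ∈ W) (hl : 2 ≤ t.length) : 2 ≤ a := by
  have h1 : t ∈ (W : Multiset (List ℕ)) := ht
  rw [hw] at h1
  obtain ⟨c, hc, rfl⟩ := Multiset.mem_map.1 h1
  have := Cfsg.Agent.R2.SL2.length_tyl_le (cf_lt ι p hF ρ c hc)
  omega

include hw in
theorem lt_p {t : List ℕ} (ht : t ∈ W) {d : ℕ} (hd : d ∈ t) : d < p := by
  have h1 : t ∈ (W : Multiset (List ℕ)) := ht
  rw [hw] at h1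
  obtain ⟨c, hc, rfl⟩ := Multiset.mem_map.1 h1
  exact lt_of_tyl p hd

end Main

include hF in
/-- **the type kills, `p ≥ 5`, `q ≥ 9`**; remaining: `T`, `E`, and for `p = 11`, `q = 11` one pattern each -/
theorem type_kills (D : Dul ρ ρ' P) (L : Lc.{u, v, w} ι p a ρ ρ') (L' : Lc.{u, v, w} ι p a ρ' ρ)
    (hp5 : 5 ≤ p) (hq9 : 9 ≤ p ^ a) (hfx : ∀ x, (∀ g, ρ g x = x) → x = 0)
    (hco : ∀ f : V →ₗ[k] k, (∀ g x, f (ρ g x) = f x) → f = 0) (hWm : W ∈ listE6)
    (hw : (W : Multiset (List ℕ)) = (cf (Sy.{u, v, w} ι p) ρ).map (tyl p)) :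
    (2 ≤ a ∧ W = [[2, 2], [2, 2], [2, 2]]) ∨ (13 ≤ p ∧ W = [[4], [8], [12]]) ∨
      (p = 11 ∧ 2 ≤ a ∧ W = [[1, 1], [4], [8], [8]]) ∨ (a = 1 ∧ p = 11 ∧ W = [[], [2], [4], [8], [8]]) := by
  have hp : p.Prime := Fact.out
  rcases no_trivial ι p hF hp5 (by omega) hfx hco hWm hw with h0 | h0 | h0
  swap
  · obtain ⟨h1, h2, -⟩ := h0
    rw [h1, h2] at hq9
    omega
  swap
  · exact Or.inr (Or.inr (Or.inr h0))
  have hw' : (W : Multiset (List ℕ)) = (cf (Sy.{u, v, w} ι p) ρ').map (tyl p) := by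
    rw [cf_dual ι p D]
    exact hw
  have key : ∀ W ∈ listE6, [] ∉ W → W ∈ ([[[1, 1], [1, 1], [1, 1], [4], [4], [4]],
    [[1, 1], [1, 1], [2, 2], [4], [4]],
    [[1, 1], [1, 1], [4], [4], [8]],
    [[1, 1], [1, 3], [2], [2], [2], [2], [2]],
    [[1, 1], [2], [2], [2], [2], [2], [2], [4]],
    [[1, 1], [2], [2], [2], [2], [10]],
    [[1, 1], [2, 2], [2, 2], [4]],
    [[1, 1], [2, 2], [4], [8]],
    [[1, 1], [4], [4], [12]],
    [[1, 1], [4], [8], [8]],
    [[1, 1, 2], [2], [2], [2], [2], [2]],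
    [[1, 3], [2], [2], [2], [2], [6]],
    [[1, 5], [2], [2], [2], [2], [2]],
    [[2], [2], [2], [2], [2], [2], [2, 2]],
    [[2], [2], [2], [2], [2], [2], [8]],
    [[2], [2], [2], [2], [2], [4], [6]],
    [[2], [2], [2], [2], [2, 4]],
    [[2], [2], [2], [2], [14]],
    [[2], [2], [2], [6], [10]],
    [[2, 2], [2, 2], [2, 2]],
    [[2, 2], [2, 2], [8]],
    [[2, 2], [4], [12]],
    [[2, 2], [8], [8]],
    [[4], [8], [12]],
    [[8], [8], [8]]] : List (List (List ℕ))) := by decide +kernel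
  have hp8 : 8 < p → 11 ≤ p := by
    intro h
    by_contra hc
    have h9 : p = 9 ∨ p = 10 := by omega
    rcases h9 with rfl | rfl <;> revert hp <;> decide
  have hp12 : 12 < p → 13 ≤ p := id
  have h7t : true = false → p ≠ 7 := fun h => absurd h (by decide)
  have hext : ∀ (W : List (List ℕ)), (W : Multiset (List ℕ)) = (cf (Sy.{u, v, w} ι p) ρ).map (tyl p) → 11 ≤ p → 2 ≤ a →
      (∀ t ∈ W, ∀ e ∈ t, e ≤ 8) → (∀ t ∈ W, t = [8] ∨ ∀ e ∈ t, e < 8) → [1, 1] ∈ W →
      p = 11 ∧ (W : Multiset (List ℕ)).count [1, 1] < (W : Multiset (List ℕ)).count [8] := by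
    intro W hw h11 ha h8 h8' h1
    by_cases hp11 : p = 11
    · refine ⟨hp11, ?_⟩
      have h2 := ext_types ι p hF D (by omega) ha L L' hw (by rw [hp11]; exact h8') h1
      rw [hp11] at h2
      exact h2
    · exfalso
      have h13 : 13 ≤ p := by
        have h12 : p ≠ 12 := by
          rintro rfl
          revert hp
          decide
        omega
      have h2 := ext_types ι p hF D (by omega) ha L L' hw (fun t ht => Or.inr fun e he => by
        have := h8 t ht e he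
        omega) h1
      have h3 : (W : Multiset (List ℕ)).count [p - 3] = 0 := by
        rw [Multiset.count_eq_zero]
        intro h4
        have := h8 _ h4 (p - 3) (List.mem_singleton_self _)
        omega
      omega
  have h := key W hWm h0
  clear key
  simp only [List.mem_cons, List.not_mem_nil, or_false] at h
  rcases h with rfl | rfl | rfl | rfl | rfl | rfl | rfl | rfl | rfl | rfl | rfl | rfl | rfl | rfl | rfl | rfl | rfl | rfl |
    rfl | rfl | rfl | rfl | rfl | rfl | rfl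
  -- P1
  · exfalso
    have ha := two_le_a ι p hF hw (t := [1, 1]) (by decide) (by decide)
    by_cases h7 : p = 7
    · have h2 := ext_types ι p hF D (by omega) ha L L' hw (by rw [h7]; decide) (by decide)
      rw [h7] at h2
      revert h2
      decide
    · exact kt0 ι p hF L L' hw hw' hq9 false (fun _ => h7) (by decide) (by decide)
  -- P2
  · exfalso
    have ha := two_le_a ι p hF hw (t := [1, 1]) (by decide) (by decide)
    by_cases h7 : p = 7
    · have h2 := ext_types ι p hF D (by omega) ha L L' hw (by rw [h7]; decide) (by decide)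
      rw [h7] at h2
      revert h2
      decide
    · exact kt2 ι p hF D L L' hw hw' hq9 false (fun _ => h7) [2, 2] (by decide) (by decide) (by decide)
  -- P3
  · exfalso
    have ha := two_le_a ι p hF hw (t := [1, 1]) (by decide) (by decide)
    have h11 := hp8 (lt_p ι p hw (t := [8]) (by decide) (List.mem_singleton_self _))
    have h2 := (hext _ hw h11 ha (by decide) (by decide) (by decide)).2
    revert h2
    decide
  -- P4
  · exact (kt2 ι p hF D L L' hw hw' hq9 true h7t [1, 3] (by decide) (by decide) (by decide)).elim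
  -- P5
  · exfalso
    have ha := two_le_a ι p hF hw (t := [1, 1]) (by decide) (by decide)
    by_cases h7 : p = 7
    · have h2 := ext_types ι p hF D (by omega) ha L L' hw (by rw [h7]; decide) (by decide)
      rw [h7] at h2
      revert h2
      decide
    · exact kt0 ι p hF L L' hw hw' hq9 false (fun _ => h7) (by decide) (by decide)
  -- P6
  · exact (kt2 ι p hF D L L' hw hw' hq9 true h7t [10] (by decide) (by decide) (by decide)).elim
  -- P7
  · exfalso
    have ha := two_le_a ι p hF hw (t := [1, 1]) (by decide) (by decide)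
    by_cases h7 : p = 7
    · have h2 := ext_types ι p hF D (by omega) ha L L' hw (by rw [h7]; decide) (by decide)
      rw [h7] at h2
      revert h2
      decide
    · have hall : ∀ s ∈ ([[1, 1], [2, 2], [2, 2], [4]] : List (List ℕ)), styb [[1, 1], [2, 2], [2, 2], [4]] false s = true →
          s = [2, 2] := by decide
      exact kill_22 ι p hF L hw
        (fun c hc => hall _ (styb_soc ι p hF L L' hw hw' hq9 false (fun _ => h7) hc).1
          (styb_soc ι p hF L L' hw hw' hq9 false (fun _ => h7) hc).2)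
        (fun c hc => hall _ (styb_soc ι p hF L' L hw' hw hq9 false (fun _ => h7) hc).1
          (styb_soc ι p hF L' L hw' hw hq9 false (fun _ => h7) hc).2) (by omega) (t := [4]) (by decide) (by decide)
  -- P8
  · exfalso
    have ha := two_le_a ι p hF hw (t := [1, 1]) (by decide) (by decide)
    have h11 := hp8 (lt_p ι p hw (t := [8]) (by decide) (List.mem_singleton_self _))
    have h2 := (hext _ hw h11 ha (by decide) (by decide) (by decide)).2
    revert h2
    decide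
  -- P9
  · have h12 := lt_p ι p hw (t := [12]) (by decide) (List.mem_singleton_self _)
    exact (kt2 ι p hF D L L' hw hw' hq9 false (fun _ => by omega) [12] (by decide) (by decide) (by decide)).elim
  -- P10
  · have ha := two_le_a ι p hF hw (t := [1, 1]) (by decide) (by decide)
    have h11 := hp8 (lt_p ι p hw (t := [8]) (by decide) (List.mem_singleton_self _))
    have h2 := (hext _ hw h11 ha (by decide) (by decide) (by decide)).1
    exact Or.inr (Or.inr (Or.inl ⟨h2, ha, rfl⟩))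
  -- P11
  · exact (kt2 ι p hF D L L' hw hw' hq9 true h7t [1, 1, 2] (by decide) (by decide) (by decide)).elim
  -- P12
  · have ha := two_le_a ι p hF hw (t := [1, 3]) (by decide) (by decide)
    exact (kt2 ι p hF D L L' hw hw' hq9 true h7t [1, 3] (by decide) (by decide) (by decide)).elim
  -- P13
  · exact (kt2 ι p hF D L L' hw hw' hq9 true h7t [1, 5] (by decide) (by decide) (by decide)).elim
  -- P14
  · exact (kt2 ι p hF D L L' hw hw' hq9 true h7t [2, 2] (by decide) (by decide) (by decide)).elim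
  -- P15
  · exact (kt2 ι p hF D L L' hw hw' hq9 true h7t [8] (by decide) (by decide) (by decide)).elim
  -- P16
  · exact (kt2 ι p hF D L L' hw hw' hq9 true h7t [6] (by decide) (by decide) (by decide)).elim
  -- P17
  · exact (kt2 ι p hF D L L' hw hw' hq9 true h7t [2, 4] (by decide) (by decide) (by decide)).elim
  -- P18
  · exact (kt2 ι p hF D L L' hw hw' hq9 true h7t [14] (by decide) (by decide) (by decide)).elim
  -- P19
  · have h10 := lt_p ι p hw (t := [10]) (by decide) (List.mem_singleton_self _)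
    exact (kt2 ι p hF D L L' hw hw' hq9 true h7t [10] (by decide) (by decide) (by decide)).elim
  -- P20
  · exact Or.inl ⟨two_le_a ι p hF hw (t := [2, 2]) (by decide) (by decide), rfl⟩
  -- P21
  · exfalso
    have hall : ∀ s ∈ ([[2, 2], [2, 2], [8]] : List (List ℕ)), styb [[2, 2], [2, 2], [8]] true s = true →
        s = [2, 2] := by decide
    exact kill_22 ι p hF L hw
      (fun c hc => hall _ (styb_soc ι p hF L L' hw hw' hq9 true h7t hc).1
        (styb_soc ι p hF L L' hw hw' hq9 true h7t hc).2)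
      (fun c hc => hall _ (styb_soc ι p hF L' L hw' hw hq9 true h7t hc).1
        (styb_soc ι p hF L' L hw' hw hq9 true h7t hc).2) (by omega) (t := [8]) (by decide) (by decide)
  -- P22
  · exfalso
    have hall : ∀ s ∈ ([[2, 2], [4], [12]] : List (List ℕ)), styb [[2, 2], [4], [12]] true s = true →
        s = [2, 2] ∨ s = [12] := by decide
    exact kill_p22 ι p hF D L L' hw hw' rfl
      (fun c hc => hall _ (styb_soc ι p hF L L' hw hw' hq9 true h7t hc).1
        (styb_soc ι p hF L L' hw hw' hq9 true h7t hc).2)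
      (fun c hc => hall _ (styb_soc ι p hF L' L hw' hw hq9 true h7t hc).1
        (styb_soc ι p hF L' L hw' hw hq9 true h7t hc).2) (by omega)
  -- P23
  · exact (kt2 ι p hF D L L' hw hw' hq9 true h7t [2, 2] (by decide) (by decide) (by decide)).elim
  -- P24
  · have h12 := lt_p ι p hw (t := [12]) (by decide) (List.mem_singleton_self _)
    exact Or.inr (Or.inl ⟨h12, rfl⟩)
  -- P25
  · exact (kt0 ι p hF L L' hw hw' hq9 true h7t (by decide) (by decide)).elim

end Cfsg.Agent.R2.H28.SL2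
end

-- part: R2/H28/SL2/SplitE
section
prune_inst 0x203004004002000000009271001c86ca000400000b8000a8800f0a0f80ae2089022e21bc9004120082908448300008100000100010000000000400411b0180008102061100a00416008e801004400000000000000000000000000000000000000000000
set_option linter.all false
open scoped Cfsg.Agent.FastGrp

-- part: R2/H28/SL2/ExtS
section
/-!
# Extensions between the modules `V_{n p^i}` (helper28)

* `ext0_digits` : `a ≥ 2`, small digits;
* `ext0_same`, `ext0_diff` : labels `n p^i`, `m p^j`;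
* `ext0_one` : a criterion for `a = 1`.
-/

set_option autoImplicit false
set_option linter.unusedSectionVars false

namespace Cfsg.Agent.R2.H28.SL2

open Matrix Cfsg.Agent.H943.SL2Rel Cfsg.Agent.H943.SL2Mod Cfsg.Agent.H943.RepAdd
open Cfsg.Agent.H179.SLC (Z1 cob fx ker_cob cob_apply mem_Z1)
open Cfsg.Agent.R2.SL2 (typ tyl coe_tyl typ_step typ_zero listE6 tyl_eq_nil mem_typ tyl_one tyl_two)

universe u v w

variable {k : Type u} [Field k] [DecidableEq k] {F : Type w} [Field F] [Fintype F] [DecidableEq F] (ι : F →+* k)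
variable (p : ℕ) [Fact p.Prime] [CharP k p] [CharP F p] [IsAlgClosed k] {a : ℕ} (hF : Fintype.card F = p ^ a)

include hF in
/-- small digits -/
theorem ext0_digits (hp2 : p ≠ 2) (ha : 2 ≤ a) {b c : ℕ} (hb : b < p ^ a) (hc : c < p ^ a)
    (h : ∀ i < a, c / p ^ i % p + b / p ^ i % p < p - 2) : Ext0 (Sy.{u, v, w} ι p) c b := by
  have hp : p.Prime := Fact.out
  have hov : ∀ i < a, c / p ^ i % p + b / p ^ i % p < p := fun i hi => by
    have := h i hi
    omega
  exact ext0_of_Hs ι p hF (cg p a c b) (fun d hd => (mem_cg hp.pos a hov hd).1)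
    (fun z hz => cs_cg k p a hc hb hov (hz.ne_zero (two_le_q p hF))) (Hs_cg_eq_zero hp hp2 ha h)

theorem hb_zero_of_typ (hp5 : 5 ≤ p) {b : ℕ} (hb' : b < p ^ a) (h : tyl p b ≠ hty p a) : hb p a b = 0 := by
  have h1 := hb_le_typ (p := p) hp5 hb' (ne_nine p hp5 a)
  rw [if_neg h] at h1
  omega

theorem hty_two (ha : 2 ≤ a) : hty p a = [1, p - 2] := by
  unfold hty
  rw [if_neg (by omega)]

theorem hb_single (hp5 : 5 ≤ p) {n i : ℕ} (hn : n < p) (hi : i < a) (h : 2 ≤ a ∨ n ≠ p - 3) :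
    hb p a (n * p ^ i) = 0 := by
  have hp : p.Prime := Fact.out
  refine hb_zero_of_typ p hp5 (single_lt p hn hi) ?_
  rcases Nat.eq_zero_or_pos n with rfl | hn0
  · rw [zero_mul, tyl_eq_nil.2 rfl]
    unfold hty
    split_ifs <;> simp
  · rw [tyl_single hn0 hn]
    unfold hty
    split_ifs with h1
    · intro h2
      have h3 : n = p - 3 := by simpa using h2
      omega
    · simp

theorem hb_pair (hp5 : 5 ≤ p) (ha : 2 ≤ a) {n m i j : ℕ} (hn : n < p) (hm : m < p) (hij : i ≠ j) (hi : i < a) (hj : j < a)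
    (h : ¬ (n = 1 ∧ m = p - 2)) (h' : ¬ (m = 1 ∧ n = p - 2)) : hb p a (n * p ^ i + m * p ^ j) = 0 := by
  have hp : p.Prime := Fact.out
  refine hb_zero_of_typ p hp5 (pair_lt p hn hm hij hi hj) ?_
  rcases Nat.eq_zero_or_pos n with rfl | hn0
  · rw [zero_mul, zero_add]
    rcases Nat.eq_zero_or_pos m with rfl | hm0
    · rw [zero_mul, tyl_eq_nil.2 rfl, hty_two p ha]
      simp
    · rw [tyl_single hm0 hm, hty_two p ha]
      simp
  rcases Nat.eq_zero_or_pos m with rfl | hm0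
  · rw [zero_mul, add_zero, tyl_single hn0 hn, hty_two p ha]
    simp
  rw [hty_two p ha]
  rcases le_total n m with h1 | h1
  · rw [tyl_pair hn0 hn h1 hm hij]
    intro h2
    simp only [List.cons.injEq, and_true] at h2
    exact h h2
  · rw [tyl_pair' hm0 hm h1 hn hij]
    intro h2
    simp only [List.cons.injEq, and_true] at h2
    exact h' h2

include hF in
/-- labels at different places -/
theorem ext0_diff (hp5 : 5 ≤ p) {n m i j : ℕ} (hn : n < p) (hm : m < p) (hij : i ≠ j) (hi : i < a) (hj : j < a)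
    (h : ¬ (n = 1 ∧ m = p - 2)) (h' : ¬ (m = 1 ∧ n = p - 2)) : Ext0 (Sy.{u, v, w} ι p) (n * p ^ i) (m * p ^ j) := by
  refine ext0_of_Hs ι p hF {n * p ^ i + m * p ^ j} (fun d hd => ?_) (fun z hz => ?_) ?_
  · rw [Multiset.mem_singleton] at hd
    rw [hd]
    exact pair_lt p hn hm hij hi hj
  · rw [cs_singleton, chB_pair k p hn hm hij, chB_single k p hn, chB_single k p hm]
  · refine Hs_eq_zero fun d hd => ?_
    rw [Multiset.mem_singleton] at hd
    rw [hd]
    exact hb_pair p hp5 (by omega) hn hm hij hi hj h h'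

/-- the factors of `V_{n p^i} ⊗ V_{m p^i}` -/
def cls (p a i n m : ℕ) : Multiset ℕ := (Multiset.range (min n m + 1)).bind fun j => one p a i (n + m - 2 * j)

include hF in
theorem cs_cls {n m i : ℕ} (hn : n < p) (hm : m < p) (hi : i < a) {z : ℂ} (hz : Zs (p ^ a) z) :
    cs k (cls p a i n m) z = chi n (z ^ p ^ i) * chi m (z ^ p ^ i) := by
  have hz0 := pow_ne_zero (p ^ i) (hz.ne_zero (two_le_q p hF))
  unfold cls
  rw [cs_bind, chi_mul' n m hz0, Finset.sum_eq_multiset_sum]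
  rw [Finset.range_val]
  congr 1
  refine Multiset.map_congr rfl fun j hj => ?_
  rw [Multiset.mem_range] at hj
  exact cs_one p hF hi (by omega) hz

include hF in
/-- labels at the same place -/
theorem ext0_same (hp5 : 5 ≤ p) {n m i : ℕ} (hn : n < p) (hm : m < p) (hi : i < a)
    (h : (2 ≤ a ∧ n + m < 2 * p - 2) ∨ n + m < p - 3) : Ext0 (Sy.{u, v, w} ι p) (n * p ^ i) (m * p ^ i) := by
  have hp : p.Prime := Fact.out
  refine ext0_of_Hs ι p hF (cls p a i n m) (fun d hd => ?_) (fun z hz => ?_) ?_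
  · obtain ⟨j, hj, hd⟩ := Multiset.mem_bind.1 hd
    exact one_lt' p hi (by omega) d hd
  · rw [cs_cls p hF hn hm hi hz, chB_single k p hn, chB_single k p hm]
  · refine Hs_eq_zero fun d hd => ?_
    obtain ⟨j, hj, hd⟩ := Multiset.mem_bind.1 hd
    unfold one at hd
    split_ifs at hd with h1
    · rw [Multiset.mem_singleton] at hd
      rw [hd]
      exact hb_single p hp5 h1 hi (by omega)
    · rcases h with h | h
      · unfold ov at hd
        rw [if_neg (by omega), Multiset.insert_eq_cons, Multiset.mem_cons, Multiset.mem_singleton] at hd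
        rcases hd with hd | hd
        · have h2 := hb_pair (a := a) p hp5 h.1 (n := n + m - 2 * j - p) (m := 1) (by omega) hp.one_lt
            (succ_mod_ne h.1 hi) hi (Nat.mod_lt _ (by omega)) (by omega) (by omega)
          rw [one_mul] at h2
          rw [hd]
          exact h2
        · rw [hd]
          exact hb_single p hp5 (by omega) hi (Or.inl h.1)
      · omega

/-- **the criterion for `a = 1`** -/
theorem ext0_one {a : ℕ} (hF : Fintype.card F = p ^ a) (ha : a = 1) {c b : ℕ}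
    (h1 : b + 1 < p → (c + 2 * (b + 1)) % (p - 1) ≠ b % (p - 1)) (h2 : (b + c) % (p - 1) ≠ 0)
    (h3 : ∀ j, c < j → j ≤ p - 1 → (2 * j) % (p - 1) ≠ (b + c) % (p - 1)) : Ext0 (Sy.{u, v, w} ι p) c b := by
  intro V _ _ _ ρ W hW hb hc
  have hp : p.Prime := Fact.out
  have hq := one_lt (F := F)
  subst ha
  rw [pow_one] at hF
  obtain ⟨Q, hQ⟩ : ∃ Q, Q = Fintype.card F - 1 := ⟨_, rfl⟩
  have hpa : p - 1 = Q := by omega
  have hmem : ∀ z : V, W.mkQ z = 0 → z ∈ W := fun z hz => (Submodule.Quotient.mk_eq_zero W).1 hz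
  obtain ⟨m, hm0, hmu, hmh, hmS, hmD, hmf, -⟩ := IsV.hw2 ι p hc
  obtain ⟨x₀, hx₀⟩ := W.mkQ_surjective m
  have hblt : b < p := by
    have := cf_lt ι p (a := 1) (by rw [pow_one]; exact hF) (subRep ρ W hW) b (by
      rw [cf_irr (Sy.{u, v, w} ι p) hb]
      exact Multiset.mem_singleton_self _)
    rwa [pow_one] at this
  have hclt : c < p := by
    have := cf_lt ι p (a := 1) (by rw [pow_one]; exact hF) (quotRep ρ W hW) c (by
      rw [cf_irr (Sy.{u, v, w} ι p) hc]
      exact Multiset.mem_singleton_self _)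
    rwa [pow_one] at this
  obtain ⟨x, hx, hxu, hxh⟩ := lift_one ι p ρ W hW (a := 1) (by rw [pow_one]; exact hF) hb (c := c) (fun i hi hlt => by
      have hi0 : i = 0 := by omega
      subst hi0
      unfold en
      rw [pow_zero, Nat.div_one, Nat.mod_eq_of_lt hblt] at hlt ⊢
      rw [mul_one, pow_one]
      exact h1 hlt) (x := x₀)
    (fun t => hmem _ (by rw [map_sub, ← quotRep_mk ρ W hW, hx₀, hmu, sub_self]))
    (fun a => hmem _ (by rw [map_sub, ← quotRep_mk ρ W hW, hx₀, hmh, map_smul, hx₀, sub_self]))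
  have hxm : W.mkQ x = m := by
    have h1 : W.mkQ (x - x₀) = 0 := (Submodule.Quotient.mk_eq_zero W).2 hx
    rw [map_sub, sub_eq_zero] at h1
    rw [h1, hx₀]
  have hwx : ∀ a, ρ (h a) (ρ w x) = ι (a : F) ^ ((Fintype.card F - 1 - 1) * c) • ρ w x := by
    intro a
    rw [apply_mul, h_w, ← apply_mul, hxh, map_smul, inv_pow_eq]
  have hcc : ((Fintype.card F - 1 - 1) * c + c) % Q = 0 := by
    have h1 : (Fintype.card F - 1 - 1) * c + c = Q * c := by
      rw [← Nat.succ_mul]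
      congr 1
      omega
    rw [h1, Nat.mul_mod_right]
  have hcfW : ∀ b' ∈ cf (Sy.{u, v, w} ι p) (subRep ρ W hW), b' = b := by
    intro b' hb'
    have h3 : cf (Sy.{u, v, w} ι p) (subRep ρ W hW) = {b} := cf_irr _ hb
    rw [h3, Multiset.mem_singleton] at hb'
    exact hb'
  -- the second condition
  have hS : SS ρ x = cb k F c • x := by
    rw [← sub_eq_zero]
    by_contra hne
    have h1 : SS ρ x - cb k F c • x ∈ W := by
      apply hmem
      rw [map_sub, map_smul, hxm, sub_eq_zero, SS_apply, map_sum]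
      rw [SS_apply] at hmS
      have h3 : ∀ t : F, W.mkQ (ρ (u t) (ρ w x)) = quotRep ρ W hW (u t) (quotRep ρ W hW w m) := by
        intro t
        rw [← quotRep_mk ρ W hW, ← quotRep_mk ρ W hW, hxm]
      rw [Finset.sum_congr rfl fun t _ => h3 t]
      exact hmS
    obtain ⟨b', hb', hbe⟩ := mem_cf_of_hw (V := W) ι p (ρ := subRep ρ W hW) (e := (Fintype.card F - 1 - 1) * c)
      (x := ⟨_, h1⟩) (fun h0 => hne (congrArg Subtype.val h0)) (fun t => Subtype.ext (by
        show ρ (u t) (SS ρ x - cb k F c • x) = SS ρ x - cb k F c • x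
        rw [map_sub, map_smul, SS_u, hxu])) (fun a => Subtype.ext (by
        show ρ (h a) (SS ρ x - cb k F c • x) = ι a ^ ((Fintype.card F - 1 - 1) * c) • (SS ρ x - cb k F c • x)
        rw [map_sub, map_smul, SS_h, hxh, map_smul, inv_pow_eq, hxh, smul_sub]
        congr 1
        unfold cb
        by_cases hcq : c < Fintype.card F - 1
        · rw [if_pos hcq, zero_smul, zero_smul, smul_zero]
        · rw [if_neg hcq, smul_comm]
          have hcQ : c = Fintype.card F - 1 := by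
            have := hc.choose
            omega
          have e1 : ι (a : F) ^ c = 1 := by
            rw [hcQ]
            exact powQ ι a.ne_zero
          have e2 : ι (a : F) ^ ((Fintype.card F - 1 - 1) * c) = 1 := by
            rw [mul_comm, pow_mul, e1, one_pow]
          rw [e1, e2]))
    rw [hcfW b' hb'] at hbe
    apply h2
    rw [hpa, Nat.add_mod, hQ, hbe, ← Nat.add_mod]
    rw [hQ] at hcc
    exact hcc
  -- the third condition
  have hD : ∀ n j, c < j → j ≤ Q → Q ≤ j + n → Dm ι ρ j (ρ w x) = 0 := by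
    intro n
    induction n using Nat.strong_induction_on with
    | _ n ih =>
      intro j hj hjQ hjn
      by_contra hne
      have h1 : Dm ι ρ j (ρ w x) ∈ W := by
        apply hmem
        rw [Dm_comm ι ρ (quotRep ρ W hW) W.mkQ (fun g y => (quotRep_mk ρ W hW g y).symm), ← quotRep_mk ρ W hW, hxm]
        exact hmD j (by omega) (by omega) (by rw [Nat.choose_eq_zero_of_lt hj]; exact dvd_zero p)
      have hz : ∀ i ∈ Finset.Icc 1 Q, Dm ι ρ i (Dm ι ρ j (ρ w x)) = 0 := by
        intro i hi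
        rw [Finset.mem_Icc] at hi
        by_cases hij : i + j ≤ Q
        · rw [Dm_mul' ι ρ p (by rw [pow_one]; exact hF : Fintype.card F = p ^ 1) hi.1 (by omega) (by omega),
            ih (Q - (i + j)) (by omega) (i + j) (by omega) hij (by omega), smul_zero]
        · exact Dm_mul_zero ι ρ hi.1 (by omega) (by omega) (by omega) (by omega) _
      have hfix : ∀ t, ρ (u t) (Dm ι ρ j (ρ w x)) = Dm ι ρ j (ρ w x) := by
        intro t
        rw [u_eq ι ρ p t, ← hQ, Finset.sum_eq_zero fun i hi => by rw [hz i hi, smul_zero], add_zero]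
      obtain ⟨b', hb', hbe⟩ := mem_cf_of_hw (V := W) ι p (ρ := subRep ρ W hW) (e := 2 * j + (Fintype.card F - 1 - 1) * c)
        (x := ⟨_, h1⟩) (fun h0 => hne (congrArg Subtype.val h0)) (fun t => Subtype.ext (hfix t)) (fun a => Subtype.ext (by
          show ρ (h a) (Dm ι ρ j (ρ w x)) = ι a ^ (2 * j + (Fintype.card F - 1 - 1) * c) • Dm ι ρ j (ρ w x)
          rw [h_Dm ι ρ (by omega), hwx, map_smul, smul_smul, pow_add]))
      rw [hcfW b' hb', ← hQ] at hbe
      apply h3 j hj (by omega)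
      rw [hpa, Nat.add_mod b c, hbe, ← Nat.add_mod]
      rw [show 2 * j + (Q - 1) * c + c = 2 * j + ((Fintype.card F - 1 - 1) * c + c) by rw [hQ]; ring, Nat.add_mod (2 * j), hcc,
        Nat.add_zero, Nat.mod_mod]
  obtain ⟨f, hf, hfm⟩ := gen_hw ι p ρ (a := 1) (by rw [pow_one]; exact hF) hc hm0 hmu hxu hxh hS (fun i hi hlt => by
    have hi0 : i = 0 := by omega
    subst hi0
    unfold en
    rw [pow_zero, Nat.div_one, Nat.mod_eq_of_lt hclt] at hlt ⊢
    rw [mul_one]
    exact hD Q (c + 1) (by omega) (by omega) (by omega))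
  have hirr := hc.irr
  -- the section
  have hsec : ∀ z : V ⧸ W, W.mkQ (f z) = z := by
    have h1 := hirr.2 (LinearMap.eqLocus (W.mkQ ∘ₗ f) LinearMap.id) (by
      intro g z hz
      rw [LinearMap.mem_eqLocus] at hz ⊢
      have hz' : W.mkQ (f z) = z := hz
      show W.mkQ (f (quotRep ρ W hW g z)) = quotRep ρ W hW g z
      rw [hf]
      conv_rhs => rw [← hz', quotRep_mk])
    rcases h1 with h1 | h1
    · exfalso
      have h2 : m ∈ LinearMap.eqLocus (W.mkQ ∘ₗ f) LinearMap.id := by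
        rw [LinearMap.mem_eqLocus]
        show W.mkQ (f m) = m
        rw [hfm, hxm]
      rw [h1, Submodule.mem_bot] at h2
      exact hm0 h2
    · intro z
      have h2 : z ∈ LinearMap.eqLocus (W.mkQ ∘ₗ f) LinearMap.id := by rw [h1]; trivial
      exact h2
  refine ⟨LinearMap.range f, ?_, ?_⟩
  · rintro g _ ⟨y, rfl⟩
    exact ⟨_, hf g y⟩
  · rw [isCompl_iff, disjoint_iff, codisjoint_iff]
    constructor
    · rw [eq_bot_iff]
      rintro _ ⟨hx, y, rfl⟩
      have h1 := (Submodule.Quotient.mk_eq_zero W).2 hx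
      have h2 : W.mkQ (f y) = 0 := h1
      rw [hsec] at h2
      rw [h2, map_zero]
      exact Submodule.zero_mem _
    · rw [eq_top_iff]
      intro y _
      have h1 : y - f (W.mkQ y) ∈ W := by
        rw [← Submodule.Quotient.mk_eq_zero, ← Submodule.mkQ_apply, map_sub, hsec, sub_self]
      have h2 : y = (y - f (W.mkQ y)) + f (W.mkQ y) := by abel
      rw [h2]
      exact Submodule.add_mem_sup h1 ⟨_, rfl⟩

end Cfsg.Agent.R2.H28.SL2
end

-- part: R2/H28/SL2/SplitE
section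
/-!
# Splitting (helper28)

* `split_one` : a factor of multiplicity one without extensions splits off;
* `split3` : three different factors without extensions;
* `ext0_E` : `p ≥ 13`, labels `12 p^i, 8 p^j, 4 p^l`, `a ≥ 2` or `p ≥ 29`; `splitE`, `splitE'` (bases);
* `ext0_13`, `ext0_17`, `ext0_19`, `ext0_23` : `a = 1`.
-/

set_option autoImplicit false
set_option linter.unusedSectionVars false

namespace Cfsg.Agent.R2.H28.SL2

open Matrix Cfsg.Agent.H943.SL2Rel Cfsg.Agent.H943.SL2Mod Cfsg.Agent.H943.RepAdd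
open Cfsg.Agent.R2.SL2 (typ tyl coe_tyl typ_step typ_zero listE6 tyl_eq_nil mem_typ tyl_one tyl_two)

universe u v w

variable {k : Type u} [Field k] [DecidableEq k] {F : Type w} [Field F] [Fintype F] [DecidableEq F] (ι : F →+* k)
variable (p : ℕ) [Fact p.Prime] [CharP k p] [CharP F p] [IsAlgClosed k] {a : ℕ} (hF : Fintype.card F = p ^ a)

theorem map_cons_inv {α β : Type*} (f : α → β) {t : β} {T : Multiset β} {s : Multiset α} (h : t ::ₘ T = s.map f) :
    ∃ b s', s = b ::ₘ s' ∧ f b = t ∧ T = s'.map f := by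
  have h1 : t ∈ s.map f := by
    rw [← h]
    exact Multiset.mem_cons_self _ _
  obtain ⟨b, hb, hbt⟩ := Multiset.mem_map.1 h1
  obtain ⟨s', hs'⟩ := Multiset.exists_cons_of_mem hb
  refine ⟨b, s', hs', hbt, ?_⟩
  rw [hs', Multiset.map_cons, hbt, Multiset.cons_inj_right] at h
  exact h

/-- modules with one factor -/
theorem isV_of_cf {V : Type v} [AddCommGroup V] [Module k V] [FiniteDimensional k V]
    {ρ : Representation k (SpecialLinearGroup (Fin 2) F) V} {b : ℕ} (h : cf (Sy.{u, v, w} ι p) ρ = {b}) : IsV ι p ρ b := by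
  have hnt : Nontrivial V := by
    by_contra hc
    have := not_nontrivial_iff_subsingleton.1 hc
    rw [cf_zero] at h
    exact absurd h (Multiset.singleton_ne_zero b).symm
  obtain ⟨c, X, hX, hc⟩ := exists_inSoc ι p ρ
  have h1 : c ∈ cf (Sy.{u, v, w} ι p) ρ := InSoc.mem_cf ι p ⟨X, hX, hc⟩
  rw [h, Multiset.mem_singleton] at h1
  subst h1
  have h2 := finrank_cf ι p _ V ρ le_rfl
  have hc' : IsV ι p (subRep ρ X hX) c := hc
  have h3 := hc'.finrank ι
  rw [h, Multiset.map_singleton, Multiset.sum_singleton] at h2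
  have h4 : X = ⊤ := Submodule.eq_top_of_finrank_eq (by omega)
  subst h4
  exact IsV.iso ι p Submodule.topEquiv (fun g x => rfl) hc'

/-- **splitting off** -/
theorem split_one {V : Type v} [AddCommGroup V] [Module k V] [FiniteDimensional k V]
    (ρ : Representation k (SpecialLinearGroup (Fin 2) F) V) {b : ℕ} (hb : (cf (Sy.{u, v, w} ι p) ρ).count b = 1)
    (hE : ∀ c ∈ cf (Sy.{u, v, w} ι p) ρ, c ≠ b → Ext0 (Sy.{u, v, w} ι p) c b ∧ Ext0 (Sy.{u, v, w} ι p) b c) :
    ∃ (X : Submodule k V) (Y : Submodule k V) (hX : ∀ g, ∀ x ∈ X, ρ g x ∈ X) (hY : ∀ g, ∀ x ∈ Y, ρ g x ∈ Y),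
      IsCompl X Y ∧ IsV ι p (subRep ρ X hX) b ∧ cf (Sy.{u, v, w} ι p) (subRep ρ Y hY) = (cf (Sy.{u, v, w} ι p) ρ).erase b := by
  obtain ⟨X, Y, hX, hY, hc, h1, h2⟩ := block (S := Sy.{u, v, w} ι p) (fun c => c = b) (ρ := ρ)
    (fun b' hb' c hc h1 h2 => by
      rw [h1]
      exact hE c hc h2)
  have h3 := cf_sup (S := Sy.{u, v, w} ι p) hX hY hc
  have h4 : b ∉ cf (Sy.{u, v, w} ι p) (subRep ρ Y hY) := fun h => h2 b h rfl
  have h5 : cf (Sy.{u, v, w} ι p) (subRep ρ X hX) = {b} := by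
    have h6 := Multiset.eq_replicate.2 ⟨rfl, h1⟩
    rw [h3, Multiset.count_add, Multiset.count_eq_zero_of_notMem h4, add_zero, h6, Multiset.count_replicate_self] at hb
    rw [h6, hb, Multiset.replicate_one]
  refine ⟨X, Y, hX, hY, hc, isV_of_cf ι p h5, ?_⟩
  rw [h3, h5, Multiset.singleton_add, Multiset.erase_cons_head]

/-- **three factors** -/
theorem split3 {V : Type v} [AddCommGroup V] [Module k V] [FiniteDimensional k V]
    (ρ : Representation k (SpecialLinearGroup (Fin 2) F) V) {b : Fin 3 → ℕ} (hb : Function.Injective b)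
    (hcf : cf (Sy.{u, v, w} ι p) ρ = {b 0, b 1, b 2})
    (hE : ∀ i j, i ≠ j → Ext0 (Sy.{u, v, w} ι p) (b i) (b j)) :
    ∃ (X : Fin 3 → Submodule k V) (hX : ∀ i, ∀ g, ∀ x ∈ X i, ρ g x ∈ X i), (∀ i, IsV ι p (subRep ρ (X i) (hX i)) (b i)) ∧
      IsCompl (X 0) (X 1 ⊔ X 2) ∧ Disjoint (X 1) (X 2) := by
  have h01 : b 0 ≠ b 1 := fun h => by simpa using hb h
  have h02 : b 0 ≠ b 2 := fun h => by simpa using hb h
  have h12 : b 1 ≠ b 2 := fun h => by simpa using hb h
  have hmem : ∀ c ∈ cf (Sy.{u, v, w} ι p) ρ, ∃ i, c = b i := by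
    intro c hc
    rw [hcf] at hc
    simp only [Multiset.insert_eq_cons, Multiset.mem_cons, Multiset.mem_singleton] at hc
    rcases hc with h | h | h
    · exact ⟨0, h⟩
    · exact ⟨1, h⟩
    · exact ⟨2, h⟩
  have hcf' : cf (Sy.{u, v, w} ι p) ρ = b 0 ::ₘ b 1 ::ₘ {b 2} := by rw [hcf]; rfl
  obtain ⟨X0, Y, hX0, hY, hc, hV0, hYcf⟩ := split_one ι p ρ (b := b 0) (by
      rw [hcf', Multiset.count_cons_self, Multiset.count_eq_zero_of_notMem]
      simp only [Multiset.mem_cons, Multiset.mem_singleton]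
      tauto)
    (fun c hc hne => by
      obtain ⟨i, rfl⟩ := hmem c hc
      have hi : i ≠ 0 := fun h => hne (by rw [h])
      exact ⟨hE i 0 hi, hE 0 i (Ne.symm hi)⟩)
  rw [hcf', Multiset.erase_cons_head] at hYcf
  obtain ⟨X1, X2, hX1, hX2, hc', hV1, hX2cf⟩ := split_one ι p (subRep ρ Y hY) (b := b 1) (by
      rw [hYcf, Multiset.count_cons_self, Multiset.count_eq_zero_of_notMem]
      simp only [Multiset.mem_singleton]
      tauto)
    (fun c hc hne => by
      rw [hYcf, Multiset.mem_cons, Multiset.mem_singleton] at hc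
      rcases hc with h | h
      · exact absurd h hne
      · rw [h]
        exact ⟨hE 2 1 (by decide), hE 1 2 (by decide)⟩)
  rw [hYcf, Multiset.erase_cons_head] at hX2cf
  have hV2 := isV_of_cf ι p hX2cf
  have key : ∀ (Z : Submodule k Y) (hZ : ∀ g, ∀ x ∈ Z, subRep ρ Y hY g x ∈ Z) (c : ℕ), IsV ι p (subRep (subRep ρ Y hY) Z hZ) c →
      ∃ hZ' : ∀ g, ∀ x ∈ Z.map Y.subtype, ρ g x ∈ Z.map Y.subtype, IsV ι p (subRep ρ (Z.map Y.subtype) hZ') c := by
    intro Z hZ c hc
    obtain ⟨h1, e, he⟩ := eqv_map (subRep ρ Y hY) ρ Y.subtype (fun g x => rfl) Y.injective_subtype Z hZ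
    exact ⟨h1, IsV.iso ι p e he hc⟩
  obtain ⟨hZ1, hW1⟩ := key X1 hX1 _ hV1
  obtain ⟨hZ2, hW2⟩ := key X2 hX2 _ hV2
  have hsup : X1.map Y.subtype ⊔ X2.map Y.subtype = Y := by
    rw [← Submodule.map_sup, hc'.sup_eq_top, Submodule.map_top, Submodule.range_subtype]
  have hdis : Disjoint (X1.map Y.subtype) (X2.map Y.subtype) :=
    (Submodule.disjoint_map Y.injective_subtype hc'.disjoint)
  refine ⟨![X0, X1.map Y.subtype, X2.map Y.subtype], ?_, ?_, ?_, ?_⟩
  · intro i
    fin_cases i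
    · exact hX0
    · exact hZ1
    · exact hZ2
  · intro i
    fin_cases i
    · exact hV0
    · exact hW1
    · exact hW2
  · show IsCompl X0 (X1.map Y.subtype ⊔ X2.map Y.subtype)
    rw [hsup]
    exact hc
  · exact hdis

/-! ## The labels `12 p^i, 8 p^j, 4 p^l` -/

section E

include hF in
theorem ext0_E (hp13 : 13 ≤ p) (h : 2 ≤ a ∨ 29 ≤ p) {n m i j : ℕ} (hi : i < a) (hj : j < a) (hn : n ≠ 1) (hm : m ≠ 1)
    (hn12 : n ≤ 12) (hm12 : m ≤ 12) (hnm : n + m ≤ 20) : Ext0 (Sy.{u, v, w} ι p) (n * p ^ i) (m * p ^ j) := by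
  by_cases hij : i = j
  · subst hij
    exact ext0_same ι p hF (by omega) (by omega) (by omega) hi (by omega)
  · exact ext0_diff ι p hF (by omega) (by omega) (by omega) hij hi hj (by tauto) (by tauto)

/-- the digits -/
def nnE : Fin 3 → ℕ := ![12, 8, 4]

include hF in
/-- **the splitting** -/
theorem splitE (hp13 : 13 ≤ p) (h : 2 ≤ a ∨ 29 ≤ p) {V : Type v} [AddCommGroup V] [Module k V] [FiniteDimensional k V]
    (ρ : Representation k (SpecialLinearGroup (Fin 2) F) V) {tw : Fin 3 → ℕ} (htw : ∀ i, tw i < a)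
    (hcf : cf (Sy.{u, v, w} ι p) ρ = {12 * p ^ tw 0, 8 * p ^ tw 1, 4 * p ^ tw 2}) :
    ∃ (X : Fin 3 → Submodule k V) (hX : ∀ i, ∀ g, ∀ x ∈ X i, ρ g x ∈ X i),
      (∀ i, IsV ι p (subRep ρ (X i) (hX i)) (nnE i * p ^ tw i)) ∧ IsCompl (X 0) (X 1 ⊔ X 2) ∧ Disjoint (X 1) (X 2) := by
  have hlt : ∀ i, nnE i < p := by
    intro i
    fin_cases i <;> simp [nnE] <;> omega
  have h0 : ∀ i, 0 < nnE i := by
    intro i
    fin_cases i <;> simp [nnE]
  refine split3 ι p ρ (b := fun i => nnE i * p ^ tw i) ?_ hcf fun i j hij => ?_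
  · intro i j hij
    have h1 := congrArg (tyl p) hij
    simp only at h1
    rw [tyl_single (h0 i) (hlt i), tyl_single (h0 j) (hlt j)] at h1
    have h2 : nnE i = nnE j := by simpa using h1
    clear h1 hij
    revert h2
    revert i j
    decide
  · refine ext0_E ι p hF hp13 h (htw i) (htw j) ?_ ?_ ?_ ?_ ?_
    all_goals
      revert hij
      revert i j
      decide

include hF in
/-- `p = 13`, `a = 1` -/
theorem ext0_13 (ha : a = 1) (hp : p = 13) {n : ℕ} (hn : n = 4 ∨ n = 8) :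
    Ext0 (Sy.{u, v, w} ι p) 12 n ∧ Ext0 (Sy.{u, v, w} ι p) n 12 := by
  have h1 : Ext0 (Sy.{u, v, w} ι p) 12 n := by
    refine ext0_of_lft ι p hF (a := a) ?_
    subst ha hp
    rcases hn with rfl | rfl
    · unfold Lft en
      decide
    · unfold Lft en
      decide
  exact ⟨h1, ext0_symm ι p h1⟩

include hF in
/-- `p = 17` or `p = 19`, `a = 1` : 8 and 12 -/
theorem ext0_17 (ha : a = 1) (hp : p = 17 ∨ p = 19) :
    Ext0 (Sy.{u, v, w} ι p) 12 8 ∧ Ext0 (Sy.{u, v, w} ι p) 8 12 := by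
  have h1 : Ext0 (Sy.{u, v, w} ι p) 12 8 := by
    refine ext0_one ι p hF ha ?_ ?_ ?_
    · rcases hp with rfl | rfl <;> decide
    · rcases hp with rfl | rfl <;> decide
    · intro j h1 h2
      rcases hp with rfl | rfl
      · have : j ≤ 16 := h2
        interval_cases j <;> decide
      · have : j ≤ 18 := h2
        interval_cases j <;> decide
  exact ⟨h1, ext0_symm ι p h1⟩

include hF in
/-- `p = 17, 19` or `23`, `a = 1` : 8 and 4 -/
theorem ext0_84 (ha : a = 1) (hp : p = 17 ∨ p = 19 ∨ p = 23) :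
    Ext0 (Sy.{u, v, w} ι p) 8 4 ∧ Ext0 (Sy.{u, v, w} ι p) 4 8 := by
  have h1 : Ext0 (Sy.{u, v, w} ι p) 8 4 := by
    refine ext0_of_lft ι p hF (a := a) ?_
    subst ha
    rcases hp with rfl | rfl | rfl
    · unfold Lft en
      decide
    · unfold Lft en
      decide
    · unfold Lft en
      decide
  exact ⟨h1, ext0_symm ι p h1⟩

include hF in
/-- `p = 23`, `a = 1` : 12 and 4 -/
theorem ext0_23 (ha : a = 1) (hp : p = 23) :
    Ext0 (Sy.{u, v, w} ι p) 12 4 ∧ Ext0 (Sy.{u, v, w} ι p) 4 12 := by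
  have h1 : Ext0 (Sy.{u, v, w} ι p) 12 4 := by
    refine ext0_of_lft ι p hF (a := a) ?_
    subst ha hp
    unfold Lft en
    decide
  exact ⟨h1, ext0_symm ι p h1⟩

end E

/-! ## Bases -/

/-- the relations of the standard basis of `V_{n p^i}` -/
structure Chn {V : Type*} [AddCommGroup V] [Module k V] (σ : Representation k (SpecialLinearGroup (Fin 2) F) V) (n i : ℕ)
    (v : ℕ → V) : Prop where
  zero : ∀ s, n < s → v s = 0
  ne : ∀ s ≤ n, v s ≠ 0
  u : ∀ s ≤ n, ∀ t, σ (u t) (v s) =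
    ∑ j ∈ Finset.range (n - s + 1), (((n - s).choose j : k) * (ι t ^ p ^ i) ^ j) • v (s + j)
  h : ∀ s ≤ n, ∀ a : Fˣ, σ (h a) (v s) = ((ι a ^ p ^ i) ^ s * ((ι a ^ p ^ i)⁻¹) ^ (n - s)) • v s
  w : ∀ s ≤ n, σ w (v s) = (-1 : k) ^ s • v (n - s)

theorem exists_chn {V : Type*} [AddCommGroup V] [Module k V] {σ : Representation k (SpecialLinearGroup (Fin 2) F) V}
    {X : Submodule k V} (hX : ∀ g, ∀ x ∈ X, σ g x ∈ X) {n i : ℕ} (hn : n < p) (hb : IsV ι p (subRep σ X hX) (n * p ^ i)) :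
    ∃ v : ℕ → V, Chn ι p σ n i v ∧ Submodule.span k (Set.range fun s : Fin (n + 1) => v s) = X := by
  obtain ⟨v, hv⟩ := hb.basS ι p hn
  refine ⟨fun s => (v s : V), ⟨fun s hs => by rw [hv.zero s hs]; rfl, fun s hs h0 => ?_, fun s hs t => ?_, fun s hs a => ?_,
    fun s hs => ?_⟩, ?_⟩
  · exact hv.li.ne_zero (⟨s, Nat.lt_succ_of_le hs⟩ : Fin (n + 1)) (Subtype.ext h0)
  · have h1 := congrArg Subtype.val (hv.u s hs t)
    rw [Submodule.coe_sum] at h1
    exact h1
  · exact congrArg Subtype.val (hv.h s hs a)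
  · exact congrArg Subtype.val (hv.w s hs)
  · have h1 : (Set.range fun s : Fin (n + 1) => ((v s : X) : V)) = X.subtype '' (Set.range fun s : Fin (n + 1) => v s) := by
      rw [← Set.range_comp]
      rfl
    rw [h1, ← Submodule.map_span, eq_top_iff.2 hv.sp, Submodule.map_top, Submodule.range_subtype]

end Cfsg.Agent.R2.H28.SL2
end

private theorem dce_cfcd353d3cf1 : _root_.True := by
  try have : _root_.True := by simp only [_root_.Cfsg.Agent.R2.H28.SL2.nnE.eq_1]
  exact _root_.True.intro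
end

-- part: R2/H28/SL2/Form
section
prune_inst 0x203404006200000004009071003c87ca0001000008800048e40f0a0780a66009020821b8900510009200444838002811000000420000000a000400011a018000801004900800000a0000000080410000000000000000000000000000000004004010000
set_option linter.all false
open scoped Cfsg.Agent.FastGrp

/-!
# Invariant forms on `V_{n p^i}` (helper28)

`β : X × X → I` equivariant, `X ≅ V_{n p^i}`, `f : I → k` invariant under `U` : the values `B s t = f (β (v s) (v t))`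
satisfy `B s t = 0` for `s + t > n` and `(n - s) B (s + 1) t + (n - t) B s (t + 1) = 0` (`form_big`, `form_rec`).
-/

set_option autoImplicit false
set_option linter.unusedSectionVars false

namespace Cfsg.Agent.R2.H28.SL2

open Matrix Cfsg.Agent.H943.SL2Rel Cfsg.Agent.H943.SL2Mod Cfsg.Agent.H943.RepAdd
open Polynomial

universe u v w

variable {k : Type u} [Field k] [DecidableEq k] {F : Type w} [Field F] [Fintype F] [DecidableEq F] (ι : F →+* k)
variable (p : ℕ) [Fact p.Prime] [CharP k p] [CharP F p]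

theorem tau_inj (i : ℕ) : Function.Injective fun t : F => ι t ^ p ^ i := by
  intro x y h
  have h1 : (ι x - ι y) ^ p ^ i = 0 := by
    rw [sub_pow_char_pow, sub_eq_zero]
    exact h
  have h2 := pow_eq_zero_iff (pow_ne_zero i (Fact.out : p.Prime).ne_zero) |>.1 h1
  exact ι.injective (sub_eq_zero.1 h2)

theorem poly_zero (i : ℕ) {P : k[X]} (hd : P.natDegree < Fintype.card F) (h : ∀ t : F, P.eval (ι t ^ p ^ i) = 0) : P = 0 :=
  Polynomial.eq_zero_of_natDegree_lt_card_of_eval_eq_zero P (tau_inj ι p i) h hd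

theorem form_aux (i : ℕ) (B : ℕ → ℕ → k) {n s t N : ℕ} (hn : 1 ≤ n) (hN : N < Fintype.card F)
    (h : ∀ x : F, ∑ j ∈ Finset.range (n + 1), ∑ l ∈ Finset.range (n + 1),
      (((n - s).choose j : k) * (ι x ^ p ^ i) ^ j) * (((n - t).choose l : k) * (ι x ^ p ^ i) ^ l) * B (s + j) (t + l) = B s t)
    (hz : ∀ j ≤ n - s, ∀ l ≤ n - t, N < j + l → B (s + j) (t + l) = 0) :
    ((n - s : ℕ) : k) * B (s + 1) t + ((n - t : ℕ) : k) * B s (t + 1) = 0 := by
  let A : ℕ → ℕ → k := fun j l => ((n - s).choose j : k) * ((n - t).choose l : k) * B (s + j) (t + l)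
  let P : k[X] := ∑ j ∈ Finset.range (n + 1), ∑ l ∈ Finset.range (n + 1), C (A j l) * X ^ (j + l) - C (B s t)
  have hP : P = 0 := by
    refine poly_zero ι p i (lt_of_le_of_lt ?_ hN) fun x => ?_
    · refine (Polynomial.natDegree_sub_le _ _).trans (max_le ?_ ?_)
      · refine Polynomial.natDegree_sum_le_of_forall_le _ _ fun j _ =>
          Polynomial.natDegree_sum_le_of_forall_le _ _ fun l _ => ?_
        by_cases h0 : A j l = 0
        · rw [h0, C_0, zero_mul, natDegree_zero]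
          exact Nat.zero_le _
        · refine (natDegree_C_mul_X_pow_le _ _).trans ?_
          by_contra hc
          apply h0
          have h1 : j ≤ n - s := by
            by_contra h1
            apply h0
            show ((n - s).choose j : k) * ((n - t).choose l : k) * B (s + j) (t + l) = 0
            rw [Nat.choose_eq_zero_of_lt (by omega), Nat.cast_zero, zero_mul, zero_mul]
          have h2 : l ≤ n - t := by
            by_contra h2
            apply h0
            show ((n - s).choose j : k) * ((n - t).choose l : k) * B (s + j) (t + l) = 0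
            rw [Nat.choose_eq_zero_of_lt (show n - t < l by omega), Nat.cast_zero, mul_zero, zero_mul]
          show ((n - s).choose j : k) * ((n - t).choose l : k) * B (s + j) (t + l) = 0
          rw [hz j h1 l h2 (by omega), mul_zero]
      · rw [natDegree_C]
        exact Nat.zero_le _
    · rw [eval_sub, eval_C, eval_finsetSum, ← h x, sub_eq_zero]
      refine Finset.sum_congr rfl fun j _ => ?_
      rw [eval_finsetSum]
      refine Finset.sum_congr rfl fun l _ => ?_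
      rw [eval_mul, eval_C, eval_pow, eval_X, pow_add]
      ring
  have h1 : P.coeff 1 = 0 := by rw [hP, Polynomial.coeff_zero]
  have h2 : P.coeff 1 = A 1 0 + A 0 1 := by
    show (∑ j ∈ Finset.range (n + 1), ∑ l ∈ Finset.range (n + 1), C (A j l) * X ^ (j + l) - C (B s t)).coeff 1 = _
    rw [coeff_sub, coeff_C_of_ne_zero one_ne_zero, sub_zero, finsetSum_coeff]
    have h3 : ∀ j ∈ Finset.range (n + 1), (∑ l ∈ Finset.range (n + 1), C (A j l) * X ^ (j + l)).coeff 1 =
        (if j = 1 then A 1 0 else 0) + if j = 0 then A 0 1 else 0 := by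
      intro j _
      rw [finsetSum_coeff]
      rcases Nat.lt_or_ge 1 j with hj | hj
      · rw [if_neg (by omega), if_neg (by omega), add_zero]
        refine Finset.sum_eq_zero fun l _ => ?_
        rw [coeff_C_mul_X_pow, if_neg (by omega)]
      · rcases Nat.eq_or_lt_of_le hj with rfl | hj
        · rw [if_pos rfl, if_neg (by omega), add_zero, Finset.sum_eq_single 0]
          · rw [coeff_C_mul_X_pow, if_pos rfl]
          · intro l _ hl
            rw [coeff_C_mul_X_pow, if_neg (by omega)]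
          · intro h0
            exact absurd (Finset.mem_range.2 (by omega)) h0
        · have hj0 : j = 0 := by omega
          subst hj0
          rw [if_neg (by omega), if_pos rfl, zero_add, Finset.sum_eq_single 1]
          · rw [coeff_C_mul_X_pow, if_pos rfl]
          · intro l _ hl
            rw [coeff_C_mul_X_pow, if_neg (by omega)]
          · intro h0
            exact absurd (Finset.mem_range.2 (by omega)) h0
    rw [Finset.sum_congr rfl h3, Finset.sum_add_distrib, Finset.sum_ite_eq', Finset.sum_ite_eq',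
      if_pos (Finset.mem_range.2 (by omega)), if_pos (Finset.mem_range.2 (by omega))]
  rw [h1] at h2
  rw [h2]
  show _ = ((n - s).choose 1 : k) * ((n - t).choose 0 : k) * B (s + 1) (t + 0) +
    ((n - s).choose 0 : k) * ((n - t).choose 1 : k) * B (s + 0) (t + 1)
  rw [Nat.choose_one_right, Nat.choose_zero_right, Nat.choose_zero_right, Nat.choose_one_right, Nat.cast_one, mul_one, one_mul]
  rfl

/-- **the recursion** -/
theorem form_core (i : ℕ) (B : ℕ → ℕ → k) {n : ℕ} (hn : 1 ≤ n) (hnp : n < p) (hN : n < Fintype.card F)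
    (h0 : ∀ s t, n < s ∨ n < t → B s t = 0)
    (h : ∀ s ≤ n, ∀ t ≤ n, ∀ x : F, ∑ j ∈ Finset.range (n + 1), ∑ l ∈ Finset.range (n + 1),
      (((n - s).choose j : k) * (ι x ^ p ^ i) ^ j) * (((n - t).choose l : k) * (ι x ^ p ^ i) ^ l) * B (s + j) (t + l) = B s t) :
    (∀ s t, n < s + t → B s t = 0) ∧
      ∀ s ≤ n, ∀ t ≤ n, ((n - s : ℕ) : k) * B (s + 1) t + ((n - t : ℕ) : k) * B s (t + 1) = 0 := by
  have h1 : ∀ s ≤ n, ∀ t ≤ n, n ≤ s + t → ((n - s : ℕ) : k) * B (s + 1) t + ((n - t : ℕ) : k) * B s (t + 1) = 0 :=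
    fun s hs t ht hst => form_aux ι p i B hn hN (h s hs t ht) fun j hj l hl hjl => by omega
  have hne : ∀ m : ℕ, 0 < m → m ≤ n → (m : k) ≠ 0 := by
    intro m hm hmn h2
    rw [CharP.cast_eq_zero_iff k p] at h2
    have := Nat.le_of_dvd hm h2
    omega
  have h2 : ∀ s t, n < s + t → B s t = 0 := by
    intro s
    induction s with
    | zero => intro t ht; exact h0 _ _ (Or.inr (by omega))
    | succ s ih =>
      intro t hst
      by_cases hs : n < s + 1
      · exact h0 _ _ (Or.inl hs)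
      · by_cases ht : n < t
        · exact h0 _ _ (Or.inr ht)
        · have h3 := h1 s (by omega) t (by omega) (by omega)
          rw [ih (t + 1) (by omega), mul_zero, add_zero] at h3
          exact (mul_eq_zero.1 h3).resolve_left (hne _ (by omega) (by omega))
  refine ⟨h2, fun s hs t ht => ?_⟩
  exact form_aux ι p i B hn hN (h s hs t ht) fun j hj l hl hjl => h2 _ _ (by omega)

section Bas

variable {X : Type*} [AddCommGroup X] [Module k X] {I : Type*} [AddCommGroup I] [Module k I]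
  {σ : Representation k (SpecialLinearGroup (Fin 2) F) X} {τ : Representation k (SpecialLinearGroup (Fin 2) F) I}
  {n i : ℕ} {v : ℕ → X} {β : X →ₗ[k] X →ₗ[k] I}

theorem basS_u (hv : BasS ι p σ n i v) {s : ℕ} (hs : s ≤ n) (t : F) : σ (u t) (v s) =
    ∑ j ∈ Finset.range (n + 1), (((n - s).choose j : k) * (ι t ^ p ^ i) ^ j) • v (s + j) := by
  rw [hv.u s hs t]
  refine Finset.sum_subset (fun j hj => ?_) fun j _ hj => ?_
  · rw [Finset.mem_range] at hj ⊢
    omega
  · rw [Finset.mem_range] at hj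
    rw [Nat.choose_eq_zero_of_lt (by omega), Nat.cast_zero, zero_mul, zero_smul]

/-- **forms on `V_{n p^i}`** -/
theorem basS_form (hv : BasS ι p σ n i v) (he : ∀ g x y, β (σ g x) (σ g y) = τ g (β x y)) (hn : 1 ≤ n) (hnp : n < p)
    (hN : n < Fintype.card F) (f : I →ₗ[k] k) (hf : ∀ t y, f (τ (u t) y) = f y) :
    (∀ s t, n < s + t → f (β (v s) (v t)) = 0) ∧
      ∀ s ≤ n, ∀ t ≤ n, ((n - s : ℕ) : k) * f (β (v (s + 1)) (v t)) + ((n - t : ℕ) : k) * f (β (v s) (v (t + 1))) = 0 := by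
  refine form_core ι p i (fun s t => f (β (v s) (v t))) hn hnp hN ?_ ?_
  · rintro s t (hs | ht)
    · show f (β (v s) (v t)) = 0
      rw [hv.zero s hs, map_zero, LinearMap.zero_apply, map_zero]
    · show f (β (v s) (v t)) = 0
      rw [hv.zero t ht, map_zero, map_zero]
  · intro s hs t ht x
    show _ = f (β (v s) (v t))
    rw [← hf x (β (v s) (v t)), ← he, basS_u ι p hv hs, basS_u ι p hv ht, LinearMap.map_sum₂, map_sum]
    refine Finset.sum_congr rfl fun j _ => ?_
    rw [LinearMap.map_smul₂, map_smul, map_sum, map_sum, smul_eq_mul, Finset.mul_sum]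
    refine Finset.sum_congr rfl fun l _ => ?_
    rw [map_smul, map_smul, smul_eq_mul]
    ring

/-- **weights of forms** -/
theorem basS_form_wt (hv : BasS ι p σ n i v) (he : ∀ g x y, β (σ g x) (σ g y) = τ g (β x y))
    (hN : n + 1 < Fintype.card F) (f : I →ₗ[k] k)
    (hf : ∀ (a : Fˣ) y, f (τ (h a) y) = ((ι a ^ p ^ i)⁻¹) ^ n * f y) {s t : ℕ} (hst : s + t ≤ n) (h2 : 2 * (s + t) ≠ n) :
    f (β (v s) (v t)) = 0 := by
  by_contra hc
  have h1 : ∀ a : Fˣ, ι (a : F) ^ (2 * (s + t)) = ι (a : F) ^ n := by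
    intro a
    have ha : ι (a : F) ^ p ^ i ≠ 0 := pow_ne_zero _ ((map_ne_zero ι).2 a.ne_zero)
    have h3 := hf a (β (v s) (v t))
    rw [← he, hv.h s (by omega), hv.h t (by omega), LinearMap.map_smul₂, map_smul, map_smul, map_smul,
      smul_eq_mul, smul_eq_mul, ← mul_assoc] at h3
    have h4 := mul_right_cancel₀ hc h3
    have h5 : (ι (a : F) ^ p ^ i) ^ (2 * (s + t)) = (ι (a : F) ^ p ^ i) ^ n := by
      have h6 : ∀ x : k, x ≠ 0 → x ^ s * x⁻¹ ^ (n - s) * (x ^ t * x⁻¹ ^ (n - t)) = x⁻¹ ^ n → x ^ (2 * (s + t)) = x ^ n := by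
        intro x hx h7
        have h8 : x ^ (n - s) * x ^ s = x ^ n := by rw [← pow_add]; congr 1; omega
        have h9 : x ^ (n - t) * x ^ t = x ^ n := by rw [← pow_add]; congr 1; omega
        have h10 : x ^ (n - s) * x ^ (n - t) * (x ^ s * x⁻¹ ^ (n - s) * (x ^ t * x⁻¹ ^ (n - t))) = x ^ (s + t) := by
          rw [inv_pow, inv_pow, pow_add]
          have e1 := pow_ne_zero (n - s) hx
          have e2 := pow_ne_zero (n - t) hx
          field_simp
        rw [h7] at h10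
        have h11 : x ^ (s + t) * (x ^ (n - s) * x ^ (n - t) * x⁻¹ ^ n) = x ^ n := by
          have h12 : x ^ (s + t) * (x ^ (n - s) * x ^ (n - t) * x⁻¹ ^ n) =
            (x ^ (n - s) * x ^ s) * (x ^ (n - t) * x ^ t) * x⁻¹ ^ n := by ring
          rw [h12, h8, h9, inv_pow, mul_assoc, mul_inv_cancel₀ (pow_ne_zero n hx), mul_one]
        rw [h10, ← pow_add, ← two_mul] at h11
        exact h11
      exact h6 _ ha h4
    have h5' : (ι (a : F) ^ (2 * (s + t))) ^ p ^ i = (ι (a : F) ^ n) ^ p ^ i :=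
      (pow_right_comm _ _ _).trans (h5.trans (pow_right_comm _ _ _))
    have h6 : (ι (a : F) ^ (2 * (s + t)) - ι (a : F) ^ n) ^ p ^ i = 0 := by
      rw [sub_pow_char_pow, sub_eq_zero]
      exact h5'
    exact sub_eq_zero.1 ((pow_eq_zero_iff (pow_ne_zero i (Fact.out : p.Prime).ne_zero)).1 h6)
  have h3 := mod_of_pow ι h1
  have h4 : n % (Fintype.card F - 1) = n := Nat.mod_eq_of_lt (by omega)
  rw [h4] at h3
  rcases Nat.lt_or_ge (2 * (s + t)) (Fintype.card F - 1) with h5 | h5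
  · rw [Nat.mod_eq_of_lt h5] at h3
    exact h2 h3
  · rw [Nat.mod_eq_sub_mod h5, Nat.mod_eq_of_lt (by omega)] at h3
    omega

/-- the action of `w u(x) w` -/
theorem basS_low (hv : BasS ι p σ n i v) {s : ℕ} (hs : s ≤ n) (x : F) : σ (w * u x * w) (v s) =
    ∑ j ∈ Finset.range (s + 1), ((-1 : k) ^ n * ((s.choose j : k) * (-1) ^ j * (ι x ^ p ^ i) ^ j)) • v (s - j) := by
  rw [map_mul, Module.End.mul_apply, hv.w s hs, map_smul, map_mul, Module.End.mul_apply, hv.u (n - s) (by omega), map_sum,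
    Nat.sub_sub_self hs, Finset.smul_sum]
  refine Finset.sum_congr rfl fun j hj => ?_
  rw [Finset.mem_range] at hj
  rw [map_smul, hv.w _ (by omega), smul_smul, smul_smul, show n - (n - s + j) = s - j by omega]
  congr 1
  have h1 : (-1 : k) ^ n = (-1) ^ s * (-1) ^ (n - s) := by rw [← pow_add]; congr 1; omega
  have h2 : (-1 : k) ^ (n - s + j) = (-1) ^ (n - s) * (-1) ^ j := pow_add _ _ _
  rw [h1, h2]
  ring

/-- the coordinate `0` -/
theorem basS_coord (hv : BasS ι p σ n i v) : ∃ f : ℕ → (X →ₗ[k] k),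
    (∀ x, x = ∑ r ∈ Finset.range (n + 1), f r x • v r) ∧ (∀ r ≤ n, ∀ s ≤ n, f r (v s) = if s = r then 1 else 0) := by
  let b : Module.Basis (Fin (n + 1)) k X := Module.Basis.mk hv.li hv.sp
  have hb : ∀ r : Fin (n + 1), b r = v r := fun r => by
    show (Module.Basis.mk hv.li hv.sp) r = _
    rw [Module.Basis.mk_apply]
  refine ⟨fun r => if h : r < n + 1 then b.coord ⟨r, h⟩ else 0, fun x => ?_, fun r hr s hs => ?_⟩
  · conv_lhs => rw [← b.sum_repr x]
    rw [Finset.sum_range]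
    refine Finset.sum_congr rfl fun r _ => ?_
    rw [hb]
    beta_reduce
    rw [dif_pos r.2]
    rfl
  · beta_reduce
    rw [dif_pos (by omega)]
    have h1 := hb ⟨s, by omega⟩
    rw [← h1, Module.Basis.coord_apply, Module.Basis.repr_self, Finsupp.single_apply]
    simp only [Fin.mk.injEq]

theorem basS_coord_u (hv : BasS ι p σ n i v) {f : X →ₗ[k] k} (hf : ∀ s ≤ n, f (v s) = if s = 0 then 1 else 0) :
    (∀ t y, f (σ (u t) y) = f y) ∧ (∀ (a : Fˣ) y, f (σ (h a) y) = ((ι a ^ p ^ i)⁻¹) ^ n * f y) := by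
  obtain ⟨F', hF1, hF2⟩ := basS_coord ι p hv
  constructor
  · intro t y
    rw [hF1 y, map_sum, map_sum, map_sum]
    refine Finset.sum_congr rfl fun r hr => ?_
    rw [Finset.mem_range] at hr
    rw [map_smul, map_smul, map_smul, hv.u r (by omega), map_sum, Finset.sum_range_succ', Finset.sum_eq_zero, zero_add]
    · rw [Nat.choose_zero_right, Nat.cast_one, pow_zero, mul_one, one_smul, add_zero]
    · intro j hj
      rw [Finset.mem_range] at hj
      rw [map_smul, hf _ (by omega), if_neg (by omega), smul_zero]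
  · intro a y
    rw [hF1 y, map_sum, map_sum, map_sum, Finset.mul_sum]
    refine Finset.sum_congr rfl fun r hr => ?_
    rw [Finset.mem_range] at hr
    rw [map_smul, map_smul, map_smul, hv.h r (by omega), map_smul, hf r (by omega), smul_eq_mul, smul_eq_mul, smul_eq_mul]
    by_cases h0 : r = 0
    · rw [if_pos h0, h0, pow_zero, one_mul, Nat.sub_zero]
      ring
    · rw [if_neg h0]
      ring

/-- **the products** -/
theorem basS_prod {v' : ℕ → I} (hv : BasS ι p σ n i v) (hv' : BasS ι p τ n i v')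
    (he : ∀ g x y, β (σ g x) (σ g y) = τ g (β x y)) (hN : n < Fintype.card F) {m : ℕ} {f : I →ₗ[k] k}
    (hf : ∀ s ≤ n, f (v' s) = if s = 0 then 1 else 0) (hB : ∀ s t, s + t ≠ m → f (β (v s) (v t)) = 0) {s t : ℕ}
    (hs : s ≤ n) (ht : t ≤ n) (h1 : m ≤ s + t) (h2 : s + t ≤ m + n) :
    β (v s) (v t) = ((-1) ^ n * ∑ j ∈ Finset.range (s + 1), ∑ l ∈ Finset.range (t + 1),
      if j + l = s + t - m then (s.choose j : k) * (t.choose l : k) * f (β (v (s - j)) (v (t - l))) else 0) •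
        v' (s + t - m) := by
  obtain ⟨F', hF1, hF2⟩ := basS_coord ι p hv'
  set e := s + t - m with he'
  set S : k := ∑ j ∈ Finset.range (s + 1), ∑ l ∈ Finset.range (t + 1),
      if j + l = e then (s.choose j : k) * (t.choose l : k) * f (β (v (s - j)) (v (t - l))) else 0 with hS
  set y := β (v s) (v t) with hy
  let P : k[X] := ∑ r ∈ Finset.range (n + 1), C ((-1) ^ n * ((-1) ^ r * F' r y)) * Polynomial.X ^ r - C ((-1) ^ e * S) * Polynomial.X ^ e
  have hP : P = 0 := by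
    refine poly_zero ι p i (lt_of_le_of_lt ?_ hN) fun x => ?_
    · refine (Polynomial.natDegree_sub_le _ _).trans (max_le ?_ ?_)
      · refine Polynomial.natDegree_sum_le_of_forall_le _ _ fun r hr => (natDegree_C_mul_X_pow_le _ _).trans ?_
        rw [Finset.mem_range] at hr
        omega
      · refine (natDegree_C_mul_X_pow_le _ _).trans ?_
        omega
    · rw [eval_sub, eval_finsetSum, eval_mul, eval_C, eval_pow, eval_X, sub_eq_zero]
      have h3 : f (τ (w * u x * w) y) = ∑ r ∈ Finset.range (n + 1), (-1) ^ n * ((-1) ^ r * F' r y) * (ι x ^ p ^ i) ^ r := by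
        conv_lhs => rw [hF1 y]
        rw [map_sum, map_sum]
        refine Finset.sum_congr rfl fun r hr => ?_
        rw [Finset.mem_range] at hr
        rw [map_smul, map_smul, basS_low ι p hv' (by omega), map_sum, Finset.sum_eq_single_of_mem r (Finset.mem_range.2 (by omega))]
        · rw [map_smul, Nat.sub_self, hf 0 (by omega), if_pos rfl, Nat.choose_self, Nat.cast_one, smul_eq_mul, smul_eq_mul]
          ring
        · intro j hj hjr
          rw [Finset.mem_range] at hj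
          rw [map_smul, hf _ (by omega), if_neg (by omega), smul_zero]
      have h4 : f (τ (w * u x * w) y) = (-1) ^ e * S * (ι x ^ p ^ i) ^ e := by
        have h5 : ((-1 : k) ^ n) * (-1) ^ n = 1 := by rw [← mul_pow, neg_one_mul, neg_neg, one_pow]
        rw [hy, ← he, basS_low ι p hv hs, basS_low ι p hv ht, LinearMap.map_sum₂, map_sum, hS, Finset.mul_sum, Finset.sum_mul]
        refine Finset.sum_congr rfl fun j hj => ?_
        rw [Finset.mem_range] at hj
        rw [LinearMap.map_smul₂, map_smul, map_sum, map_sum, smul_eq_mul, Finset.mul_sum, Finset.mul_sum, Finset.sum_mul]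
        refine Finset.sum_congr rfl fun l hl => ?_
        rw [Finset.mem_range] at hl
        rw [map_smul, map_smul, smul_eq_mul]
        by_cases h6 : j + l = e
        · rw [if_pos h6, ← h6]
          linear_combination ((s.choose j : k) * (-1) ^ j * (ι x ^ p ^ i) ^ j * ((t.choose l : k) * (-1) ^ l * (ι x ^ p ^ i) ^ l) *
            f (β (v (s - j)) (v (t - l)))) * h5
        · rw [if_neg h6, hB _ _ (by omega)]
          ring
      rw [← h4, h3]
      refine Finset.sum_congr rfl fun r _ => ?_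
      rw [eval_mul, eval_C, eval_pow, eval_X]
  have hc : ∀ r ≤ n, F' r y = if r = e then (-1) ^ n * S else 0 := by
    intro r hr
    have h3 : P.coeff r = 0 := by rw [hP, Polynomial.coeff_zero]
    have h4 : P.coeff r = (-1) ^ n * ((-1) ^ r * F' r y) - if r = e then (-1) ^ e * S else 0 := by
      show (∑ r ∈ Finset.range (n + 1), C ((-1) ^ n * ((-1) ^ r * F' r y)) * Polynomial.X ^ r - C ((-1) ^ e * S) * Polynomial.X ^ e).coeff r = _
      rw [coeff_sub, finsetSum_coeff, Finset.sum_eq_single_of_mem r (Finset.mem_range.2 (by omega)), coeff_C_mul_X_pow,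
        if_pos rfl, coeff_C_mul_X_pow]
      intro r' _ hr'
      rw [coeff_C_mul_X_pow, if_neg (Ne.symm hr')]
    rw [h3] at h4
    have h5 : ((-1 : k) ^ n) * (-1) ^ n = 1 := by rw [← mul_pow, neg_one_mul, neg_neg, one_pow]
    have h6 : ((-1 : k) ^ r) * (-1) ^ r = 1 := by rw [← mul_pow, neg_one_mul, neg_neg, one_pow]
    split_ifs at h4 ⊢ with h7
    · rw [← h7] at h4
      have h8 : (-1) ^ n * F' r y = S := by
        linear_combination (-((-1) ^ n * F' r y)) * h6 + S * h6 - (-1) ^ r * h4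
      rw [← h8, ← mul_assoc, h5, one_mul]
    · have h8 : F' r y = (-1) ^ n * (-1) ^ n * ((-1) ^ r * (-1) ^ r) * F' r y := by rw [h5, h6, one_mul, one_mul]
      rw [h8]
      linear_combination (-((-1) ^ n * (-1) ^ r)) * h4
  rw [hF1 y, Finset.sum_eq_single_of_mem e (Finset.mem_range.2 (by omega)), hc e (by omega), if_pos rfl]
  intro r hr hre
  rw [Finset.mem_range] at hr
  rw [hc r (by omega), if_neg hre, zero_smul]

end Bas

end Cfsg.Agent.R2.H28.SL2
end

-- part: R2/H28/SL2/Form2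
section
prune_inst 0x4010000
set_option linter.all false
open scoped Cfsg.Agent.FastGrp

/-!
# Images of `S² V_{n p^i}` with all factors `V_{n p^i}` (helper28)

* `form_det` : a `U`-invariant functional `f` of the right weight is determined by `f (β (v 0) (v m))`, `n = 2 m`;
* `irr_of_dual` : if `β` spans `I` and all factors of the dual `J` of `I` are `V_{n p^i}` then `J` is irreducible
  (under an arithmetic condition);
* `exists_sqL` : the map from the symmetric square.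
-/

set_option autoImplicit false
set_option linter.unusedSectionVars false

namespace Cfsg.Agent.R2.H28.SL2

open Matrix Cfsg.Agent.H943.SL2Rel Cfsg.Agent.H943.SL2Mod Cfsg.Agent.H943.RepAdd
open scoped TensorProduct

universe u v w

variable {k : Type u} [Field k] [DecidableEq k] {F : Type w} [Field F] [Fintype F] [DecidableEq F] (ι : F →+* k)
variable (p : ℕ) [Fact p.Prime] [CharP k p] [CharP F p]

/-- linear extension -/
theorem basS_ext {X : Type*} [AddCommGroup X] [Module k X] {I : Type*} [AddCommGroup I] [Module k I]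
    {σ : Representation k (SpecialLinearGroup (Fin 2) F) X} {n i : ℕ} {v : ℕ → X} (hv : BasS ι p σ n i v)
    (g : X →ₗ[k] X →ₗ[k] I) (h : ∀ s ≤ n, ∀ t ≤ n, g (v s) (v t) = 0) (x y : X) : g x y = 0 := by
  obtain ⟨f, hf, -⟩ := basS_coord ι p hv
  rw [hf x, hf y, LinearMap.map_sum₂]
  refine Finset.sum_eq_zero fun s hs => ?_
  rw [LinearMap.map_smul₂, map_sum, Finset.sum_eq_zero, smul_zero]
  intro t ht
  rw [Finset.mem_range] at hs ht
  rw [map_smul, h s (by omega) t (by omega), smul_zero]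

/-- **one value determines the form** -/
theorem form_det {X : Type*} [AddCommGroup X] [Module k X] {I : Type*} [AddCommGroup I] [Module k I]
    {σ : Representation k (SpecialLinearGroup (Fin 2) F) X} {τ : Representation k (SpecialLinearGroup (Fin 2) F) I}
    {n i : ℕ} {v : ℕ → X} {β : X →ₗ[k] X →ₗ[k] I} (hv : BasS ι p σ n i v)
    (he : ∀ g x y, β (σ g x) (σ g y) = τ g (β x y)) (hn : 1 ≤ n) (hnp : n < p) (hN : n + 1 < Fintype.card F) {m : ℕ}
    (hm : n = 2 * m) (f : I →ₗ[k] k) (hf : ∀ t y, f (τ (u t) y) = f y)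
    (hf' : ∀ (a : Fˣ) y, f (τ (h a) y) = ((ι a ^ p ^ i)⁻¹) ^ n * f y) :
    (∀ s t, s + t ≠ m → f (β (v s) (v t)) = 0) ∧ (f (β (v 0) (v m)) = 0 → ∀ x y, f (β x y) = 0) := by
  obtain ⟨h1, h2⟩ := basS_form ι p hv he hn hnp (by omega) f hf
  have h3 : ∀ s t, s + t ≠ m → f (β (v s) (v t)) = 0 := by
    intro s t hst
    rcases Nat.lt_or_ge n (s + t) with h4 | h4
    · exact h1 s t h4
    · exact basS_form_wt ι p hv he hN f hf' h4 (by omega)
  refine ⟨h3, fun h0 => ?_⟩
  have hne : ∀ r : ℕ, 0 < r → r ≤ n → (r : k) ≠ 0 := by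
    intro r hr hrn h2
    rw [CharP.cast_eq_zero_iff k p] at h2
    have := Nat.le_of_dvd hr h2
    omega
  have h4 : ∀ s t, s + t = m → f (β (v s) (v t)) = 0 := by
    intro s
    induction s with
    | zero =>
      intro t ht
      rw [zero_add] at ht
      rw [ht]
      exact h0
    | succ s ih =>
      intro t hst
      have h5 := h2 s (by omega) t (by omega)
      rw [ih (t + 1) (by omega), mul_zero, add_zero] at h5
      exact (mul_eq_zero.1 h5).resolve_left (hne _ (by omega) (by omega))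
  intro x y
  refine basS_ext ι p hv (β.compr₂ f) (fun s _ t _ => ?_) x y
  show f (β (v s) (v t)) = 0
  by_cases hst : s + t = m
  · exact h4 s t hst
  · exact h3 s t hst

/-- functionals from vectors of the dual module -/
theorem dual_funct {J : Type*} [AddCommGroup J] [Module k J] {I : Type*} [AddCommGroup I] [Module k I]
    {π : Representation k (SpecialLinearGroup (Fin 2) F) J} {τ : Representation k (SpecialLinearGroup (Fin 2) F) I}
    {P : J →ₗ[k] I →ₗ[k] k} (D : Dul π τ P) {n i : ℕ} {z : J} (hu : ∀ t, π (u t) z = z)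
    (hh : ∀ a, π (h a) z = ι a ^ (n * p ^ i) • z) :
    (∀ t y, P z (τ (u t) y) = P z y) ∧ (∀ (a : Fˣ) y, P z (τ (h a) y) = ((ι a ^ p ^ i)⁻¹) ^ n * P z y) := by
  constructor
  · intro t y
    rw [D.inv', ← u_neg, hu]
  · intro a y
    have h1 : π (h a)⁻¹ z = ((ι (a : F) ^ (n * p ^ i))⁻¹) • z := by
      have h2 : π (h a)⁻¹ (π (h a) z) = z := by
        rw [← Module.End.mul_apply, ← map_mul, inv_mul_cancel, map_one, Module.End.one_apply]
      rw [hh, map_smul] at h2
      have h3 : ι (a : F) ^ (n * p ^ i) ≠ 0 := pow_ne_zero _ ((map_ne_zero ι).2 a.ne_zero)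
      rw [← h2, smul_smul, inv_mul_cancel₀ h3, one_smul, h2]
    rw [D.inv', h1, map_smul, LinearMap.smul_apply, smul_eq_mul, mul_comm n, pow_mul, inv_pow]

variable [IsAlgClosed k] {a : ℕ} (hF : Fintype.card F = p ^ a)

include hF in
/-- **irreducibility** -/
theorem irr_of_dual {X : Type*} [AddCommGroup X] [Module k X] {I : Type*} [AddCommGroup I] [Module k I]
    {J : Type v} [AddCommGroup J] [Module k J] [FiniteDimensional k J] [Nontrivial J]
    {σ : Representation k (SpecialLinearGroup (Fin 2) F) X} {τ : Representation k (SpecialLinearGroup (Fin 2) F) I}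
    {π : Representation k (SpecialLinearGroup (Fin 2) F) J} {P : J →ₗ[k] I →ₗ[k] k} (D : Dul π τ P)
    {n i : ℕ} {v : ℕ → X} {β : X →ₗ[k] X →ₗ[k] I} (hv : BasS ι p σ n i v)
    (he : ∀ g x y, β (σ g x) (σ g y) = τ g (β x y)) (hsp : ∀ f : I →ₗ[k] k, (∀ x y, f (β x y) = 0) → f = 0)
    (hn : 1 ≤ n) (hnp : n < p) (hN : n + 1 < Fintype.card F) {m : ℕ} (hm : n = 2 * m)
    (hall : ∀ c ∈ cf (Sy.{u, v, w} ι p) π, c = n * p ^ i)
    (hlift : ∀ l < a, (n * p ^ i) / p ^ l % p + 1 < p →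
      (n * p ^ i + 2 * en p (n * p ^ i) l) % (p ^ a - 1) ≠ (n * p ^ i) % (p ^ a - 1)) : IsV ι p π (n * p ^ i) := by
  obtain ⟨c, hcs⟩ := exists_inSoc ι p π
  have hcn := hall c hcs.mem_cf
  obtain ⟨W, hW, hc⟩ := hcs
  rw [hcn] at hc
  by_cases hWt : W = ⊤
  · subst hWt
    exact IsV.iso ι p Submodule.topEquiv (fun g x => rfl) hc
  exfalso
  have hnt : Nontrivial (J ⧸ W) := Submodule.Quotient.nontrivial_iff.2 hWt
  obtain ⟨c', hcs'⟩ := exists_inSoc ι p (quotRep π W hW)
  have hcn' := hall c' (Multiset.mem_of_le (cf_quot_le (Sy.{u, v, w} ι p) π W hW) hcs'.mem_cf)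
  obtain ⟨Z, hZ, hc'⟩ := hcs'
  rw [hcn'] at hc'
  obtain ⟨m', hm0', hmu', hmh', -⟩ := hc'.hw2
  obtain ⟨m₀, hm0, hmu, hmh, -⟩ := hc.hw2
  obtain ⟨x₀, hx₀⟩ := W.mkQ_surjective (m' : J ⧸ W)
  have hmem : ∀ z : J, W.mkQ z = 0 → z ∈ W := fun z hz => (Submodule.Quotient.mk_eq_zero W).1 hz
  have hmu'' : ∀ t, quotRep π W hW (u t) (m' : J ⧸ W) = m' := fun t => congrArg Subtype.val (hmu' t)
  have hmh'' : ∀ a, quotRep π W hW (h a) (m' : J ⧸ W) = ι a ^ (n * p ^ i) • (m' : J ⧸ W) := fun a => congrArg Subtype.val (hmh' a)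
  obtain ⟨N, hN'⟩ := cf_spec (Sy.{u, v, w} ι p) (subRep π W hW)
  obtain ⟨x, hx, hxu, hxh⟩ := lift_hw' ι p hF (c := n * p ^ i) N W hW hN' (fun b hb => by
      have h1 : cf (Sy.{u, v, w} ι p) (subRep π W hW) = {n * p ^ i} := cf_irr _ hc
      rw [h1, Multiset.mem_singleton] at hb
      rw [hb]
      exact hlift) x₀
    (fun t => hmem _ (by rw [map_sub, ← quotRep_mk π W hW, hx₀, hmu'', sub_self]))
    (fun a => hmem _ (by rw [map_sub, ← quotRep_mk π W hW, hx₀, hmh'', map_smul, hx₀, sub_self]))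
  have key : ∀ z : J, (∀ t, π (u t) z = z) → (∀ a, π (h a) z = ι a ^ (n * p ^ i) • z) → P z (β (v 0) (v m)) = 0 → z = 0 := by
    intro z hzu hzh h0
    obtain ⟨h1, h2⟩ := dual_funct ι p D hzu hzh
    have h3 := hsp (P z) ((form_det ι p hv he hn hnp hN hm (P z) h1 h2).2 h0)
    exact D.left z fun y => by rw [h3]; rfl
  have hmu3 : ∀ t, π (u t) (m₀ : J) = m₀ := fun t => congrArg Subtype.val (hmu t)
  have hmh3 : ∀ a, π (h a) (m₀ : J) = ι a ^ (n * p ^ i) • (m₀ : J) := fun a => congrArg Subtype.val (hmh a)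
  by_cases hl : P (m₀ : J) (β (v 0) (v m)) = 0
  · exact hm0 (Subtype.ext (key m₀ hmu3 hmh3 hl))
  · have h1 := key (P (m₀ : J) (β (v 0) (v m)) • x - P x (β (v 0) (v m)) • (m₀ : J)) (fun t => by
        rw [map_sub, map_smul, map_smul, hxu, hmu3]) (fun a => by
        rw [map_sub, map_smul, map_smul, hxh, hmh3, smul_sub, smul_comm, smul_comm (P x _)]) (by
        rw [map_sub, LinearMap.sub_apply, map_smul, map_smul, LinearMap.smul_apply, LinearMap.smul_apply, smul_eq_mul,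
          smul_eq_mul, mul_comm, sub_self])
    have h2 : x ∈ W := by
      rw [sub_eq_zero] at h1
      have h3 : P (m₀ : J) (β (v 0) (v m)) • x ∈ W := by
        rw [h1]
        exact W.smul_mem _ m₀.2
      exact (W.smul_mem_iff hl).1 h3
    have h3 : x₀ ∈ W := by
      have h4 : x₀ = x - (x - x₀) := by abel
      rw [h4]
      exact W.sub_mem h2 hx
    apply hm0'
    apply Subtype.ext
    rw [← hx₀]
    exact (Submodule.Quotient.mk_eq_zero W).2 h3

/-- the map on the symmetric square -/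
theorem exists_sqL {X : Type*} [AddCommGroup X] [Module k X] {V : Type*} [AddCommGroup V] [Module k V]
    {σ : Representation k (SpecialLinearGroup (Fin 2) F) X} {ρ : Representation k (SpecialLinearGroup (Fin 2) F) V}
    (β : X →ₗ[k] X →ₗ[k] V) (hs : ∀ x y, β x y = β y x) (he : ∀ g x y, β (σ g x) (σ g y) = ρ g (β x y)) :
    ∃ T : ((X ⊗[k] X) ⧸ Alt k X) →ₗ[k] V, (∀ x y, T ((Alt k X).mkQ (x ⊗ₜ y)) = β x y) ∧
      (∀ g x, T (Sq σ g x) = ρ g (T x)) ∧ ∀ W : Submodule k V, (∀ x y, β x y ∈ W) → LinearMap.range T ≤ W := by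
  have hA : Alt k X ≤ LinearMap.ker (TensorProduct.lift β) := by
    unfold Alt
    refine Submodule.span_le.2 ?_
    rintro _ ⟨x, y, rfl⟩
    show TensorProduct.lift β (x ⊗ₜ y - y ⊗ₜ x) = 0
    rw [map_sub, TensorProduct.lift.tmul, TensorProduct.lift.tmul, hs x y, sub_self]
  let T : ((X ⊗[k] X) ⧸ Alt k X) →ₗ[k] V := (Alt k X).liftQ (TensorProduct.lift β) hA
  have hT : ∀ x y, T ((Alt k X).mkQ (x ⊗ₜ y)) = β x y := fun x y => TensorProduct.lift.tmul x y
  refine ⟨T, hT, ?_, ?_⟩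
  · intro g x
    obtain ⟨y, rfl⟩ := (Alt k X).mkQ_surjective x
    unfold Sq
    rw [quotRep_mk]
    induction y using TensorProduct.induction_on with
    | zero => rw [map_zero, map_zero, map_zero, map_zero]
    | tmul x y => rw [Representation.tprod_apply, TensorProduct.map_tmul, hT, hT, he]
    | add x y hx hy => rw [map_add, map_add, map_add, hx, hy, map_add, map_add, map_add]
  · rintro W hW _ ⟨x, rfl⟩
    obtain ⟨y, rfl⟩ := (Alt k X).mkQ_surjective x
    induction y using TensorProduct.induction_on with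
    | zero => rw [map_zero, map_zero]; exact W.zero_mem
    | tmul x y => rw [hT]; exact hW x y
    | add x y hx hy => rw [map_add, map_add]; exact W.add_mem hx hy

end Cfsg.Agent.R2.H28.SL2
end

-- part: R2/H8/NoFix/Rep
section
prune_inst 0x3404006202000018051040003c02ca000590000b800028800a480e802c0080030621b0900102008210c44838006811000000420000000a000400011b01800088400002000004060008000080410000000000000000000000000000000000004010000
set_option linter.all false
open scoped Cfsg.Agent.FastGrp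

-- part: R2/H8/NoFix/Shift
section
/-!
# S5749, S5750, box NOFIX: cyclic shifts of the digits (helper8)

* `cyc p a b` : the cyclic shift of the `a` digits of `b`; `dg_cyc`, `tyl_cyc`, `chB_cyc`;
* `map_iter_eq` : a multiset of labels whose character is invariant under `z ↦ z ^ (p ^ j)` is invariant under the shift by
  `j`;
* `dvd_of_inv` : in a multiset invariant under the shift by `j`, `a = j * n`, the number of labels of type `t` is such that
  `n ∣ t.length * count`.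
-/

set_option autoImplicit false
set_option linter.unusedSectionVars false

namespace Cfsg.Agent.R2.H8.NoFix.Shift

open Cfsg.Agent.R2.SL2 Cfsg.Agent.R2.H28.SL2
open Cfsg.Agent.H943.SL2Mod (mem_Bf Bf)

/-- the cyclic shift -/
def cyc (p a b : ℕ) : ℕ := p * (b % p ^ (a - 1)) + b / p ^ (a - 1)

section num

variable {p : ℕ} [hp : Fact p.Prime] {a : ℕ}

theorem top_lt (ha : 1 ≤ a) {b : ℕ} (hb : b < p ^ a) : b / p ^ (a - 1) < p := by
  rw [Nat.div_lt_iff_lt_mul (pow_pos hp.out.pos _), ← pow_succ', Nat.sub_add_cancel ha]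
  exact hb

theorem cyc_lt (ha : 1 ≤ a) {b : ℕ} (hb : b < p ^ a) : cyc p a b < p ^ a := by
  have h1 := top_lt ha hb
  have h2 : b % p ^ (a - 1) < p ^ (a - 1) := Nat.mod_lt _ (pow_pos hp.out.pos _)
  have h3 : p ^ a = p * p ^ (a - 1) := by rw [← pow_succ', Nat.sub_add_cancel ha]
  rw [cyc, h3]
  calc p * (b % p ^ (a - 1)) + b / p ^ (a - 1) < p * (b % p ^ (a - 1)) + p := by omega
    _ = p * (b % p ^ (a - 1) + 1) := by ring
    _ ≤ _ := Nat.mul_le_mul_left _ h2

/-- the digits of the shift -/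
theorem dg_cyc (ha : 1 ≤ a) {b : ℕ} (hb : b < p ^ a) {i : ℕ} (hi : i < a) :
    cyc p a b / p ^ ((i + 1) % a) % p = b / p ^ i % p := by
  have h1 := top_lt ha hb
  by_cases h : i + 1 = a
  · rw [h, Nat.mod_self, pow_zero, Nat.div_one, cyc, Nat.mul_add_mod, Nat.mod_eq_of_lt h1,
      show i = a - 1 by omega, Nat.mod_eq_of_lt h1]
  · rw [Nat.mod_eq_of_lt (show i + 1 < a by omega), pow_succ', ← Nat.div_div_eq_div_mul, cyc,
      Nat.mul_add_div hp.out.pos, Nat.div_eq_of_lt h1, add_zero]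
    obtain ⟨m, hm⟩ : ∃ m, a - 1 = i + 1 + m := ⟨a - 1 - (i + 1), by omega⟩
    rw [hm]
    have h2 : b % p ^ (i + 1 + m) / p ^ i = b / p ^ i % p ^ (1 + m) := by
      rw [add_assoc, pow_add, Nat.mod_mul_right_div_self]
    rw [h2, pow_add, pow_one, Nat.mod_mul_right_mod]

theorem typ_eq (n : ℕ) : ∀ {b : ℕ}, b < p ^ n →
    typ p b = ((Multiset.range n).map fun i => b / p ^ i % p).filter fun d => d ≠ 0 := by
  induction n with
  | zero =>
    intro b hb
    rw [pow_zero, Nat.lt_one_iff] at hb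
    rw [hb, typ_zero]
    rfl
  | succ n ih =>
    intro b hb
    have h1 : b / p < p ^ n := by
      rw [Nat.div_lt_iff_lt_mul hp.out.pos, ← pow_succ]
      exact hb
    have h2 : ((Multiset.range (n + 1)).map fun i => b / p ^ i % p) =
        (b % p) ::ₘ ((Multiset.range n).map fun i => b / p / p ^ i % p) := by
      have h3 : Multiset.range (n + 1) = 0 ::ₘ (Multiset.range n).map Nat.succ := by
        show ((List.range (n + 1) : List ℕ) : Multiset ℕ) = _
        rw [List.range_succ_eq_map]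
        rfl
      rw [h3, Multiset.map_cons, Multiset.map_map, pow_zero, Nat.div_one]
      congr 1
      refine Multiset.map_congr rfl fun i _ => ?_
      rw [Function.comp_apply, Nat.succ_eq_add_one, pow_succ', ← Nat.div_div_eq_div_mul]
    rw [h2]
    by_cases hb0 : b = 0
    · rw [hb0, typ_zero]
      symm
      rw [Multiset.filter_eq_nil]
      intro d hd
      rw [Multiset.mem_cons, Multiset.mem_map] at hd
      rcases hd with rfl | ⟨i, -, rfl⟩
      · simp
      · simp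
    · rw [typ_step hp.out.one_lt hb0, ih h1, Multiset.filter_cons]
      congr 1
      by_cases h4 : b % p = 0
      · rw [if_pos h4, if_neg (by simpa using h4)]
      · rw [if_neg h4, if_pos h4]

/-- the shift as a permutation of the positions -/
theorem map_succ_mod (ha : 1 ≤ a) : (Multiset.range a).map (fun i => (i + 1) % a) = Multiset.range a := by
  obtain ⟨n, rfl⟩ : ∃ n, a = n + 1 := ⟨a - 1, by omega⟩
  have h3 : Multiset.range (n + 1) = 0 ::ₘ (Multiset.range n).map Nat.succ := by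
    show ((List.range (n + 1) : List ℕ) : Multiset ℕ) = _
    rw [List.range_succ_eq_map]
    rfl
  conv_lhs => rw [Multiset.range_succ]
  rw [Multiset.map_cons, Nat.mod_self, h3]
  congr 1
  refine Multiset.map_congr rfl fun i hi => ?_
  rw [Multiset.mem_range] at hi
  exact Nat.mod_eq_of_lt (by omega)

theorem typ_cyc (ha : 1 ≤ a) {b : ℕ} (hb : b < p ^ a) : typ p (cyc p a b) = typ p b := by
  rw [typ_eq a (cyc_lt ha hb), typ_eq a hb]
  congr 1
  conv_lhs => rw [← map_succ_mod ha, Multiset.map_map]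
  refine Multiset.map_congr rfl fun i hi => ?_
  rw [Multiset.mem_range] at hi
  exact dg_cyc ha hb hi

theorem tyl_cyc (ha : 1 ≤ a) {b : ℕ} (hb : b < p ^ a) : tyl p (cyc p a b) = tyl p b := by
  unfold tyl
  rw [typ_cyc ha hb]

theorem length_tyl {b : ℕ} (hb : b < p ^ a) :
    (tyl p b).length = ((Finset.range a).filter fun i => b / p ^ i % p ≠ 0).card := by
  have h1 : (tyl p b).length = (typ p b).card := by rw [← coe_tyl, Multiset.coe_card]
  rw [h1, typ_eq a hb, Multiset.filter_map, Multiset.card_map]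
  rfl

end num

/-! ### characters -/

section chr

variable (k : Type*) [Field k] [DecidableEq k] (p : ℕ) [hp : Fact p.Prime] [CharP k p]

theorem chi_of_lt {n : ℕ} (hn : n < p) (z : ℂ) : chB k n z = chi n z := by
  have h := chB_mul k p 0 hn z
  rwa [mul_zero, zero_add, chB_zero, mul_one] at h

theorem chB_top (n : ℕ) : ∀ {c : ℕ}, c < p ^ n → ∀ (d : ℕ) (z : ℂ),
    chB k (c + p ^ n * d) z = chB k c z * chB k d (z ^ p ^ n) := by
  induction n with
  | zero =>
    intro c hc d z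
    rw [pow_zero, Nat.lt_one_iff] at hc
    rw [hc, chB_zero, pow_zero, one_mul, zero_add, one_mul, pow_one]
  | succ n ih =>
    intro c hc d z
    have h1 : c / p < p ^ n := by
      rw [Nat.div_lt_iff_lt_mul hp.out.pos, ← pow_succ]
      exact hc
    have h2 : c % p < p := Nat.mod_lt _ hp.out.pos
    have h3 : c + p ^ (n + 1) * d = p * (c / p + p ^ n * d) + c % p := by
      have := Nat.div_add_mod c p
      rw [pow_succ']
      calc c + p * p ^ n * d = p * (c / p) + c % p + p * p ^ n * d := by rw [this]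
        _ = _ := by ring
    have h4 : chB k c z = chi (c % p) z * chB k (c / p) (z ^ p) := by
      have := chB_mul k p (c / p) h2 z
      rwa [Nat.div_add_mod] at this
    rw [h3, chB_mul k p _ h2, ih h1, h4, ← pow_mul, ← pow_succ', mul_assoc]

theorem chB_cyc {a : ℕ} (ha : 1 ≤ a) {b : ℕ} (hb : b < p ^ a) {z : ℂ} (hz : Zs (p ^ a) z) :
    chB k (cyc p a b) z = chB k b (z ^ p) := by
  have h1 := top_lt ha hb
  have h2 : b % p ^ (a - 1) < p ^ (a - 1) := Nat.mod_lt _ (pow_pos hp.out.pos _)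
  have hq : 2 ≤ p ^ a := hp.out.two_le.trans (Nat.le_self_pow (by omega) p)
  have h3 := chB_top k p (a - 1) h2 (b / p ^ (a - 1)) (z ^ p)
  rw [Nat.mod_add_div] at h3
  rw [h3, cyc, chB_mul k p _ h1, chi_of_lt k p h1, ← pow_mul, ← pow_succ', Nat.sub_add_cancel ha, chi_frob hq hz,
    mul_comm]

theorem iter_lt {a : ℕ} (ha : 1 ≤ a) {b : ℕ} (hb : b < p ^ a) (j : ℕ) : (cyc p a)^[j] b < p ^ a := by
  induction j with
  | zero => exact hb
  | succ j ih =>
    rw [Function.iterate_succ_apply']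
    exact cyc_lt ha ih

theorem chB_iter {a : ℕ} (ha : 1 ≤ a) {b : ℕ} (hb : b < p ^ a) (j : ℕ) : ∀ {z : ℂ}, Zs (p ^ a) z →
    chB k ((cyc p a)^[j] b) z = chB k b (z ^ p ^ j) := by
  induction j with
  | zero =>
    intro z _
    rw [Function.iterate_zero_apply, pow_zero, pow_one]
  | succ j ih =>
    intro z hz
    rw [Function.iterate_succ_apply', chB_cyc k p ha (iter_lt p ha hb j) hz, ih (hz.pow p), ← pow_mul, ← pow_succ']

end chr

/-! ### double counting -/

section count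

variable {p : ℕ} [hp : Fact p.Prime] {a : ℕ}

/-- the number of labels satisfying `P` with a nonzero digit in position `i` -/
def cn' (p : ℕ) (P : ℕ → Prop) [DecidablePred P] (s : Multiset ℕ) (i : ℕ) : ℕ :=
  s.countP fun b => P b ∧ b / p ^ i % p ≠ 0

theorem cn_map (ha : 1 ≤ a) (P : ℕ → Prop) [DecidablePred P] (hP : ∀ b < p ^ a, P (cyc p a b) ↔ P b) {s : Multiset ℕ}
    (hs : ∀ b ∈ s, b < p ^ a) {i : ℕ} (hi : i < a) : cn' p P (s.map (cyc p a)) ((i + 1) % a) = cn' p P s i := by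
  unfold cn'
  rw [Multiset.countP_map, Multiset.countP_eq_card_filter]
  congr 1
  refine Multiset.filter_congr fun b hb => ?_
  rw [hP b (hs b hb), dg_cyc ha (hs b hb) hi]

theorem cn_iter (ha : 1 ≤ a) (P : ℕ → Prop) [DecidablePred P] (hP : ∀ b < p ^ a, P (cyc p a b) ↔ P b) (j : ℕ) :
    ∀ {s : Multiset ℕ}, (∀ b ∈ s, b < p ^ a) → ∀ {i : ℕ}, i < a →
      cn' p P (s.map (cyc p a)^[j]) ((i + j) % a) = cn' p P s i := by
  induction j with
  | zero =>
    intro s _ i hi
    rw [Function.iterate_zero, Multiset.map_id, add_zero, Nat.mod_eq_of_lt hi]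
  | succ j ih =>
    intro s hs i hi
    have h1 : s.map (cyc p a)^[j + 1] = (s.map (cyc p a)^[j]).map (cyc p a) := by
      rw [Multiset.map_map, Function.iterate_succ']
    have h2 : (i + (j + 1)) % a = ((i + j) % a + 1) % a := by rw [Nat.mod_add_mod, add_assoc]
    rw [h1, h2, cn_map ha P hP (fun b hb => by
      obtain ⟨c, hc, rfl⟩ := Multiset.mem_map.1 hb
      exact iter_lt p ha (hs c hc) j) (Nat.mod_lt _ (by omega)), ih hs hi]

theorem sum_periodic {f : ℕ → ℕ} {j : ℕ} (n : ℕ) (h : ∀ i, i + j < j * n → f (i + j) = f i) :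
    n ∣ ∑ i ∈ Finset.range (j * n), f i := by
  have h1 : ∀ m ≤ n, ∑ i ∈ Finset.range (j * m), f i = m * ∑ i ∈ Finset.range j, f i := by
    intro m
    induction m with
    | zero => intro _; simp
    | succ m ih =>
      intro hm
      have h2 : ∀ m' ≤ m, ∀ i < j, f (j * m' + i) = f i := by
        intro m'
        induction m' with
        | zero => intro _ i _; rw [mul_zero, zero_add]
        | succ m' ih' =>
          intro hm' i hi
          have h3 : j * (m' + 1) + i = j * m' + i + j := by ring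
          rw [h3, h, ih' (by omega) i hi]
          calc j * m' + i + j < j * m' + j + j := by omega
            _ = j * (m' + 2) := by ring
            _ ≤ j * n := Nat.mul_le_mul_left _ (by omega)
      rw [mul_add, mul_one, Finset.sum_range_add, ih (by omega), add_mul, one_mul]
      congr 1
      exact Finset.sum_congr rfl fun i hi => h2 m le_rfl i (Finset.mem_range.1 hi)
  rw [h1 n le_rfl]
  exact dvd_mul_right _ _

theorem sum_countP {ι : Type*} (S : Finset ι) (s : Multiset ℕ) (Q : ℕ → ι → Prop) [∀ b, DecidablePred (Q b)] :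
    ∑ i ∈ S, s.countP (fun b => Q b i) = (s.map fun b => (S.filter fun i => Q b i).card).sum := by
  induction s using Multiset.induction_on with
  | empty => simp
  | cons b s ih =>
    simp only [Multiset.countP_cons, Multiset.map_cons, Multiset.sum_cons]
    rw [Finset.sum_add_distrib, ih, Finset.card_filter, add_comm]

/-- **double counting** -/
theorem dvd_of_inv' {j n : ℕ} (ha : 1 ≤ a) (hj : a = j * n) {s : Multiset ℕ} (hs : ∀ b ∈ s, b < p ^ a)
    (h : s.map (cyc p a)^[j] = s) (P : ℕ → Prop) [DecidablePred P] (hP : ∀ b < p ^ a, P (cyc p a b) ↔ P b) :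
    n ∣ ∑ i ∈ Finset.range a, cn' p P s i := by
  rw [hj]
  refine sum_periodic n fun i hi => ?_
  have h1 := cn_iter ha P hP j hs (i := i) (by rw [hj]; omega)
  rwa [h, Nat.mod_eq_of_lt (by rw [hj]; exact hi)] at h1

/-- **the number of labels of a given type** -/
theorem dvd_of_inv {j n : ℕ} (ha : 1 ≤ a) (hj : a = j * n) {s : Multiset ℕ} (hs : ∀ b ∈ s, b < p ^ a)
    (h : s.map (cyc p a)^[j] = s) (t : List ℕ) : n ∣ t.length * (s.map (tyl p)).count t := by
  have h1 := dvd_of_inv' ha hj hs h (fun b => tyl p b = t) (fun b hb => by rw [tyl_cyc ha hb])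
  convert h1 using 1
  unfold cn'
  rw [sum_countP (Finset.range a) s fun b i => tyl p b = t ∧ b / p ^ i % p ≠ 0]
  have h2 : (s.map fun b => ((Finset.range a).filter fun i => tyl p b = t ∧ b / p ^ i % p ≠ 0).card) =
      s.map fun b => if tyl p b = t then t.length else 0 := by
    refine Multiset.map_congr rfl fun b hb => ?_
    split_ifs with h3
    · rw [← h3, length_tyl (hs b hb)]
      congr 1
      exact Finset.filter_congr fun i _ => by simp [h3]
    · rw [Finset.card_eq_zero, Finset.filter_eq_empty_iff]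
      intro i _ h4
      exact h3 h4.1
  rw [h2]
  clear h2 h1 h hs
  induction s using Multiset.induction_on with
  | empty => simp
  | cons b s ih =>
    rw [Multiset.map_cons, Multiset.map_cons, Multiset.sum_cons, ← ih, Multiset.count_cons]
    split_ifs with h3 h4 h4
    · ring
    · exact absurd h3.symm h4
    · exact absurd h4.symm h3
    · ring

end count

end Cfsg.Agent.R2.H8.NoFix.Shift
end

-- part: R2/H8/NoFix/Rep
section
/-!
# S5749, S5750, box NOFIX: twisting by field automorphisms and composition factors (helper8)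

* `isSS_cj`, `isSS_fld` : `IsSS` under conjugation and field automorphisms;
* `cs_twist`, `cf_twist` : if the eigenspaces satisfy `dim E(τ g, ν ^ p ^ n) = dim E(g, ν)`, `τ` the automorphism induced by
  `C ∈ GL₂(K)` and `σ = (x ↦ x ^ p ^ j)`, then the shifts of `cf ρ` by `j` and by `n` agree; `cf_shift` : the linear case;
* `le_count_zero` : the fixed vectors.
-/

set_option autoImplicit false
set_option linter.unusedSectionVars false

namespace Cfsg.Agent.R2.H8.NoFix.Rep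

open Matrix Cfsg.Agent.H943.SL2Rel Cfsg.Agent.H943.SL2Mod Cfsg.Agent.H943.RepAdd Cfsg.Agent.R2.H28.SL2
open Cfsg.Agent.H179.SLC (IsSS)
open Cfsg.Agent.ClassicalGeometry.AutPSL.Auto (cj fld coe_cj coe_fld_apply)
open Cfsg.Agent.R2.H8.NoFix.Shift

universe u v w

section ss

variable {k : Type u} [Field k] {K : Type w} [Field K] (ι : K →+* k)

theorem isSS_cj {g : SpecialLinearGroup (Fin 2) K} {ζ : k} (h : IsSS ι g ζ) (C : GL (Fin 2) K) : IsSS ι (cj C g) ζ := by
  obtain ⟨v₁, v₂, h1, h2, h3⟩ := h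
  have hm : (cj C g).1.map ι * C.1.map ι = C.1.map ι * g.1.map ι := by
    have e : (cj C g).1 = C.1 * g.1 * (C⁻¹ : GL (Fin 2) K).1 := rfl
    rw [← Matrix.map_mul, ← Matrix.map_mul, e, Matrix.mul_assoc, ← Units.val_mul, inv_mul_cancel, Units.val_one,
      Matrix.mul_one]
  have key : ∀ (v : Fin 2 → k) (c : k), (g.1.map ι).mulVec v = c • v →
      ((cj C g).1.map ι).mulVec ((C.1.map ι).mulVec v) = c • (C.1.map ι).mulVec v := by
    intro v c hv
    rw [Matrix.mulVec_mulVec, hm, ← Matrix.mulVec_mulVec, hv, Matrix.mulVec_smul]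
  refine ⟨(C.1.map ι).mulVec v₁, (C.1.map ι).mulVec v₂, key _ _ h1, key _ _ h2, ?_⟩
  have hdet : C.1 0 0 * C.1 1 1 - C.1 0 1 * C.1 1 0 ≠ 0 := by
    rw [← Matrix.det_fin_two]
    exact C.det_ne_zero
  have e : ((C.1.map ι).mulVec v₁) 0 * ((C.1.map ι).mulVec v₂) 1 - ((C.1.map ι).mulVec v₁) 1 * ((C.1.map ι).mulVec v₂) 0 =
      ι (C.1 0 0 * C.1 1 1 - C.1 0 1 * C.1 1 0) * (v₁ 0 * v₂ 1 - v₁ 1 * v₂ 0) := by
    simp only [Matrix.mulVec, dotProduct, Fin.sum_univ_two, Matrix.map_apply, map_sub, map_mul]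
    ring
  rw [e]
  exact mul_ne_zero (fun h0 => hdet (ι.injective (by rw [h0, map_zero]))) h3

theorem isSS_fld (p : ℕ) [Fact p.Prime] [CharP k p] {g : SpecialLinearGroup (Fin 2) K} {ζ : k} (h : IsSS ι g ζ)
    {σ : K ≃+* K} {j : ℕ} (hσ : ∀ x, σ x = x ^ p ^ j) : IsSS ι (fld σ g) (ζ ^ p ^ j) := by
  obtain ⟨v₁, v₂, h1, h2, h3⟩ := h
  have hfr : ∀ x : k, iterateFrobenius k p j x = x ^ p ^ j := fun x => rfl
  have hm : (fld σ g).1.map ι = (g.1.map ι).map (iterateFrobenius k p j) := by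
    ext a b
    rw [Matrix.map_apply, Matrix.map_apply, Matrix.map_apply, hfr, ← map_pow, ← hσ]
    rfl
  have key : ∀ (v : Fin 2 → k) (c : k), (g.1.map ι).mulVec v = c • v →
      ((fld σ g).1.map ι).mulVec (fun i => v i ^ p ^ j) = (c ^ p ^ j) • fun i => v i ^ p ^ j := by
    intro v c hv
    funext i
    have e1 := RingHom.map_mulVec (iterateFrobenius k p j) (g.1.map ι) v i
    rw [hv] at e1
    have e2 : (fun i => v i ^ p ^ j) = (iterateFrobenius k p j) ∘ v := rfl
    rw [hm, e2, ← e1, Pi.smul_apply, Pi.smul_apply, smul_eq_mul, smul_eq_mul, map_mul, hfr]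
    rfl
  refine ⟨fun i => v₁ i ^ p ^ j, fun i => v₂ i ^ p ^ j, key _ _ h1, ?_, ?_⟩
  · rw [← inv_pow]
    exact key _ _ h2
  · have e : v₁ 0 ^ p ^ j * v₂ 1 ^ p ^ j - v₁ 1 ^ p ^ j * v₂ 0 ^ p ^ j = (v₁ 0 * v₂ 1 - v₁ 1 * v₂ 0) ^ p ^ j := by
      rw [← hfr, ← hfr, ← hfr, ← hfr, ← hfr, map_sub, map_mul, map_mul]
    rw [e]
    exact pow_ne_zero _ h3

end ss

/-! ### reindexing -/

theorem pow_red {K : Type*} [Field K] {x : K} {N : ℕ} (hx : x ^ N = 1) (m i : ℕ) : (x ^ m) ^ i = x ^ (m * i % N) := by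
  rw [← pow_mul]
  conv_lhs => rw [← Nat.div_add_mod (m * i) N, pow_add, pow_mul, hx, one_pow, one_mul]

theorem sum_pow {k : Type*} [Field k] {ζ : k} {N : ℕ} (hζ : IsPrimitiveRoot ζ N) (hN : 0 < N) {z : ℂ} (hz : z ^ N = 1)
    {m : ℕ} (hm : Nat.Coprime m N) (f : k → ℂ) :
    ∑ i ∈ Finset.range N, f ((ζ ^ m) ^ i) * (z ^ m) ^ i = ∑ i ∈ Finset.range N, f (ζ ^ i) * z ^ i := by
  refine Finset.sum_nbij (fun i => m * i % N) ?_ ?_ ?_ ?_
  · intro i _
    exact Finset.mem_range.2 (Nat.mod_lt _ hN)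
  · intro i hi j hj hij
    rw [Finset.mem_coe, Finset.mem_range] at hi hj
    have h2 : m * i ≡ m * j [MOD N] := hij
    have h3 : i ≡ j [MOD N] := Nat.ModEq.cancel_left_of_coprime (by rw [Nat.gcd_comm]; exact hm) h2
    exact Nat.ModEq.eq_of_lt_of_lt h3 hi hj
  · apply Finset.surjOn_of_injOn_of_card_le
    · intro i _
      exact Finset.mem_coe.2 (Finset.mem_range.2 (Nat.mod_lt _ hN))
    · intro i hi j hj hij
      rw [Finset.mem_coe, Finset.mem_range] at hi hj
      have h2 : m * i ≡ m * j [MOD N] := hij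
      have h3 : i ≡ j [MOD N] := Nat.ModEq.cancel_left_of_coprime (by rw [Nat.gcd_comm]; exact hm) h2
      exact Nat.ModEq.eq_of_lt_of_lt h3 hi hj
    · exact le_rfl
  · intro i _
    rw [pow_red hζ.pow_eq_one, pow_red hz]

variable {k : Type u} [Field k] [DecidableEq k] {K : Type w} [Field K] [Fintype K] [DecidableEq K] (ι : K →+* k)
variable (p : ℕ) [Fact p.Prime] [CharP k p] [CharP K p]

theorem coprime_of_ne {N : ℕ} (hN : (N : k) ≠ 0) (j : ℕ) : Nat.Coprime (p ^ j) N := by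
  apply Nat.Coprime.pow_left
  rw [(Fact.out : p.Prime).coprime_iff_not_dvd]
  intro h
  exact hN ((CharP.cast_eq_zero_iff k p N).2 h)

theorem tor_twist {N : ℕ} {g : SpecialLinearGroup (Fin 2) K} {ζ : k} (T : Tor ι N g ζ) {C : GL (Fin 2) K} {σ : K ≃+* K}
    {j : ℕ} (hσ : ∀ x, σ x = x ^ p ^ j) : Tor ι N (cj C (fld σ g)) (ζ ^ p ^ j) :=
  ⟨isSS_cj ι (isSS_fld ι p T.ss hσ) C, T.prim.pow_of_coprime _ (coprime_of_ne p T.nz j), T.nz⟩

variable [IsAlgClosed k] {a : ℕ} (hF : Fintype.card K = p ^ a)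

include hF in
/-- **the character of a twist** -/
theorem cs_twist {W : Type v} [AddCommGroup W] [Module k W] [FiniteDimensional k W]
    (ρ : Representation k (SpecialLinearGroup (Fin 2) K) W) {C : GL (Fin 2) K} {σ : K ≃+* K} {j n : ℕ}
    (hσ : ∀ x, σ x = x ^ p ^ j)
    (h : ∀ g (ν : k), Module.finrank k (eig ρ (cj C (fld σ g)) (ν ^ p ^ n)) = Module.finrank k (eig ρ g ν))
    {z : ℂ} (hz : Zs (p ^ a) z) :
    cs k (cf (Sy.{u, v, w} ι p) ρ) (z ^ p ^ j) = cs k (cf (Sy.{u, v, w} ι p) ρ) (z ^ p ^ n) := by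
  obtain ⟨N, g, ζ, T, hz'⟩ := exists_tor ι p hF hz
  have hzp : ∀ m : ℕ, (z ^ m) ^ N = 1 := fun m => by rw [← pow_mul, mul_comm, pow_mul, hz', one_pow]
  rw [← bc_cf ι p hF ρ (tor_twist ι p T (C := C) hσ) (hzp _), ← bc_cf ι p hF ρ T (hzp _)]
  unfold bc
  rw [sum_pow T.prim T.pos hz' (coprime_of_ne p T.nz j)
    (fun ν => (Module.finrank k (eig ρ (cj C (fld σ g)) ν) : ℂ)),
    ← sum_pow T.prim T.pos hz' (coprime_of_ne p T.nz n)
    (fun ν => (Module.finrank k (eig ρ (cj C (fld σ g)) ν) : ℂ))]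
  refine Finset.sum_congr rfl fun i _ => ?_
  congr 2
  rw [← h g (ζ ^ i), ← pow_mul, ← pow_mul, mul_comm]

include hF in
/-- **the composition factors of a twist** -/
theorem cf_twist {W : Type v} [AddCommGroup W] [Module k W] [FiniteDimensional k W]
    (ρ : Representation k (SpecialLinearGroup (Fin 2) K) W) {C : GL (Fin 2) K} {σ : K ≃+* K} {j n : ℕ}
    (hσ : ∀ x, σ x = x ^ p ^ j)
    (h : ∀ g (ν : k), Module.finrank k (eig ρ (cj C (fld σ g)) (ν ^ p ^ n)) = Module.finrank k (eig ρ g ν)) :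
    (cf (Sy.{u, v, w} ι p) ρ).map (cyc p a)^[j] = (cf (Sy.{u, v, w} ι p) ρ).map (cyc p a)^[n] := by
  have ha := ha_pos p hF
  have hs := cf_lt.{u, v, w} ι p hF ρ
  refine cs_inj k p (two_le_q p hF) ?_ ?_ fun z hz => ?_
  · intro b hb
    obtain ⟨c, hc, rfl⟩ := Multiset.mem_map.1 hb
    exact iter_lt p ha (hs c hc) j
  · intro b hb
    obtain ⟨c, hc, rfl⟩ := Multiset.mem_map.1 hb
    exact iter_lt p ha (hs c hc) n
  · have e : ∀ m : ℕ, cs k ((cf (Sy.{u, v, w} ι p) ρ).map (cyc p a)^[m]) z =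
        cs k (cf (Sy.{u, v, w} ι p) ρ) (z ^ p ^ m) := by
      intro m
      unfold cs
      rw [Multiset.map_map]
      congr 1
      exact Multiset.map_congr rfl fun b hb => chB_iter k p ha (hs b hb) m hz
    rw [e, e]
    exact cs_twist ι p hF ρ hσ h hz

include hF in
/-- **the linear case** -/
theorem cf_shift {W : Type v} [AddCommGroup W] [Module k W] [FiniteDimensional k W]
    (ρ : Representation k (SpecialLinearGroup (Fin 2) K) W) {C : GL (Fin 2) K} {σ : K ≃+* K} {j : ℕ}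
    (hσ : ∀ x, σ x = x ^ p ^ j) (T : W ≃ₗ[k] W) (hT : ∀ g v, T (ρ g v) = ρ (cj C (fld σ g)) (T v)) :
    (cf (Sy.{u, v, w} ι p) ρ).map (cyc p a)^[j] = cf (Sy.{u, v, w} ι p) ρ := by
  have h1 := cf_twist.{u, v, w} ι p hF ρ (C := C) (n := 0) hσ fun g ν => by
    rw [pow_zero, pow_one]
    have e : eig ρ (cj C (fld σ g)) ν = (eig ρ g ν).map (T : W →ₗ[k] W) := by
      ext v
      rw [Submodule.mem_map, mem_eig]
      constructor
      · intro hv
        refine ⟨T.symm v, (mem_eig ρ).2 (T.injective ?_), T.apply_symm_apply v⟩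
        rw [hT, T.apply_symm_apply, hv, map_smul, T.apply_symm_apply]
      · rintro ⟨x, hx, rfl⟩
        rw [mem_eig] at hx
        show ρ (cj C (fld σ g)) (T x) = ν • T x
        rw [← hT, hx, map_smul]
    rw [e]
    exact (T.submoduleMap (eig ρ g ν)).finrank_eq.symm
  rwa [Function.iterate_zero, Multiset.map_id] at h1

include hF in
/-- **a trivial representation** -/
theorem cf_triv {W : Type v} [AddCommGroup W] [Module k W] [FiniteDimensional k W]
    (ρ : Representation k (SpecialLinearGroup (Fin 2) K) W) (h : ∀ g v, ρ g v = v) :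
    cf (Sy.{u, v, w} ι p) ρ = Multiset.replicate (Module.finrank k W) 0 := by
  refine cf_of_cs ι p hF (fun b hb => ?_) fun z hz => ?_
  · rw [Multiset.eq_of_mem_replicate hb]
    exact pow_pos (Fact.out : p.Prime).pos _
  · obtain ⟨N, g, ζ, T, hz'⟩ := exists_tor ι p hF hz
    rw [← bc_cf ι p hF ρ T hz']
    unfold bc
    rw [Finset.sum_eq_single 0]
    · have e : eig ρ g (ζ ^ 0) = ⊤ := by
        rw [eq_top_iff]
        intro v _
        rw [mem_eig, pow_zero, one_smul, h]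
      rw [e, finrank_top, pow_zero, mul_one]
      unfold cs
      rw [Multiset.map_replicate, Multiset.sum_replicate, chB_zero, nsmul_eq_mul, mul_one]
    · intro i hi hi0
      have e : eig ρ g (ζ ^ i) = ⊥ := by
        rw [eq_bot_iff]
        intro v hv
        rw [mem_eig, h] at hv
        have h1 : (1 - ζ ^ i) • v = 0 := by rw [sub_smul, one_smul, ← hv, sub_self]
        rw [smul_eq_zero] at h1
        rcases h1 with h1 | h1
        · exfalso
          have h2 : ζ ^ i = 1 := (sub_eq_zero.1 h1).symm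
          rw [T.prim.pow_eq_one_iff_dvd] at h2
          have h3 := Nat.le_of_dvd (Nat.pos_of_ne_zero hi0) h2
          rw [Finset.mem_range] at hi
          omega
        · exact h1
      rw [e, finrank_bot, Nat.cast_zero, zero_mul]
    · intro h0
      exact absurd (Finset.mem_range.2 T.pos) h0

include hF in
/-- **the fixed vectors** -/
theorem le_count_zero {W : Type v} [AddCommGroup W] [Module k W] [FiniteDimensional k W]
    (ρ : Representation k (SpecialLinearGroup (Fin 2) K) W) {X : Submodule k W} (hX : ∀ g, ∀ x ∈ X, ρ g x = x) :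
    Module.finrank k X ≤ (cf (Sy.{u, v, w} ι p) ρ).count 0 := by
  have hX' : ∀ g, ∀ x ∈ X, ρ g x ∈ X := fun g x hx => by rw [hX g x hx]; exact hx
  have h1 := cf_sub_le (Sy.{u, v, w} ι p) ρ X hX'
  rw [cf_triv.{u, v, w} ι p hF (subRep ρ X hX') (fun g x => Subtype.ext (hX g x x.2))] at h1
  have h2 := Multiset.count_le_of_le 0 h1
  rwa [Multiset.count_replicate_self] at h2

end Cfsg.Agent.R2.H8.NoFix.Rep
end

private theorem dce_09e91db95cbf : _root_.True := by
  try have : _root_.True := by simp only [_root_.Cfsg.Agent.R2.H8.NoFix.Shift.cyc.eq_1]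
  exact _root_.True.intro
end
end
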