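import Cfsg.Agent.R2.H28.SL2.Bas_m3
import Cfsg.Agent.R2.H22.P11_m3
import Cfsg.Agent.Prune
set_option linter.all false

section
prune_inst 0x7fffeffbbbeff9dfffff7e3fafdcfffdf7ab2fffa4dff9cb7fe0e9ff2bff7b90c9e56fad8feb31fe1ef6ca1410ec7b43fdffebbfea6bdc7ffffd5ff45ffbffbffdf7bd0951d78c340fbc2ff783f0778e6f3fffffffffffffffffffffffffffaeffbffbfeffff

-- part: R2/H28/SL2/L22
section
prune_inst 0x400000000000001805003000000000000422004308002160010008008060a900260108200010121098c10001000000440010000000000000000000040000000102028108a000000086000000000000000000000000000000000000000000000000000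
set_option linter.all false
open scoped Cfsg.Agent.FastGrp

-- part: R2/H28/SL2/Quad
section
/-!
# Maps out of tensor products (helper28)

* `soc_of_map` : the submodules of the image of a homomorphism have labels in the source (any universe);
* `quad_zero` : a bilinear map on `A ⊗ B` symmetrised in both variables gives a map on `S² A ⊗ S² B`.
-/

set_option autoImplicit false
set_option linter.unusedSectionVars false

namespace Cfsg.Agent.R2.H28.SL2

open Matrix Cfsg.Agent.H943.SL2Rel Cfsg.Agent.H943.SL2Mod Cfsg.Agent.H943.RepAdd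
open scoped TensorProduct

universe u v w x

variable {k : Type u} [Field k] [DecidableEq k] {F : Type w} [Field F] [Fintype F] [DecidableEq F] (ι : F →+* k)
variable (p : ℕ) [Fact p.Prime] [CharP k p] [CharP F p] [IsAlgClosed k]

/-- **maps out of a module** -/
theorem soc_of_map {M : Type x} [AddCommGroup M] [Module k M] [FiniteDimensional k M]
    (σ : Representation k (_root_.Matrix.SpecialLinearGroup (Fin 2) F) M) {V : Type v} [AddCommGroup V] [Module k V] [FiniteDimensional k V]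
    (ρ : Representation k (_root_.Matrix.SpecialLinearGroup (Fin 2) F) V) (f : M →ₗ[k] V) (hf : ∀ g x, f (σ g x) = ρ g (f x))
    {W : Submodule k V} (hW : ∀ g, ∀ x ∈ W, ρ g x ∈ W) (hW0 : W ≠ ⊥) (hWf : W ≤ LinearMap.range f) :
    ∃ c ∈ cf (Sy.{u, x, w} ι p) σ, InSoc ι p (subRep ρ W hW) c ∧ InSoc ι p ρ c := by
  have : Nontrivial W := Submodule.nontrivial_iff_ne_bot.2 hW0
  obtain ⟨c, Y, hY, hc⟩ := exists_inSoc ι p (subRep ρ W hW)
  refine ⟨c, ?_, ⟨Y, hY, hc⟩, (show InSoc ι p (subRep ρ W hW) c from ⟨Y, hY, hc⟩).iso ι p W.subtype (fun _ _ => rfl) W.injective_subtype⟩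
  -- the preimage of `Y`
  obtain ⟨hY', e, he⟩ := eqv_map (subRep ρ W hW) ρ W.subtype (fun _ _ => rfl) W.injective_subtype Y hY
  have hZW : (Y.map W.subtype) ≤ LinearMap.range f := le_trans (by rintro _ ⟨y, _, rfl⟩; exact y.2) hWf
  have hN : ∀ g, ∀ y ∈ (Y.map W.subtype).comap f, σ g y ∈ (Y.map W.subtype).comap f := by
    intro g y hy
    show f (σ g y) ∈ (Y.map W.subtype)
    rw [hf]
    exact hY' g _ hy
  let fN : (Y.map W.subtype).comap f →ₗ[k] (Y.map W.subtype) := f.restrict fun _ h => h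
  have hfN : ∀ x, (fN x : V) = f x := fun _ => rfl
  have hs : Function.Surjective fN := by
    rintro ⟨z, hz⟩
    obtain ⟨y, rfl⟩ := hZW hz
    exact ⟨⟨y, hz⟩, rfl⟩
  have hK : ∀ g, ∀ x ∈ LinearMap.ker fN, subRep σ ((Y.map W.subtype).comap f) hN g x ∈ LinearMap.ker fN := by
    intro g x hx
    rw [LinearMap.mem_ker] at hx ⊢
    apply Subtype.ext
    show f (σ g x) = 0
    rw [hf]
    have h1 : f (x : M) = 0 := congrArg Subtype.val hx
    rw [h1, map_zero]
  obtain ⟨e', he', -⟩ := quot_iso (subRep σ ((Y.map W.subtype).comap f) hN) (subRep ρ (Y.map W.subtype) hY') fN (fun g x => Subtype.ext (hf g x)) hs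
    (LinearMap.ker fN) hK fun x => LinearMap.mem_ker.symm
  have h1 : IsV ι p (subRep ρ (Y.map W.subtype) hY') c := IsV.iso ι p e he hc
  have h2 : IsV ι p (quotRep (subRep σ ((Y.map W.subtype).comap f) hN) (LinearMap.ker fN) hK) c :=
    IsV.iso ι p e'.symm (fun g x => by rw [LinearEquiv.symm_apply_eq, he', LinearEquiv.apply_symm_apply]) h1
  have h3 := cf_quot_le (Sy.{u, x, w} ι p) (subRep σ ((Y.map W.subtype).comap f) hN) (LinearMap.ker fN) hK
  rw [cf_irr (Sy.{u, x, w} ι p) h2] at h3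
  exact Multiset.mem_of_le (le_trans h3 (cf_sub_le (Sy.{u, x, w} ι p) σ ((Y.map W.subtype).comap f) hN)) (Multiset.mem_singleton_self c)

/-- maps without common factors vanish -/
theorem map_eq_zero {M : Type x} [AddCommGroup M] [Module k M] [FiniteDimensional k M]
    (σ : Representation k (_root_.Matrix.SpecialLinearGroup (Fin 2) F) M) {V : Type v} [AddCommGroup V] [Module k V] [FiniteDimensional k V]
    (ρ : Representation k (_root_.Matrix.SpecialLinearGroup (Fin 2) F) V) (f : M →ₗ[k] V) (hf : ∀ g x, f (σ g x) = ρ g (f x))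
    (h : ∀ c ∈ cf (Sy.{u, x, w} ι p) σ, ¬ InSoc ι p ρ c) : f = 0 := by
  by_contra h0
  have hr : ∀ g, ∀ x ∈ LinearMap.range f, ρ g x ∈ LinearMap.range f := by
    rintro g _ ⟨x, rfl⟩
    exact ⟨_, hf g x⟩
  obtain ⟨c, hc1, -, hc2⟩ := soc_of_map ι p σ ρ f hf hr (fun h1 => h0 (LinearMap.range_eq_bot.1 h1)) le_rfl
  exact h c hc1 hc2

section Polar

variable {A : Type x} [AddCommGroup A] [Module k A] [FiniteDimensional k A] {B : Type x} [AddCommGroup B] [Module k B]
  [FiniteDimensional k B] (σ : Representation k (_root_.Matrix.SpecialLinearGroup (Fin 2) F) A)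
  (τ : Representation k (_root_.Matrix.SpecialLinearGroup (Fin 2) F) B) {V : Type v} [AddCommGroup V] [Module k V] [FiniteDimensional k V]
  (ρ : Representation k (_root_.Matrix.SpecialLinearGroup (Fin 2) F) V)

/-- **symmetrised maps** -/
theorem quad_zero (β : A ⊗[k] B →ₗ[k] A ⊗[k] B →ₗ[k] V) (hs : ∀ x y, β x y = β y x)
    (he : ∀ g x y, β (σ.tprod τ g x) (σ.tprod τ g y) = ρ g (β x y))
    (h : ∀ c ∈ cf (Sy.{u, x, w} ι p) ((Sq σ).tprod (Sq τ)), ¬ InSoc ι p ρ c) (a a' : A) (b b' : B) :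
    β (a ⊗ₜ b) (a' ⊗ₜ b') + β (a ⊗ₜ b') (a' ⊗ₜ b) = 0 := by
  let G : (A ⊗[k] A) ⊗[k] (B ⊗[k] B) →ₗ[k] V :=
    TensorProduct.lift β ∘ₗ (TensorProduct.tensorTensorTensorComm k A A B B : _ →ₗ[k] _)
  have hG : ∀ a a' b b', G ((a ⊗ₜ a') ⊗ₜ (b ⊗ₜ b')) = β (a ⊗ₜ b) (a' ⊗ₜ b') := fun a a' b b' => rfl
  let G' : (A ⊗[k] A) ⊗[k] (B ⊗[k] B) →ₗ[k] V := G ∘ₗ
    TensorProduct.map LinearMap.id (TensorProduct.comm k B B : B ⊗[k] B →ₗ[k] B ⊗[k] B)
  have hG' : ∀ a a' b b', G' ((a ⊗ₜ a') ⊗ₜ (b ⊗ₜ b')) = β (a ⊗ₜ b') (a' ⊗ₜ b) := fun a a' b b' => rfl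
  let H1 : (A ⊗[k] A) →ₗ[k] (B ⊗[k] B) →ₗ[k] V := TensorProduct.curry (G + G')
  have hH1 : ∀ a a' b b', H1 (a ⊗ₜ a') (b ⊗ₜ b') = β (a ⊗ₜ b) (a' ⊗ₜ b') + β (a ⊗ₜ b') (a' ⊗ₜ b) := fun a a' b b' => rfl
  have hA : Alt k A ≤ LinearMap.ker H1 := by
    unfold Alt
    refine Submodule.span_le.2 ?_
    rintro _ ⟨x, y, rfl⟩
    show H1 (x ⊗ₜ y - y ⊗ₜ x) = 0
    refine TensorProduct.ext' fun b b' => ?_
    rw [map_sub, LinearMap.sub_apply, hH1, hH1, hs (y ⊗ₜ b), hs (y ⊗ₜ b'), LinearMap.zero_apply]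
    abel
  let H2 : ((A ⊗[k] A) ⧸ Alt k A) →ₗ[k] (B ⊗[k] B) →ₗ[k] V := (Alt k A).liftQ H1 hA
  have hH2 : ∀ a a' b b', H2 ((Alt k A).mkQ (a ⊗ₜ a')) (b ⊗ₜ b') = β (a ⊗ₜ b) (a' ⊗ₜ b') + β (a ⊗ₜ b') (a' ⊗ₜ b) :=
    fun a a' b b' => rfl
  have hB : Alt k B ≤ LinearMap.ker H2.flip := by
    unfold Alt
    refine Submodule.span_le.2 ?_
    rintro _ ⟨x, y, rfl⟩
    show H2.flip (x ⊗ₜ y - y ⊗ₜ x) = 0
    refine LinearMap.ext fun z => ?_
    obtain ⟨z, rfl⟩ := (Alt k A).mkQ_surjective z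
    rw [LinearMap.flip_apply, LinearMap.zero_apply]
    induction z using TensorProduct.induction_on with
    | zero => rw [map_zero, map_zero, LinearMap.zero_apply]
    | tmul a a' =>
      rw [map_sub, hH2, hH2]
      abel
    | add z z' hz hz' => rw [map_add, map_add, LinearMap.add_apply, hz, hz', add_zero]
  let H3 : ((B ⊗[k] B) ⧸ Alt k B) →ₗ[k] ((A ⊗[k] A) ⧸ Alt k A) →ₗ[k] V := (Alt k B).liftQ H2.flip hB
  let Ψ : ((A ⊗[k] A) ⧸ Alt k A) ⊗[k] ((B ⊗[k] B) ⧸ Alt k B) →ₗ[k] V := TensorProduct.lift H3.flip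
  have hΨ : ∀ a a' b b', Ψ (((Alt k A).mkQ (a ⊗ₜ a')) ⊗ₜ ((Alt k B).mkQ (b ⊗ₜ b'))) =
      β (a ⊗ₜ b) (a' ⊗ₜ b') + β (a ⊗ₜ b') (a' ⊗ₜ b) := fun a a' b b' => by
    show TensorProduct.lift H3.flip _ = _
    rw [TensorProduct.lift.tmul]
    rfl
  have hΨe : ∀ g z, Ψ ((Sq σ).tprod (Sq τ) g z) = ρ g (Ψ z) := by
    intro g z
    induction z using TensorProduct.induction_on with
    | zero => rw [map_zero, map_zero, map_zero]
    | tmul y z =>
      obtain ⟨y, rfl⟩ := (Alt k A).mkQ_surjective y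
      obtain ⟨z, rfl⟩ := (Alt k B).mkQ_surjective z
      rw [Representation.tprod_apply, TensorProduct.map_tmul]
      unfold Sq
      rw [quotRep_mk, quotRep_mk]
      induction y using TensorProduct.induction_on with
      | zero => rw [map_zero, map_zero, TensorProduct.zero_tmul, map_zero, TensorProduct.zero_tmul, map_zero, map_zero]
      | tmul a a' =>
        induction z using TensorProduct.induction_on with
        | zero => rw [map_zero, map_zero, TensorProduct.tmul_zero, map_zero, TensorProduct.tmul_zero, map_zero, map_zero]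
        | tmul b b' =>
          rw [Representation.tprod_apply, Representation.tprod_apply, TensorProduct.map_tmul, TensorProduct.map_tmul, hΨ, hΨ,
            map_add, ← he, ← he]
          rfl
        | add z z' hz hz' =>
          rw [map_add, map_add, TensorProduct.tmul_add, map_add, hz, hz', map_add, TensorProduct.tmul_add, map_add, map_add]
      | add y y' hy hy' =>
        rw [map_add, map_add, TensorProduct.add_tmul, map_add, hy, hy', map_add, TensorProduct.add_tmul, map_add, map_add]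
    | add y z hy hz => rw [map_add, map_add, map_add, map_add, hy, hz]
  have hΨ0 := map_eq_zero ι p _ ρ Ψ hΨe h
  rw [← hΨ a a' b b', hΨ0, LinearMap.zero_apply]

end Polar

end Cfsg.Agent.R2.H28.SL2
end

-- part: R2/H28/SL2/L22
section
/-!
# L22 (helper28)

`Fra.l22` : a submodule `V_{2 p^i + 2 p^j}` has a complement if `V_{4 p^i}`, `V_{4 p^j}` are not submodules of `V'`.
-/

set_option autoImplicit false
set_option linter.unusedSectionVars false

namespace Cfsg.Agent.R2.H28.SL2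

open Matrix Cfsg.Agent.H943.SL2Rel Cfsg.Agent.H943.SL2Mod Cfsg.Agent.H943.RepAdd
open Cfsg.Lie
open Cfsg.Agent.ChevalleyStructure Cfsg.Agent.ChevalleyStructure.E6Form.Cubic
  Cfsg.Agent.ChevalleyStructure.E6Form.Table
open Cfsg.Agent.ChevalleyStructure.E6Min.Basic (Zgrp)
open Cfsg.Agent.H952.F4 (sh cr tf)
open Cfsg.Agent.H952.F4.Jord
open Cfsg.Agent.H163.E6 (V V')
open Cfsg.Agent.H163.E6.Act
open Cfsg.Agent.R2.GEO (Pair crB crB_apply tfB tfB_apply)
open scoped TensorProduct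

universe u v w

section Core

variable {k : Type u} [Field k]

theorem crz_left (y : I27 → k) : cr 0 y = 0 := by
  have h := cr_smul_left (0 : k) 0 y
  rwa [zero_smul, zero_smul] at h

theorem crz_right (y : I27 → k) : cr y 0 = 0 := by rw [cr_comm, crz_left]

/-- `sh (cr x y) = 0` for `x, y, x + y` in a space on which `sh ∘ sh` vanishes and `sh x = sh y = 0` -/
theorem core_cr (h2 : (2 : k) ≠ 0) {x y z : I27 → k} (hx : sh x = 0) (hy : sh y = 0) (hz : sh z = 0)
    (hxz : sh (sh (x + z)) = 0) (hyz : sh (sh (y + z)) = 0) (hxy : sh (sh (x + y)) = 0)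
    (h3 : sh (sh (x + y + z)) = 0) (h3' : sh (sh (x + y + (-1 : k) • z)) = 0) : cr (cr x z) (cr y z) = 0 := by
  have e : ∀ x y : I27 → k, sh x = 0 → sh y = 0 → sh (x + y) = cr x y := by
    intro x y hx hy
    unfold cr
    rw [hx, hy, sub_zero, sub_zero]
  have hadd : ∀ x y : I27 → k, sh (x + y) = sh x + sh y + cr x y := by
    intro x y
    unfold cr
    abel
  rw [e x z hx hz] at hxz
  rw [e y z hy hz] at hyz
  rw [e x y hx hy] at hxy
  have f1 : sh (x + y + z) = cr x y + cr x z + cr y z := by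
    rw [hadd (x + y) z, hz, e x y hx hy, cr_add_left]
    abel
  have f2 : sh (x + y + (-1 : k) • z) = cr x y + (-1 : k) • cr x z + (-1 : k) • cr y z := by
    rw [hadd (x + y), sh_smul, hz, smul_zero, e x y hx hy, cr_smul_right, cr_add_left, smul_add]
    abel
  have g : ∀ x y z : I27 → k, sh x = 0 → sh y = 0 → sh z = 0 → sh (x + y + z) = cr x y + cr x z + cr y z := by
    intro x y z hx hy hz
    rw [hadd (x + y) z, hz, e x y hx hy, cr_add_left]
    abel
  rw [f1, g _ _ _ hxy hxz hyz] at h3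
  rw [f2, g _ _ _ hxy (by rw [sh_smul, hxz, smul_zero]) (by rw [sh_smul, hyz, smul_zero]), cr_smul_right, cr_smul_right,
    cr_smul_left, cr_smul_right, smul_smul] at h3'
  have h4 : (2 : k) • cr (cr x z) (cr y z) = 0 := by
    have h5 : (cr (cr x y) (cr x z) + cr (cr x y) (cr y z) + cr (cr x z) (cr y z)) +
      ((-1 : k) • cr (cr x y) (cr x z) + (-1 : k) • cr (cr x y) (cr y z) + ((-1 : k) * -1) • cr (cr x z) (cr y z)) = 0 := by
      rw [h3, h3', add_zero]
    rw [← h5]
    module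
  exact (smul_eq_zero.1 h4).resolve_left h2

variable (v : Fin 3 → Fin 3 → (I27 → k))

/-- the nine products -/
def yy (m n : Fin 3) : I27 → k := cr (v (m + 1) (n + 1)) (v (m + 2) (n + 2))

/-- the space of the products -/
def Iy : Submodule k (I27 → k) := Submodule.span k (Set.range fun x : Fin 3 × Fin 3 => yy v x.1 x.2)

theorem finrank_Iy : Module.finrank k (Iy v) ≤ 9 := by
  have h := finrank_range_le_card (R := k) (fun x : Fin 3 × Fin 3 => yy v x.1 x.2)
  rw [Fintype.card_prod, Fintype.card_fin] at h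
  exact h

variable {v} (h2 : (2 : k) ≠ 0) (hc : ∀ s s' t t', cr (v s t) (v s' t') + cr (v s t') (v s' t) = 0)

include hc in
theorem alt_right (s s' t t' : Fin 3) : cr (v s t') (v s' t) = -cr (v s t) (v s' t') :=
  (eq_neg_of_add_eq_zero_right (hc s s' t t'))

include hc in
theorem alt_left (s s' t t' : Fin 3) : cr (v s' t) (v s t') = -cr (v s t) (v s' t') := by
  rw [cr_comm, alt_right hc s s' t t']

include h2 hc in
theorem alt_zero_right (s s' t : Fin 3) : cr (v s t) (v s' t) = 0 := by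
  have h := hc s s' t t
  rw [← two_smul k] at h
  exact (smul_eq_zero.1 h).resolve_left h2

include h2 hc in
theorem alt_zero_left (s t t' : Fin 3) : cr (v s t) (v s t') = 0 := by
  have h := hc s s t t'
  rw [cr_comm (v s t') (v s t), ← two_smul k] at h
  exact (smul_eq_zero.1 h).resolve_left h2

include h2 hc in
theorem sh_v (s t : Fin 3) : sh (v s t) = 0 := by
  have h := alt_zero_left h2 hc s t t
  rw [cr_self] at h
  exact (smul_eq_zero.1 h).resolve_left h2

include h2 hc in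
theorem cr_mem_Iy (s s' t t' : Fin 3) : cr (v s t) (v s' t') ∈ Iy v := by
  have hy : ∀ m n, yy v m n ∈ Iy v := fun m n => Submodule.subset_span ⟨(m, n), rfl⟩
  have h3 : ∀ s s' : Fin 3, s = s' ∨ (∃ m, s = m + 1 ∧ s' = m + 2) ∨ ∃ m, s' = m + 1 ∧ s = m + 2 := by decide
  rcases h3 s s' with rfl | ⟨m, rfl, rfl⟩ | ⟨m, rfl, rfl⟩
  · rw [alt_zero_left h2 hc]
    exact Submodule.zero_mem _
  · rcases h3 t t' with rfl | ⟨n, rfl, rfl⟩ | ⟨n, rfl, rfl⟩
    · rw [alt_zero_right h2 hc]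
      exact Submodule.zero_mem _
    · exact hy m n
    · rw [alt_right hc]
      exact Submodule.neg_mem _ (hy m n)
  · rcases h3 t t' with rfl | ⟨n, rfl, rfl⟩ | ⟨n, rfl, rfl⟩
    · rw [alt_zero_right h2 hc]
      exact Submodule.zero_mem _
    · rw [alt_left hc]
      exact Submodule.neg_mem _ (hy m n)
    · rw [cr_comm]
      exact hy m n

/-- the space spanned by the `v s t` -/
def Xv (v : Fin 3 → Fin 3 → (I27 → k)) : Submodule k (I27 → k) :=
  Submodule.span k (Set.range fun x : Fin 3 × Fin 3 => v x.1 x.2)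

include h2 hc in
theorem cr_Xv {x y : I27 → k} (hx : x ∈ Xv v) (hy : y ∈ Xv v) : cr x y ∈ Iy v := by
  unfold Xv at hx hy
  induction hx using Submodule.span_induction with
  | mem x hx =>
    obtain ⟨⟨s, t⟩, rfl⟩ := hx
    induction hy using Submodule.span_induction with
    | mem y hy =>
      obtain ⟨⟨s', t'⟩, rfl⟩ := hy
      exact cr_mem_Iy h2 hc s s' t t'
    | zero =>
      rw [crz_right]
      exact Submodule.zero_mem _
    | add y y' _ _ h h' =>
      rw [cr_add_right]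
      exact Submodule.add_mem _ h h'
    | smul c y _ h =>
      rw [cr_smul_right]
      exact Submodule.smul_mem _ _ h
  | zero =>
    rw [crz_left]
    exact Submodule.zero_mem _
  | add x x' _ _ h h' =>
    rw [cr_add_left]
    exact Submodule.add_mem _ h h'
  | smul c x _ h =>
    rw [cr_smul_left]
    exact Submodule.smul_mem _ _ h

include h2 hc in
theorem core_yy (hss : ∀ x ∈ Xv v, sh (sh x) = 0) (m n m' n' : Fin 3) : cr (yy v m n) (yy v m' n') = 0 := by
  have hv : ∀ s t, v s t ∈ Xv v := fun s t => Submodule.subset_span ⟨(s, t), rfl⟩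
  have key : ∀ r q r' q' s t, cr (cr (v r q) (v s t)) (cr (v r' q') (v s t)) = 0 := fun r q r' q' s t =>
    core_cr h2 (sh_v h2 hc r q) (sh_v h2 hc r' q') (sh_v h2 hc s t) (hss _ (Submodule.add_mem _ (hv _ _) (hv _ _)))
      (hss _ (Submodule.add_mem _ (hv _ _) (hv _ _))) (hss _ (Submodule.add_mem _ (hv _ _) (hv _ _)))
      (hss _ (Submodule.add_mem _ (Submodule.add_mem _ (hv _ _) (hv _ _)) (hv _ _)))
      (hss _ (Submodule.add_mem _ (Submodule.add_mem _ (hv _ _) (hv _ _)) (Submodule.smul_mem _ _ (hv _ _))))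
  -- common vectors
  have hcom : ∀ m m' : Fin 3, ∃ r r' s : Fin 3, ((m + 1 = r ∧ m + 2 = s) ∨ (m + 1 = s ∧ m + 2 = r)) ∧
      ((m' + 1 = r' ∧ m' + 2 = s) ∨ (m' + 1 = s ∧ m' + 2 = r')) := by decide +kernel
  obtain ⟨r, r', s, h3, h4⟩ := hcom m m'
  obtain ⟨q, q', t, h5, h6⟩ := hcom n n'
  have e : ∀ {m n r s q t : Fin 3}, ((m + 1 = r ∧ m + 2 = s) ∨ (m + 1 = s ∧ m + 2 = r)) →
      ((n + 1 = q ∧ n + 2 = t) ∨ (n + 1 = t ∧ n + 2 = q)) → ∃ c : k, yy v m n = c • cr (v r q) (v s t) := by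
    intro m n r s q t h h'
    unfold yy
    rcases h with ⟨h, h1⟩ | ⟨h, h1⟩ <;> rcases h' with ⟨h', h1'⟩ | ⟨h', h1'⟩ <;> rw [h, h1, h', h1']
    · exact ⟨1, (one_smul _ _).symm⟩
    · exact ⟨-1, by rw [alt_right hc, neg_one_smul]⟩
    · exact ⟨-1, by rw [alt_left hc, neg_one_smul]⟩
    · exact ⟨1, by rw [cr_comm, one_smul]⟩
  obtain ⟨c, hc1⟩ := e h3 h5
  obtain ⟨c', hc2⟩ := e h4 h6
  rw [hc1, hc2, cr_smul_left, cr_smul_right, key, smul_zero, smul_zero]

include h2 hc in
theorem sh_Iy (hss : ∀ x ∈ Xv v, sh (sh x) = 0) : ∀ y ∈ Iy v, sh y = 0 := by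
  intro y hy
  have h3 : ∀ y ∈ Iy v, ∀ z ∈ Iy v, cr y z = 0 := by
    intro y hy z hz
    unfold Iy at hy hz
    induction hy using Submodule.span_induction with
    | mem y hy =>
      obtain ⟨⟨m, n⟩, rfl⟩ := hy
      induction hz using Submodule.span_induction with
      | mem z hz =>
        obtain ⟨⟨m', n'⟩, rfl⟩ := hz
        exact core_yy h2 hc hss m n m' n'
      | zero => rw [crz_right]
      | add y y' _ _ h h' => rw [cr_add_right, h, h', add_zero]
      | smul c y _ h => rw [cr_smul_right, h, smul_zero]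
    | zero => rw [crz_left]
    | add x x' _ _ h h' => rw [cr_add_left, h, h', add_zero]
    | smul c x _ h => rw [cr_smul_left, h, smul_zero]
  have h4 := h3 y hy y hy
  rw [cr_self] at h4
  exact (smul_eq_zero.1 h4).resolve_left h2

end Core

variable {k : Type u} [Field k] [DecidableEq k] [IsAlgClosed k] {K : Type w} [Field K] [Fintype K] [DecidableEq K]
  (ι : K →+* k) {p a : ℕ} [Fact p.Prime] [CharP k p] [CharP K p]
  {ψ : _root_.Matrix.SpecialLinearGroup (Fin 2) K →* ↥(Zgrp k)} {ρ ρ' : Representation k ↥(Zgrp k) (I27 → k)}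

theorem two_ne (hp2 : p ≠ 2) : (2 : k) ≠ 0 := by
  have hp : p.Prime := Fact.out
  intro h0
  have h1 : ((2 : ℕ) : k) = 0 := by exact_mod_cast h0
  rw [CharP.cast_eq_zero_iff k p] at h1
  exact hp2 ((Nat.prime_dvd_prime_iff_eq hp Nat.prime_two).1 h1)

theorem three_ne (hp3 : p ≠ 3) : (3 : k) ≠ 0 := by
  have hp : p.Prime := Fact.out
  intro h0
  have h1 : ((3 : ℕ) : k) = 0 := by exact_mod_cast h0
  rw [CharP.cast_eq_zero_iff k p] at h1
  exact hp3 ((Nat.prime_dvd_prime_iff_eq hp Nat.prime_three).1 h1)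

variable (hF : Fintype.card K = p ^ a)

include hF in
/-- the dimension of `V_{n p^i}` -/
theorem IsV.dim_single {X : Type*} [AddCommGroup X] [Module k X] {σ : Representation k (_root_.Matrix.SpecialLinearGroup (Fin 2) K) X}
    {n i : ℕ} (hn : n < p) (h : IsV ι p σ (n * p ^ i)) : Module.finrank k X = n + 1 := by
  obtain ⟨x, hx⟩ := h.basS ι p hn
  rw [Module.finrank_eq_card_basis (Module.Basis.mk hx.li hx.sp), Fintype.card_fin]

include hF in
/-- the dimension of `V_{n p^i + m p^j}` -/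
theorem IsV.dim_pair {X : Type*} [AddCommGroup X] [Module k X] {σ : Representation k (_root_.Matrix.SpecialLinearGroup (Fin 2) K) X}
    {n i m j : ℕ} (hn : n < p) (hm : m < p) (hij : i ≠ j) (hi : i < a) (hj : j < a)
    (h : IsV ι p σ (n * p ^ i + m * p ^ j)) : Module.finrank k X = (n + 1) * (m + 1) := by
  obtain ⟨x, hx⟩ := h.basP ι p hF hn hm hij hi hj
  rw [Module.finrank_eq_card_basis (Module.Basis.mk hx.li hx.sp), Fintype.card_prod, Fintype.card_fin, Fintype.card_fin]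

include hF in
/-- the factors of `S² V_{2p^i} ⊗ S² V_{2p^j}` -/
theorem cf_sqsq {A : Type v} [AddCommGroup A] [Module k A] [FiniteDimensional k A] {B : Type v} [AddCommGroup B] [Module k B]
    [FiniteDimensional k B] {σ : Representation k (_root_.Matrix.SpecialLinearGroup (Fin 2) K) A}
    {τ : Representation k (_root_.Matrix.SpecialLinearGroup (Fin 2) K) B} (hp4 : 4 < p) {i j : ℕ} (hij : i ≠ j) (hi : i < a) (hj : j < a)
    (hA : IsV ι p σ (2 * p ^ i)) (hB : IsV ι p τ (2 * p ^ j)) :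
    cf (Sy.{u, v, w} ι p) ((Sq σ).tprod (Sq τ)) = {4 * p ^ i + 4 * p ^ j, 4 * p ^ i, 4 * p ^ j, 0} := by
  have hp : p.Prime := Fact.out
  refine cf_of_cs ι p hF ?_ fun z hz => ?_
  · intro b hb
    simp only [Multiset.insert_eq_cons, Multiset.mem_cons, Multiset.mem_singleton] at hb
    rcases hb with rfl | rfl | rfl | rfl
    · exact pair_lt p hp4 hp4 hij hi hj
    · exact single_lt p hp4 hi
    · exact single_lt p hp4 hj
    · exact Nat.pow_pos hp.pos
  · have hz0 := hz.ne_zero (two_le_q p hF)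
    have hi0 := pow_ne_zero (p ^ i) hz0
    have hj0 := pow_ne_zero (p ^ j) hz0
    rw [cs_tens ι p hF _ _ hz, cs_sq_single ι p hF (by omega) hA hz, cs_sq_single ι p hF (by omega) hB hz, s2_two hi0,
      s2_two hj0, Multiset.insert_eq_cons, Multiset.insert_eq_cons, Multiset.insert_eq_cons, cs_cons, cs_cons, cs_cons,
      cs_singleton, chB_pair k p hp4 hp4 hij, chB_single k p hp4, chB_single k p hp4, chB_zero]
    ring

/-- **L22**, with the cubic form -/
theorem Fra.l22n (f : Fra p a ψ ρ ρ') (hp4 : 4 < p) {i j : ℕ} (hij : i ≠ j) (hi : i < a) (hj : j < a)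
    (X : Submodule k (I27 → k)) (hX : ∀ g, ∀ x ∈ X, Rr ρ ψ g x ∈ X)
    (hb : IsV ι p (subRep (Rr ρ ψ) X hX) (2 * p ^ i + 2 * p ^ j))
    (h4i : ¬ InSoc ι p (Rr ρ' ψ) (4 * p ^ i)) (h4j : ¬ InSoc ι p (Rr ρ' ψ) (4 * p ^ j)) :
    (∃ (M : Submodule k (I27 → k)) (_ : ∀ g, ∀ x ∈ M, Rr ρ ψ g x ∈ M), IsCompl X M) ∧ ∃ x ∈ X, cubicT x ≠ 0 := by
  have h2 : (2 : k) ≠ 0 := two_ne f.odd
  have h3 : (3 : k) ≠ 0 := three_ne (p := p) (by omega)
  have hXs : InSoc ι p (Rr ρ ψ) (2 * p ^ i + 2 * p ^ j) := ⟨X, hX, hb⟩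
  have hdX := hb.dim_pair ι f.card (by omega) (by omega) hij hi hj
  -- `V_{4p^i + 4p^j}` is too large
  have h44 : ¬ InSoc ι p (Rr ρ' ψ) (4 * p ^ i + 4 * p ^ j) := by
    rintro ⟨Y, hY, hc⟩
    have h5 := hc.dim_pair ι f.card (by omega) (by omega) hij hi hj
    have h6 : InSoc ι p (Rr ρ' ψ) (4 * p ^ i + 4 * p ^ j) := ⟨Y, hY, hc⟩
    have h7 := h6.mem_cf
    have h8 := hXs.mem_cf
    rw [← f.cf_eq ι] at h8
    have h9 := finrank_cf ι p _ _ (Rr ρ' ψ) le_rfl
    obtain ⟨s, hs⟩ := Multiset.exists_cons_of_mem h7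
    have h10 : 2 * p ^ i + 2 * p ^ j ∈ s := by
      rw [hs] at h8
      refine (Multiset.mem_cons.1 h8).resolve_left ?_
      have := Nat.pow_pos (n := i) (show 0 < p by omega)
      omega
    obtain ⟨t, ht⟩ := Multiset.exists_cons_of_mem h10
    have h11 : Module.finrank k (I27 → k) = 27 := by
      rw [Module.finrank_fintype_fun_eq_card]
      rfl
    rw [hs, ht, Multiset.map_cons, Multiset.sum_cons, Multiset.map_cons, Multiset.sum_cons, ← IsV.finrank ι hc,
      ← IsV.finrank ι hb, h5, hdX, h11] at h9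
    omega
  -- the coordinates
  obtain ⟨A, B, _, _, _, _, σ, τ, hσ, hτ, e, he⟩ := hb.split ι p f.card (fun l _ => digit_disj p (by omega) (by omega) hij l)
    (single_lt p (by omega) hi) (single_lt p (by omega) hj)
  have := hσ.finite
  have := hτ.finite
  let E : A ⊗[k] B →ₗ[k] (I27 → k) := X.subtype ∘ₗ (e : A ⊗[k] B →ₗ[k] X)
  have hE : ∀ g x, E (σ.tprod τ g x) = Rr ρ ψ g (E x) := by
    intro g x
    show ((e (σ.tprod τ g x) : X) : I27 → k) = _
    rw [he]
    rfl
  let β : A ⊗[k] B →ₗ[k] A ⊗[k] B →ₗ[k] (I27 → k) := (crB k).compl₁₂ E E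
  have hβ : ∀ x y, β x y = cr (E x) (E y) := fun x y => rfl
  have hquad := quad_zero ι p σ τ (Rr ρ' ψ) β (fun x y => by rw [hβ, hβ, cr_comm]) (fun g x y => by
    rw [hβ, hβ, hE, hE]
    exact pair_cr f.pair (ψ g) _ _) (by
    rw [cf_sqsq ι f.card hp4 hij hi hj hσ hτ]
    intro c hc
    simp only [Multiset.insert_eq_cons, Multiset.mem_cons, Multiset.mem_singleton] at hc
    rcases hc with rfl | rfl | rfl | rfl
    · exact h44
    · exact h4i
    · exact h4j
    · intro h
      exact f.swap.soc_ne_zero ι h rfl)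
  let bA := Module.finBasisOfFinrankEq k A (hσ.dim_single ι f.card (by omega))
  let bB := Module.finBasisOfFinrankEq k B (hτ.dim_single ι f.card (by omega))
  let v : Fin 3 → Fin 3 → (I27 → k) := fun s t => E (bA s ⊗ₜ bB t)
  have hc : ∀ s s' t t', cr (v s t) (v s' t') + cr (v s t') (v s' t) = 0 := fun s s' t t' => hquad _ _ _ _
  have hvX : Xv v = X := by
    apply le_antisymm
    · refine Submodule.span_le.2 ?_
      rintro _ ⟨⟨s, t⟩, rfl⟩
      exact (e (bA s ⊗ₜ bB t)).2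
    · intro x hx
      obtain ⟨y, hy⟩ := e.surjective ⟨x, hx⟩
      have hy' : E y = x := congrArg Subtype.val hy
      rw [← hy', ← (bA.tensorProduct bB).sum_repr y, map_sum]
      refine Submodule.sum_mem _ fun st _ => ?_
      rw [map_smul]
      refine Submodule.smul_mem _ _ ?_
      rw [Module.Basis.tensorProduct_apply']
      exact Submodule.subset_span ⟨st, rfl⟩
  -- the space of the products
  have hIy : ∀ g, ∀ y ∈ Iy v, Rr ρ' ψ g y ∈ Iy v := by
    intro g y hy
    unfold Iy at hy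
    induction hy using Submodule.span_induction with
    | mem y hy =>
      obtain ⟨⟨m, n⟩, rfl⟩ := hy
      show ρ' (ψ g) (cr _ _) ∈ _
      rw [← pair_cr f.pair]
      refine cr_Xv h2 hc ?_ ?_
      · rw [hvX]
        exact hX g _ (e _).2
      · rw [hvX]
        exact hX g _ (e _).2
    | zero => rw [map_zero]; exact Submodule.zero_mem _
    | add y z _ _ hy hz => rw [map_add]; exact Submodule.add_mem _ hy hz
    | smul c y _ hy => rw [map_smul]; exact Submodule.smul_mem _ _ hy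
  have hts : ¬ ∀ x ∈ X, sh x = 0 := by
    intro h5
    obtain ⟨l, hl⟩ := f.ts_irr ι hX hb h5
    rw [hl] at hb
    have h6 := hb.dim_single ι f.card (by omega)
    omega
  have hshI : ∀ x ∈ X, sh x ∈ Iy v := by
    intro x hx
    have h5 := cr_Xv h2 hc (x := x) (y := x) (by rw [hvX]; exact hx) (by rw [hvX]; exact hx)
    rw [cr_self] at h5
    have h6 := Submodule.smul_mem _ (2 : k)⁻¹ h5
    rwa [smul_smul, inv_mul_cancel₀ h2, one_smul] at h6
  have D := f.dul
  have hM := D.flip.orth_inv hIy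
  have key : (∀ x ∈ X, cubicT x = 0) → False := by
    intro hN
    have hss : ∀ x ∈ Xv v, sh (sh x) = 0 := by
      intro x hx
      rw [hvX] at hx
      rw [sh_sh, hN x hx, zero_smul]
    have hI := sh_Iy h2 hc hss
    let γ : X →ₗ[k] X →ₗ[k] (Iy v) := LinearMap.mk₂ k
      (fun x y => ⟨(cr (x : I27 → k) y :), cr_Xv h2 hc (by rw [hvX]; exact x.2) (by rw [hvX]; exact y.2)⟩)
      (fun x x' y => Subtype.ext (cr_add_left _ _ _)) (fun c x y => Subtype.ext (cr_smul_left _ _ _))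
      (fun x y y' => Subtype.ext (cr_add_right _ _ _)) (fun c x y => Subtype.ext (cr_smul_right _ _ _))
    obtain ⟨c, hc1, hc2⟩ := soc_of_sq ι p (σ := subRep (Rr ρ ψ) X hX) (ρ := subRep (Rr ρ' ψ) (Iy v) hIy) γ
      (fun x y => Subtype.ext (cr_comm _ _)) (fun g x y => Subtype.ext (pair_cr f.pair (ψ g) _ _)) (fun h0 => hts fun x hx => by
        have h6 : γ ⟨x, hx⟩ ⟨x, hx⟩ = 0 := by rw [h0]; rfl
        have h7 : cr x x = 0 := congrArg Subtype.val h6
        rw [cr_self, smul_eq_zero] at h7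
        exact h7.resolve_left h2)
    obtain ⟨Y, hY, hcY⟩ := hc2
    obtain ⟨hY', e', he'⟩ := eqv_map (subRep (Rr ρ' ψ) (Iy v) hIy) (Rr ρ' ψ) (Iy v).subtype (fun _ _ => rfl)
      (Iy v).injective_subtype Y hY
    have hc3 := IsV.iso ι p (e' :) he' hcY
    obtain ⟨l, hl⟩ := f.swap.ts_irr ι hY' hc3 (by
      rintro _ ⟨y, -, rfl⟩
      exact hI _ y.2)
    have hd : Module.finrank k ↥(Submodule.map (Iy v).subtype Y) = 3 := by
      rw [hl] at hc3
      exact hc3.dim_single ι f.card (by omega)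
    rw [sq_22 ι p f.card hp4 hij hi hj hb] at hc1
    simp only [Multiset.insert_eq_cons, Multiset.mem_cons, Multiset.mem_singleton] at hc1
    rcases hc1 with h6 | h6 | h6 | h6 | h6
    · rw [h6] at hc3
      have := hc3.dim_pair ι f.card (by omega) (by omega) hij hi hj
      omega
    · rw [h6] at hc3
      have := hc3.dim_single ι f.card (by omega)
      omega
    · rw [h6] at hc3
      have := hc3.dim_single ι f.card (by omega)
      omega
    · rw [h6] at hc3
      have := hc3.dim_pair ι f.card (by omega) (by omega) hij hi hj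
      omega
    · rw [hl] at h6
      have := Nat.pow_pos (n := l) (show 0 < p by omega)
      omega
  rcases IsV.inf_or_le ι p hb hM with h5 | h5
  · refine ⟨⟨_, hM, ?_⟩, by
      by_contra hc0
      push Not at hc0
      exact key hc0⟩
    rw [isCompl_iff, disjoint_iff, codisjoint_iff]
    refine ⟨h5, ?_⟩
    apply Submodule.eq_top_of_finrank_eq
    obtain ⟨B₁, D₁, -⟩ := D.flip.sub hIy
    have h6 := D₁.finrank_eq
    have h7 := Submodule.finrank_sup_add_finrank_inf_eq X (orth (tfB k).flip (Iy v))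
    rw [h5, finrank_bot, add_zero] at h7
    have h8 := Submodule.finrank_quotient_add_finrank (orth (tfB k).flip (Iy v))
    have h9 := finrank_Iy v
    have h10 := Submodule.finrank_le (X ⊔ orth (tfB k).flip (Iy v))
    omega
  · exact (key fun x hx => by
      have h6 : tf x (sh x) = 0 := h5 hx (sh x) (hshI x hx)
      rw [tf_comm, tf_sh_self] at h6
      exact (mul_eq_zero.1 h6).resolve_left h3).elim

/-- **L22** -/
theorem Fra.l22 (f : Fra p a ψ ρ ρ') (hp4 : 4 < p) {i j : ℕ} (hij : i ≠ j) (hi : i < a) (hj : j < a)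
    (X : Submodule k (I27 → k)) (hX : ∀ g, ∀ x ∈ X, Rr ρ ψ g x ∈ X)
    (hb : IsV ι p (subRep (Rr ρ ψ) X hX) (2 * p ^ i + 2 * p ^ j))
    (h4i : ¬ InSoc ι p (Rr ρ' ψ) (4 * p ^ i)) (h4j : ¬ InSoc ι p (Rr ρ' ψ) (4 * p ^ j)) :
    ∃ (M : Submodule k (I27 → k)) (_ : ∀ g, ∀ x ∈ M, Rr ρ ψ g x ∈ M), IsCompl X M :=
  (f.l22n ι hp4 hij hi hj X hX hb h4i h4j).1

end Cfsg.Agent.R2.H28.SL2
end
end

-- part: R2/H28/SL2/L8
section
prune_inst 0x10044010062000000040500100000810100042000000000a060090000008000890000000c000010120890010009002001440010420000000a00000000040000000002028008a100000086000000010000000000000000000000000000010000004010000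
set_option linter.all false
open scoped Cfsg.Agent.FastGrp

/-!
# L8 (helper28)

`Fra.l8` : if all factors of `V` have the types `[8]` and `[2, 2]` then `V_{8 p^i}` is not a submodule.
-/

set_option autoImplicit false
set_option linter.unusedSectionVars false

namespace Cfsg.Agent.R2.H28.SL2

open Matrix Cfsg.Agent.H943.SL2Rel Cfsg.Agent.H943.SL2Mod Cfsg.Agent.H943.RepAdd
open Cfsg.Lie
open Cfsg.Agent.ChevalleyStructure Cfsg.Agent.ChevalleyStructure.E6Form.Cubic
  Cfsg.Agent.ChevalleyStructure.E6Form.Table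
open Cfsg.Agent.ChevalleyStructure.E6Min.Basic (Zgrp)
open Cfsg.Agent.H952.F4 (sh cr tf)
open Cfsg.Agent.H952.F4.Jord
open Cfsg.Agent.H163.E6 (V V')
open Cfsg.Agent.H163.E6.Act
open Cfsg.Agent.R2.GEO (Pair crB crB_apply tfB tfB_apply)
open Cfsg.Agent.R2.SL2 (typ tyl coe_tyl typ_step typ_zero listE6 tyl_eq_nil mem_typ tyl_one tyl_two)
open scoped TensorProduct

universe u v w

/-- the space spanned by the products -/
def Im {k : Type u} [Field k] (X : Submodule k (I27 → k)) : Submodule k (I27 → k) :=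
  Submodule.span k {z | ∃ x ∈ X, ∃ y ∈ X, z = cr x y}

theorem cr_mem_Im {k : Type u} [Field k] {X : Submodule k (I27 → k)} {x y : I27 → k} (hx : x ∈ X) (hy : y ∈ X) :
    cr x y ∈ Im X := Submodule.subset_span ⟨x, hx, y, hy, rfl⟩

variable {k : Type u} [Field k] [DecidableEq k] [IsAlgClosed k] {K : Type w} [Field K] [Fintype K] [DecidableEq K]
  (ι : K →+* k) {p a : ℕ} [Fact p.Prime] [CharP k p] [CharP K p]
  {ψ : _root_.Matrix.SpecialLinearGroup (Fin 2) K →* ↥(Zgrp k)} {ρ ρ' : Representation k ↥(Zgrp k) (I27 → k)}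

theorem Im_inv (f : Fra p a ψ ρ ρ') {X : Submodule k (I27 → k)} (hX : ∀ g, ∀ x ∈ X, Rr ρ ψ g x ∈ X) :
    ∀ g, ∀ y ∈ Im X, Rr ρ' ψ g y ∈ Im X := by
  intro g y hy
  unfold Im at hy
  induction hy using Submodule.span_induction with
  | mem y hy =>
    obtain ⟨x, hx, z, hz, rfl⟩ := hy
    show ρ' (ψ g) (cr _ _) ∈ _
    rw [← pair_cr f.pair]
    exact cr_mem_Im (hX g _ hx) (hX g _ hz)
  | zero => rw [map_zero]; exact Submodule.zero_mem _
  | add y z _ _ hy hz => rw [map_add]; exact Submodule.add_mem _ hy hz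
  | smul c y _ hy => rw [map_smul]; exact Submodule.smul_mem _ _ hy

/-- the product map -/
def crI (X : Submodule k (I27 → k)) : X →ₗ[k] X →ₗ[k] (Im X) := LinearMap.mk₂ k
  (fun x y => ⟨(cr (x : I27 → k) y :), cr_mem_Im x.2 y.2⟩)
  (fun _ _ _ => Subtype.ext (cr_add_left _ _ _)) (fun _ _ _ => Subtype.ext (cr_smul_left _ _ _))
  (fun _ _ _ => Subtype.ext (cr_add_right _ _ _)) (fun _ _ _ => Subtype.ext (cr_smul_right _ _ _))

theorem crI_equiv (f : Fra p a ψ ρ ρ') {X : Submodule k (I27 → k)} (hX : ∀ g, ∀ x ∈ X, Rr ρ ψ g x ∈ X) (g) (x y : X) :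
    crI X (subRep (Rr ρ ψ) X hX g x) (subRep (Rr ρ ψ) X hX g y) = subRep (Rr ρ' ψ) (Im X) (Im_inv f hX) g (crI X x y) :=
  Subtype.ext (pair_cr f.pair (ψ g) _ _)

theorem crI_span (X : Submodule k (I27 → k)) (f : Im X →ₗ[k] k) (h : ∀ x y, f (crI X x y) = 0) : f = 0 := by
  ext ⟨y, hy⟩
  rw [LinearMap.zero_apply]
  have key : ∀ y (hy : y ∈ Im X), f ⟨y, hy⟩ = 0 := by
    intro y hy
    have h1 : y ∈ (LinearMap.ker f).map (Im X).subtype := by
      have h2 : Im X ≤ (LinearMap.ker f).map (Im X).subtype := by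
        refine Submodule.span_le.2 ?_
        rintro _ ⟨x, hx, z, hz, rfl⟩
        exact ⟨crI X ⟨x, hx⟩ ⟨z, hz⟩, h _ _, rfl⟩
      exact h2 hy
    obtain ⟨z, hz, e⟩ := h1
    have e' : z = ⟨y, hy⟩ := Subtype.ext e
    rw [← e']
    exact hz
  exact key y hy

/-- the factors of the span of the products -/
theorem cf_Im (f : Fra p a ψ ρ ρ') {X : Submodule k (I27 → k)} (hX : ∀ g, ∀ x ∈ X, Rr ρ ψ g x ∈ X) :
    cf (Sy.{u, u, w} ι p) (subRep (Rr ρ' ψ) (Im X) (Im_inv f hX)) ≤ cf (Sy.{u, u, w} ι p) (Sq (subRep (Rr ρ ψ) X hX)) := by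
  obtain ⟨T, hT1, hT2, -⟩ := exists_sqL (σ := subRep (Rr ρ ψ) X hX) (ρ := subRep (Rr ρ' ψ) (Im X) (Im_inv f hX)) (crI X)
    (fun x y => Subtype.ext (cr_comm _ _)) (crI_equiv f hX)
  have hs : LinearMap.range T = ⊤ := by
    by_contra h0
    obtain ⟨g, hg0, hg⟩ := Submodule.exists_le_ker_of_lt_top (LinearMap.range T) (lt_top_iff_ne_top.2 h0)
    apply hg0
    refine crI_span X g fun x y => ?_
    rw [← hT1]
    exact hg ⟨_, rfl⟩
  obtain ⟨hk, hr, h1, h2⟩ := cf_exact (Sy.{u, u, w} ι p) (Sq (subRep (Rr ρ ψ) X hX)) (subRep (Rr ρ' ψ) (Im X) (Im_inv f hX)) T hT2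
  have h4 : ∀ (R : Submodule k (Im X)) (hR : ∀ g, ∀ x ∈ R, subRep (Rr ρ' ψ) (Im X) (Im_inv f hX) g x ∈ R), R = ⊤ →
      cf (V := ↥R) (Sy.{u, u, w} ι p) ((subRep (subRep (Rr ρ' ψ) (Im X) (Im_inv f hX)) R hR :)) =
      cf (Sy.{u, u, w} ι p) (subRep (Rr ρ' ψ) (Im X) (Im_inv f hX)) := by
    rintro R hR rfl
    exact cf_iso _ ⟨Submodule.topEquiv, fun _ _ => rfl⟩
  rw [h1, h4 _ hr hs]
  exact Multiset.le_add_left _ _

theorem Im_ne_bot (f : Fra p a ψ ρ ρ') {X : Submodule k (I27 → k)} (h : ¬ ∀ x ∈ X, sh x = 0) : Im X ≠ ⊥ := by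
  have h2 : (2 : k) ≠ 0 := two_ne f.odd
  intro h0
  apply h
  intro x hx
  have h1 := cr_mem_Im hx hx
  rw [h0, Submodule.mem_bot, cr_self] at h1
  exact (smul_eq_zero.1 h1).resolve_left h2

/-- **the span of the products is irreducible** if all its factors are `V_{n p^i}` -/
theorem Im_irr (f : Fra p a ψ ρ ρ') {X : Submodule k (I27 → k)} (hX : ∀ g, ∀ x ∈ X, Rr ρ ψ g x ∈ X) {n i m : ℕ}
    (hb : IsV ι p (subRep (Rr ρ ψ) X hX) (n * p ^ i)) (hts : ¬ ∀ x ∈ X, sh x = 0)
    (hn : 1 ≤ n) (hnp : n < p) (hN : n + 1 < Fintype.card K) (hm : n = 2 * m)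
    (hall : ∀ c ∈ cf (Sy.{u, u, w} ι p) (subRep (Rr ρ' ψ) (Im X) (Im_inv f hX)), c = n * p ^ i)
    (hlift : ∀ l < a, (n * p ^ i) / p ^ l % p + 1 < p →
      (n * p ^ i + 2 * en p (n * p ^ i) l) % (p ^ a - 1) ≠ (n * p ^ i) % (p ^ a - 1)) :
    IsV ι p (subRep (Rr ρ' ψ) (Im X) (Im_inv f hX)) (n * p ^ i) := by
  have D := f.dul
  obtain ⟨B₁, D₁, -⟩ := D.flip.sub (Im_inv f hX)
  obtain ⟨v, hv⟩ := hb.basS ι p hnp
  have hI0 := Im_ne_bot f hts
  have hnt : Nontrivial ((I27 → k) ⧸ orth (tfB k).flip (Im X)) := by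
    have h1 := D₁.finrank_eq
    have h2 : 0 < Module.finrank k (Im X) := by
      rw [Nat.pos_iff_ne_zero, Ne, Submodule.finrank_eq_zero]
      exact hI0
    exact Module.nontrivial_of_finrank_pos (R := k) (by omega)
  have h1 := irr_of_dual ι p f.card D₁.flip hv (crI_equiv f hX) (crI_span X) hn hnp hN hm (fun c hc => by
    rw [cf_dual ι p D₁] at hc
    exact hall c hc) hlift
  exact IsV.dual ι p h1 D₁.flip

/-- **the products in `V_{8 p^i}`** -/
theorem prod8 {X : Type*} [AddCommGroup X] [Module k X] {I : Type*} [AddCommGroup I] [Module k I]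
    {σ : Representation k (_root_.Matrix.SpecialLinearGroup (Fin 2) K) X} {τ : Representation k (_root_.Matrix.SpecialLinearGroup (Fin 2) K) I}
    {i : ℕ} {v : ℕ → X} {v' : ℕ → I} {β : X →ₗ[k] X →ₗ[k] I} (hv : BasS ι p σ 8 i v) (hv' : BasS ι p τ 8 i v')
    (he : ∀ g x y, β (σ g x) (σ g y) = τ g (β x y)) (hsp : ∀ f : I →ₗ[k] k, (∀ x y, f (β x y) = 0) → f = 0)
    (hp8 : 8 < p) (hN : 9 < Fintype.card K) :
    (∃ c : k, c ≠ 0 ∧ β (v 3) (v 3) = c • v' 2) ∧ ∃ c : k, c ≠ 0 ∧ β (v 2) (v 2) = c • v' 0 := by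
  obtain ⟨F', hF1, hF2⟩ := basS_coord ι p hv'
  have hf : ∀ s ≤ 8, F' 0 (v' s) = if s = 0 then 1 else 0 := fun s hs => hF2 0 (by norm_num) s hs
  obtain ⟨hu, hh⟩ := basS_coord_u ι p hv' hf
  obtain ⟨h1, h2⟩ := form_det ι p hv he (by norm_num) hp8 hN (m := 4) rfl (F' 0) hu hh
  obtain ⟨-, h3⟩ := basS_form ι p hv he (by norm_num) hp8 (by omega) (F' 0) hu
  have h4 : F' 0 (β (v 0) (v 4)) ≠ 0 := by
    intro h0
    have h5 := hsp _ (h2 h0)
    have h6 := hf 0 (by norm_num)
    rw [h5, if_pos rfl, LinearMap.zero_apply] at h6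
    exact zero_ne_one h6
  have hne : ∀ r : ℕ, 0 < r → r ≤ 8 → (r : k) ≠ 0 := by
    intro r hr hrn h2
    rw [CharP.cast_eq_zero_iff k p] at h2
    have := Nat.le_of_dvd hr h2
    omega
  have e1 := h3 0 (by norm_num) 3 (by norm_num)
  have e2 := h3 1 (by norm_num) 2 (by norm_num)
  have e3 := h3 2 (by norm_num) 1 (by norm_num)
  norm_num only [] at e1 e2 e3
  have n8 : (8 : k) ≠ 0 := by exact_mod_cast hne 8 (by norm_num) (by norm_num)
  have n7 : (7 : k) ≠ 0 := by exact_mod_cast hne 7 (by norm_num) (by norm_num)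
  have n6 : (6 : k) ≠ 0 := by exact_mod_cast hne 6 (by norm_num) (by norm_num)
  have n5 : (5 : k) ≠ 0 := by exact_mod_cast hne 5 (by norm_num) (by norm_num)
  have n2 : (2 : k) ≠ 0 := by exact_mod_cast hne 2 (by norm_num) (by norm_num)
  have n3 : (3 : k) ≠ 0 := by exact_mod_cast hne 3 (by norm_num) (by norm_num)
  have h22 : F' 0 (β (v 2) (v 2)) ≠ 0 := by
    intro h0
    rw [h0, mul_zero, zero_add] at e2
    have h5 := (mul_eq_zero.1 e2).resolve_left n6
    rw [h5, mul_zero, zero_add] at e1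
    exact h4 ((mul_eq_zero.1 e1).resolve_left n5)
  have p33 := basS_prod ι p hv hv' he (by omega) hf h1 (s := 3) (t := 3) (by norm_num) (by norm_num) (by norm_num) (by norm_num)
  have p22 := basS_prod ι p hv hv' he (by omega) hf h1 (s := 2) (t := 2) (by norm_num) (by norm_num) (by norm_num) (by norm_num)
  constructor
  · refine ⟨_, ?_, p33⟩
    simp only [Finset.sum_range_succ, Finset.sum_range_zero]
    norm_num only [Nat.choose, _root_.Nat.cast_one, _root_.mul_one, _root_.one_mul, _root_.ite_false, _root_.add_zero, _root_.Nat.cast_ofNat, _root_.ite_true, _root_.zero_add, _root_.ne_eq]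
    intro h0
    apply h22
    have h5 : (2 : k) * ((2 : k) * F' 0 (β (v 2) (v 2))) = 0 := by
      linear_combination 2 * h0 - e2 - e3
    exact (mul_eq_zero.1 ((mul_eq_zero.1 h5).resolve_left n2)).resolve_left n2
  · refine ⟨_, ?_, p22⟩
    simp only [Finset.sum_range_succ, Finset.sum_range_zero]
    norm_num only [Nat.choose, _root_.Nat.cast_one, _root_.mul_one, _root_.one_mul, _root_.ite_true, _root_.zero_add, _root_.add_zero, _root_.Nat.cast_ofNat, _root_.ite_false, _root_.ne_eq]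
    exact h22

/-- the labels in `S² V_{8 p^i}` of the types `[8]`, `[2, 2]` -/
theorem label8 {i c : ℕ} (hi : i < a) (hp8 : 8 < p) (hc : c ∈ sqs p a i 8) (ht : tyl p c = [8] ∨ tyl p c = [2, 2]) :
    c = 8 * p ^ i := by
  have hp : p.Prime := Fact.out
  have e : sqs p a i 8 = one p a i 16 + (one p a i 12 + (one p a i 8 + (one p a i 4 + {0}))) := rfl
  rw [e] at hc
  simp only [Multiset.mem_add] at hc
  have hs : ∀ {n j : ℕ}, 0 < n → n < p → n ≠ 8 → tyl p (n * p ^ j) = [8] ∨ tyl p (n * p ^ j) = [2, 2] → False := by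
    intro n j h0 hn h8 h
    rw [tyl_single h0 hn] at h
    rcases h with h | h
    · exact h8 (List.cons.inj h).1
    · simp at h
  have hs0 : ∀ {n : ℕ}, 0 < n → n < p → n ≠ 8 → tyl p n = [8] ∨ tyl p n = [2, 2] → False := by
    intro n h0 hn h8 h
    have h1 := hs (j := 0) h0 hn h8
    rw [pow_zero, mul_one] at h1
    exact h1 h
  have h00 : tyl p 0 = [8] ∨ tyl p 0 = [2, 2] → False := by
    intro h
    rw [tyl_eq_nil.2 rfl] at h
    simp at h
  have hpr : ∀ {n : ℕ}, 2 ≤ a → 1 ≤ n → n < p → tyl p (n * p ^ i + p ^ ((i + 1) % a)) = [8] ∨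
      tyl p (n * p ^ i + p ^ ((i + 1) % a)) = [2, 2] → False := by
    intro n ha h1 hn h
    have h2 := tyl_pair' (p := p) (n := 1) (m := n) (by norm_num) (by omega) h1 hn (succ_mod_ne ha hi)
    rw [one_mul] at h2
    rw [h2] at h
    simp at h
  have hpc : p = 11 ∨ p = 13 ∨ 17 ≤ p := by
    by_contra hcon
    have h17 : p < 17 := by omega
    interval_cases p <;> first | omega | (norm_num at hp)
  have k4 : c ∈ one p a i 4 → c = 8 * p ^ i := by
    intro hc
    unfold one at hc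
    rw [if_pos (by omega), Multiset.mem_singleton] at hc
    rw [hc] at ht
    exact (hs (by norm_num) (by omega) (by norm_num) ht).elim
  have k8 : c ∈ one p a i 8 → c = 8 * p ^ i := by
    intro hc
    unfold one at hc
    rwa [if_pos (by omega), Multiset.mem_singleton] at hc
  have k0 : c ∈ ({0} : Multiset ℕ) → c = 8 * p ^ i := by
    intro hc
    rw [Multiset.mem_singleton] at hc
    rw [hc] at ht
    exact (h00 ht).elim
  have ha0 : a = 1 → i = 0 := by omega
  rcases hpc with h11 | h13 | h17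
  · subst h11
    rcases hc with hc | hc | hc | hc | hc
    · unfold one ov at hc
      rw [if_neg (by norm_num)] at hc
      split_ifs at hc with h1 h2
      · exact h2.elim
      · simp only [Multiset.insert_eq_cons, Multiset.mem_cons, Multiset.mem_singleton] at hc
        norm_num at hc
        rcases hc with rfl | rfl
        · exact (hs0 (by norm_num) (by norm_num) (by norm_num) ht).elim
        · exact (hs0 (by norm_num) (by norm_num) (by norm_num) ht).elim
      · simp only [Multiset.insert_eq_cons, Multiset.mem_cons, Multiset.mem_singleton] at hc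
        norm_num at hc
        rcases hc with rfl | rfl
        · exact (hpr (by omega) (by norm_num) (by norm_num) ht).elim
        · exact (hs (by norm_num) (by norm_num) (by norm_num) ht).elim
    · unfold one ov at hc
      rw [if_neg (by norm_num)] at hc
      split_ifs at hc with h1 h2
      · exact h2.elim
      · simp only [Multiset.insert_eq_cons, Multiset.mem_cons, Multiset.mem_singleton] at hc
        norm_num at hc
        rcases hc with rfl | rfl | rfl
        · exact (hs0 (by norm_num) (by norm_num) (by norm_num) ht).elim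
        · exact (h00 ht).elim
        · rw [ha0 h1, pow_zero, mul_one]
      · simp only [Multiset.insert_eq_cons, Multiset.mem_cons, Multiset.mem_singleton] at hc
        norm_num at hc
        rcases hc with rfl | rfl
        · have := hpr (n := 1) (by omega) (by norm_num) (by norm_num)
          rw [one_mul] at this
          exact (this ht).elim
        · rfl
    · exact k8 hc
    · exact k4 hc
    · exact k0 hc
  · subst h13
    rcases hc with hc | hc | hc | hc | hc
    · unfold one ov at hc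
      rw [if_neg (by norm_num)] at hc
      split_ifs at hc with h1 h2
      · exact h2.elim
      · simp only [Multiset.insert_eq_cons, Multiset.mem_cons, Multiset.mem_singleton] at hc
        norm_num at hc
        rcases hc with rfl | rfl | rfl
        · exact (hs0 (by norm_num) (by norm_num) (by norm_num) ht).elim
        · exact (hs0 (by norm_num) (by norm_num) (by norm_num) ht).elim
        · rw [ha0 h1, pow_zero, mul_one]
      · simp only [Multiset.insert_eq_cons, Multiset.mem_cons, Multiset.mem_singleton] at hc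
        norm_num at hc
        rcases hc with rfl | rfl
        · exact (hpr (by omega) (by norm_num) (by norm_num) ht).elim
        · rfl
    · unfold one at hc
      rw [if_pos (by norm_num), Multiset.mem_singleton] at hc
      rw [hc] at ht
      exact (hs (by norm_num) (by norm_num) (by norm_num) ht).elim
    · exact k8 hc
    · exact k4 hc
    · exact k0 hc
  · rcases hc with hc | hc | hc | hc | hc
    · unfold one at hc
      rw [if_pos (by omega), Multiset.mem_singleton] at hc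
      rw [hc] at ht
      exact (hs (by norm_num) (by omega) (by norm_num) ht).elim
    · unfold one at hc
      rw [if_pos (by omega), Multiset.mem_singleton] at hc
      rw [hc] at ht
      exact (hs (by norm_num) (by omega) (by norm_num) ht).elim
    · exact k8 hc
    · exact k4 hc
    · exact k0 hc

/-- the arithmetic condition for `8 p^i`, `p = 11, 13` -/
theorem lift8 {i : ℕ} (hp : p = 11 ∨ p = 13) : ∀ l < a, (8 * p ^ i) / p ^ l % p + 1 < p →
    (8 * p ^ i + 2 * en p (8 * p ^ i) l) % (p ^ a - 1) ≠ (8 * p ^ i) % (p ^ a - 1) := by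
  have hpp : p.Prime := Fact.out
  intro l hl _ h
  have h1 : p ^ a - 1 ∣ 2 * en p (8 * p ^ i) l := by
    have h2 : (8 * p ^ i + 2 * en p (8 * p ^ i) l) ≡ 8 * p ^ i + 0 [MOD (p ^ a - 1)] := h
    exact (Nat.modEq_zero_iff_dvd).1 (Nat.ModEq.add_left_cancel' _ h2)
  have h2 : en p (8 * p ^ i) l = (if l = i then 9 else 1) * p ^ l := by
    unfold en
    rw [dg_single hpp.one_lt (by omega)]
    split_ifs <;> rfl
  have h3 : Nat.Coprime (p ^ a - 1) (p ^ l) := by
    apply Nat.Coprime.pow_right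
    have h4 : Nat.Coprime (p ^ a - 1) (p ^ a) := by
      have h5 : 1 ≤ p ^ a := Nat.pow_pos hpp.pos
      have h6 := Nat.coprime_self_add_right (m := p ^ a - 1) (n := 1)
      rw [Nat.sub_add_cancel h5] at h6
      exact h6.2 (Nat.coprime_one_right _)
    exact Nat.Coprime.coprime_dvd_right (dvd_pow_self p (by omega)) h4
  rw [h2, ← mul_assoc] at h1
  have h4 := h3.dvd_of_dvd_mul_right h1
  have h5 : p ^ a - 1 ∣ 18 := by
    split_ifs at h4
    · exact h4
    · exact h4.trans (by norm_num)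
  have h6 := Nat.le_of_dvd (by norm_num) h5
  have h7 : a = 1 := by
    by_contra h8
    have h9 : 2 ≤ a := by omega
    have h10 : p ^ 2 ≤ p ^ a := Nat.pow_le_pow_right hpp.pos h9
    have h11 : 11 ^ 2 ≤ p ^ 2 := Nat.pow_le_pow_left (by omega) 2
    omega
  rw [h7, pow_one] at h5
  rcases hp with rfl | rfl <;> revert h5 <;> decide

/-- the product of a submodule `V_{8 p^i}` -/
theorem Fra.img8 (f : Fra p a ψ ρ ρ') (hp8 : 8 < p)
    (ht : ∀ c ∈ cf (Sy.{u, u, w} ι p) (Rr ρ ψ), tyl p c = [8] ∨ tyl p c = [2, 2]) {i : ℕ} (hi : i < a)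
    {X : Submodule k (I27 → k)} (hX : ∀ g, ∀ x ∈ X, Rr ρ ψ g x ∈ X) (hb : IsV ι p (subRep (Rr ρ ψ) X hX) (8 * p ^ i)) :
    IsV ι p (subRep (Rr ρ' ψ) (Im X) (Im_inv f hX)) (8 * p ^ i) := by
  have hp : p.Prime := Fact.out
  have hq : 11 ≤ Fintype.card K := by
    rw [f.card]
    have h1 : p ≤ p ^ a := Nat.le_self_pow (by omega) p
    by_contra hc
    have h9 : p = 9 ∨ p = 10 := by omega
    rcases h9 with rfl | rfl <;> revert hp <;> decide
  have hts : ¬ ∀ x ∈ X, sh x = 0 := by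
    intro h5
    obtain ⟨l, hl⟩ := f.ts_irr ι hX hb h5
    have h6 := hb.dim_single ι f.card (by omega)
    rw [hl] at hb
    have h7 := hb.dim_single ι f.card (by omega)
    omega
  have hle := cf_Im ι f hX
  rw [cf_sq_single ι p f.card hp8 hi hb] at hle
  have hall : ∀ c ∈ cf (Sy.{u, u, w} ι p) (subRep (Rr ρ' ψ) (Im X) (Im_inv f hX)), c = 8 * p ^ i := by
    intro c hc
    refine label8 hi hp8 (Multiset.mem_of_le hle hc) (ht c ?_)
    rw [← f.cf_eq ι]
    exact Multiset.mem_of_le (cf_sub_le _ _ _ _) hc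
  by_cases hp17 : 17 ≤ p
  · have h1 : cf (Sy.{u, u, w} ι p) (subRep (Rr ρ' ψ) (Im X) (Im_inv f hX)) = {8 * p ^ i} := by
      rw [Multiset.eq_replicate_card.2 hall]
      have h2 : Multiset.card (cf (Sy.{u, u, w} ι p) (subRep (Rr ρ' ψ) (Im X) (Im_inv f hX))) ≤ 1 := by
        have h3 := Multiset.count_le_of_le (8 * p ^ i) hle
        rw [Multiset.eq_replicate_card.2 hall, Multiset.count_replicate_self] at h3
        refine h3.trans ?_
        have hpi : 0 < p ^ i := Nat.pow_pos hp.pos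
        have e : sqs p a i 8 = {16 * p ^ i} + ({12 * p ^ i} + ({8 * p ^ i} + ({4 * p ^ i} + {0}))) := by
          have e1 : sqs p a i 8 = one p a i 16 + (one p a i 12 + (one p a i 8 + (one p a i 4 + {0}))) := rfl
          rw [e1]
          unfold one
          rw [if_pos (by omega), if_pos (by omega), if_pos (by omega), if_pos (by omega)]
        rw [e]
        simp only [Multiset.count_add, Multiset.count_singleton]
        split_ifs <;> omega
      have h3 : Multiset.card (cf (Sy.{u, u, w} ι p) (subRep (Rr ρ' ψ) (Im X) (Im_inv f hX))) ≠ 0 := by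
        intro h3
        have h4 := (Multiset.card_eq_zero.1 h3)
        have h5 := finrank_cf ι p _ _ (subRep (Rr ρ' ψ) (Im X) (Im_inv f hX)) le_rfl
        rw [h4, Multiset.map_zero, Multiset.sum_zero, Submodule.finrank_eq_zero] at h5
        exact Im_ne_bot f hts h5
      have h4 : Multiset.card (cf (Sy.{u, u, w} ι p) (subRep (Rr ρ' ψ) (Im X) (Im_inv f hX))) = 1 := by omega
      rw [h4]
      rfl
    exact irr_of_cf _ h1
  · have hpc : p = 11 ∨ p = 13 := by
      by_contra hcon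
      have h17 : p < 17 := by omega
      interval_cases p <;> first | omega | (norm_num at hp)
    exact Im_irr ι f hX hb hts (by norm_num) hp8 (by omega) (m := 4) rfl hall (lift8 hpc)

/-- **L8** -/
theorem Fra.l8 (f : Fra p a ψ ρ ρ') (hp8 : 8 < p)
    (ht : ∀ c ∈ cf (Sy.{u, u, w} ι p) (Rr ρ ψ), tyl p c = [8] ∨ tyl p c = [2, 2]) {i : ℕ} (hi : i < a) :
    ¬ InSoc ι p (Rr ρ ψ) (8 * p ^ i) := by
  rintro ⟨X, hX, hb⟩
  have hp : p.Prime := Fact.out
  have h2 : (2 : k) ≠ 0 := two_ne f.odd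
  have hq : 11 ≤ Fintype.card K := by
    rw [f.card]
    have h1 : p ≤ p ^ a := Nat.le_self_pow (by omega) p
    by_contra hc
    have h9 : p = 9 ∨ p = 10 := by omega
    rcases h9 with rfl | rfl <;> revert hp <;> decide
  have ht' : ∀ c ∈ cf (Sy.{u, u, w} ι p) (Rr ρ' ψ), tyl p c = [8] ∨ tyl p c = [2, 2] := fun c hc => ht c (by rwa [← f.cf_eq ι])
  have hI := f.img8 ι hp8 ht hi hX hb
  have hI' := f.swap.img8 ι hp8 ht' hi (Im_inv f hX) hI
  obtain ⟨v, hv⟩ := hb.basS ι p hp8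
  obtain ⟨v', hv'⟩ := hI.basS ι p hp8
  obtain ⟨v'', hv''⟩ := hI'.basS ι p hp8
  obtain ⟨⟨c, hc, h33⟩, -⟩ := prod8 ι hv hv' (crI_equiv f hX) (crI_span X) hp8 (by omega)
  obtain ⟨-, c', hc', h22⟩ := prod8 ι hv' hv'' (crI_equiv f.swap (Im_inv f hX)) (crI_span (Im X)) hp8 (by omega)
  -- `sh (sh v3)`
  have e1 : cr (v 3 : I27 → k) (v 3) = c • (v' 2 : I27 → k) := congrArg Subtype.val h33
  have e2 : cr (v' 2 : I27 → k) (v' 2) = c' • (v'' 0 : I27 → k) := congrArg Subtype.val h22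
  have e3 : sh (v 3 : I27 → k) = ((2 : k)⁻¹ * c) • (v' 2 : I27 → k) := by
    rw [cr_self] at e1
    rw [← smul_smul, ← e1, smul_smul, inv_mul_cancel₀ h2, one_smul]
  have e4 : sh (v' 2 : I27 → k) = ((2 : k)⁻¹ * c') • (v'' 0 : I27 → k) := by
    rw [cr_self] at e2
    rw [← smul_smul, ← e2, smul_smul, inv_mul_cancel₀ h2, one_smul]
  have e5 : cubicT (v 3 : I27 → k) • (v 3 : I27 → k) = (((2 : k)⁻¹ * c) ^ 2 * ((2 : k)⁻¹ * c')) • (v'' 0 : I27 → k) := by
    rw [← sh_sh, e3, sh_smul, e4, smul_smul]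
  have hd : ((2 : k)⁻¹ * c) ^ 2 * ((2 : k)⁻¹ * c') ≠ 0 :=
    mul_ne_zero (pow_ne_zero _ (mul_ne_zero (inv_ne_zero h2) hc)) (mul_ne_zero (inv_ne_zero h2) hc')
  have e6 : ∃ d : k, (v'' 0 : I27 → k) = d • (v 3 : I27 → k) := by
    refine ⟨(((2 : k)⁻¹ * c) ^ 2 * ((2 : k)⁻¹ * c'))⁻¹ * cubicT (v 3 : I27 → k), ?_⟩
    rw [← smul_smul, e5, smul_smul, inv_mul_cancel₀ hd, one_smul]
  obtain ⟨d, e6⟩ := e6
  -- `w v''_0` is fixed by `U`
  have e7 : ∀ t, Rr ρ ψ (u t) (Rr ρ ψ (Cfsg.Agent.H943.SL2Rel.w) (v'' 0 : I27 → k)) = Rr ρ ψ (Cfsg.Agent.H943.SL2Rel.w) (v'' 0 : I27 → k) := by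
    intro t
    have h3 : Rr ρ ψ (Cfsg.Agent.H943.SL2Rel.w) (v'' 0 : I27 → k) = (v'' 8 : I27 → k) := by
      have h4 := congrArg Subtype.val (hv''.w 0 (by norm_num))
      rw [pow_zero, one_smul] at h4
      exact h4
    rw [h3]
    have h4 := congrArg Subtype.val (hv''.u 8 (by norm_num) t)
    rw [Finset.sum_range_one, Nat.choose_zero_right, Nat.cast_one, pow_zero, mul_one, one_smul] at h4
    exact h4
  have hd0 : d ≠ 0 := by
    rintro rfl
    rw [zero_smul] at e6
    have h3 : v'' 0 = 0 := Subtype.ext e6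
    have h4 := hv''.li.ne_zero 0
    exact h4 h3
  have e8 : Rr ρ ψ (Cfsg.Agent.H943.SL2Rel.w) (v 3 : I27 → k) = -(v 5 : I27 → k) := by
    have h4 := congrArg Subtype.val (hv.w 3 (by norm_num))
    have h5 : ((-1 : k) ^ 3) = -1 := by norm_num
    rw [h5, neg_one_smul] at h4
    exact h4
  have e9 : Rr ρ ψ (u 1) (v 5 : I27 → k) = (v 5 : I27 → k) := by
    have h3 := e7 1
    rw [e6, map_smul, map_smul, e8, map_neg] at h3
    have h4 := smul_right_injective _ hd0 h3
    exact neg_injective h4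
  have e10 : subRep (Rr ρ ψ) X hX (u 1) (v 5) = v 5 := Subtype.ext e9
  obtain ⟨F', -, hF2⟩ := basS_coord ι p hv
  have e11 := congrArg (F' 6) e10
  rw [hv.u 5 (by norm_num)] at e11
  simp only [Finset.sum_range_succ, Finset.sum_range_zero] at e11
  simp only [map_add, map_smul, map_zero, hF2 6 (by norm_num) 5 (by norm_num), hF2 6 (by norm_num) 6 (by norm_num),
    hF2 6 (by norm_num) 7 (by norm_num), hF2 6 (by norm_num) 8 (by norm_num), Nat.reduceAdd, Nat.reduceSub] at e11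
  norm_num [Nat.choose] at e11
  have h3 : ((3 : ℕ) : k) = 0 := by exact_mod_cast e11
  rw [CharP.cast_eq_zero_iff k p] at h3
  have := Nat.le_of_dvd (by norm_num) h3
  omega

end Cfsg.Agent.R2.H28.SL2
end

-- part: R2/H28/SL2/Lcb
section
prune_inst 0x10000004010000
set_option linter.all false
open scoped Cfsg.Agent.FastGrp

/-!
# The local statements (helper28)

`Fra.lc` : `Lc` from L11 (`q ≥ 9`); `cf_eight` : the label of the square of the highest weight vector of `V_{4 p^i}`.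
-/

set_option autoImplicit false
set_option linter.unusedSectionVars false

namespace Cfsg.Agent.R2.H28.SL2

open Matrix Cfsg.Agent.H943.SL2Rel Cfsg.Agent.H943.SL2Mod Cfsg.Agent.H943.RepAdd
open Cfsg.Lie
open Cfsg.Agent.ChevalleyStructure Cfsg.Agent.ChevalleyStructure.E6Form.Cubic
  Cfsg.Agent.ChevalleyStructure.E6Form.Table
open Cfsg.Agent.ChevalleyStructure.E6Min.Basic (Zgrp)
open Cfsg.Agent.H952.F4 (sh cr tf)
open Cfsg.Agent.H952.F4.Jord
open Cfsg.Agent.R2.GEO (Pair crB crB_apply tfB tfB_apply)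
open Cfsg.Agent.R2.SL2 (typ tyl coe_tyl typ_step typ_zero listE6 tyl_eq_nil mem_typ tyl_one tyl_two)

universe u v w

variable {k : Type u} [Field k] [DecidableEq k] [IsAlgClosed k] {K : Type w} [Field K] [Fintype K] [DecidableEq K]
  (ι : K →+* k) {p a : ℕ} [Fact p.Prime] [CharP k p] [CharP K p]
  {ψ : SpecialLinearGroup (Fin 2) K →* ↥(Zgrp k)} {ρ ρ' : Representation k ↥(Zgrp k) (I27 → k)}

open Cfsg.Agent.R2.H22.Loc (Nts Ch exists_ch four_sh_ne not_inSoc_two four_w four_u)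

theorem pow_lt_pred {p a : ℕ} (hp : 1 < p) {i : ℕ} {n : ℕ} (hia : i + 1 < a) (hn : n ≤ p + 1) (hp2 : 3 ≤ p) :
    n * p ^ i < p ^ a - 1 := by
  have h1 : n * p ^ i ≤ p ^ (i + 1) + p ^ i := by
    calc n * p ^ i ≤ (p + 1) * p ^ i := Nat.mul_le_mul_right _ hn
      _ = p ^ (i + 1) + p ^ i := by ring
  have h2 : p ^ (i + 1) * p ≤ p ^ a := by
    rw [← pow_succ]
    exact Nat.pow_le_pow_right (by omega) (by omega)
  have h3 : p ^ i ≤ p ^ (i + 1) := Nat.pow_le_pow_right (by omega) (by omega)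
  have h4 : 0 < p ^ i := Nat.pow_pos (by omega)
  have h5 : p ^ (i + 1) * 3 ≤ p ^ (i + 1) * p := Nat.mul_le_mul_left _ hp2
  have h6 : p ^ 1 ≤ p ^ (i + 1) := Nat.pow_le_pow_right (by omega) (by omega)
  rw [pow_one] at h6
  omega

/-- the label of the square of the highest weight vector of `V_{4 p^i}` -/
theorem cf_eight (f : Fra p a ψ ρ ρ') (hp5 : 5 ≤ p) (hq9 : 9 ≤ p ^ a) (nts : Nts ψ ρ) (nts' : Nts ψ ρ') {i : ℕ}
    (hi : i < a) (h4 : InSoc ι p (Rr ρ ψ) (4 * p ^ i)) :
    (11 ≤ p ∧ 8 * p ^ i ∈ cf (Sy.{u, u, w} ι p) (Rr ρ ψ)) ∨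
    (p = 7 ∧ p ^ i + p ^ ((i + 1) % a) ∈ cf (Sy.{u, u, w} ι p) (Rr ρ ψ)) ∨
    (p = 5 ∧ 3 * p ^ i + p ^ ((i + 1) % a) ∈ cf (Sy.{u, u, w} ι p) (Rr ρ ψ)) := by
  have hp : p.Prime := Fact.out
  obtain ⟨v, c, hv⟩ := exists_ch (by omega : 4 < p) h4
  have h9 : 9 ≤ Fintype.card K := by rw [f.card]; exact hq9
  have hne := four_sh_ne f hp5 h9 nts nts' c (hv 0 (by norm_num))
  obtain ⟨-, -, -, -, w4⟩ := four_w c
  have hU : ∀ t, Rr ρ' ψ (u t) (cr (v 4) (v 4)) = cr (v 4) (v 4) := by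
    intro t
    rw [Rr_apply, ← pair_cr f.pair, (four_u c t).2.2.2.2]
  have hH : ∀ b, Rr ρ' ψ (h b) (cr (v 4) (v 4)) = ι b ^ (8 * p ^ i) • cr (v 4) (v 4) := by
    intro b
    have h1 := c.h 4 le_rfl b
    rw [Rr_apply] at h1
    rw [Rr_apply, ← pair_cr f.pair, h1, Cfsg.Agent.H952.F4.Jord.cr_smul_left, Cfsg.Agent.H952.F4.Jord.cr_smul_right,
      smul_smul, Nat.sub_self, pow_zero, mul_one, ← pow_add, ← pow_mul, mul_comm (p ^ i)]
  obtain ⟨b, hb, hbm⟩ := mem_cf_of_hw ι p hne hU hH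
  rw [f.cf_eq ι] at hb
  have hblt := cf_lt ι p f.card _ b hb
  rw [f.card] at hbm
  have fin : ∀ e, e < p ^ a - 1 → 0 < e → 8 * p ^ i % (p ^ a - 1) = e → b = e := by
    intro e he he0 h1
    rw [h1] at hbm
    have h2 : b ≠ p ^ a - 1 := by
      intro h2
      rw [h2, Nat.mod_self] at hbm
      omega
    rwa [Nat.mod_eq_of_lt (by omega)] at hbm
  have h8 : p = 5 ∨ p = 7 ∨ 11 ≤ p := by
    by_contra hcon
    have h13 : p < 11 := by omega
    interval_cases p <;> first | omega | (norm_num at hp)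
  have hpi : 0 < p ^ i := Nat.pow_pos hp.pos
  have small : p = 5 ∨ p = 7 → b = (8 - p) * p ^ i + p ^ ((i + 1) % a) := by
    intro hp57
    have ha2 : 2 ≤ a := by
      by_contra hc
      have ha1 : a = 1 := by omega
      rw [ha1, pow_one] at hq9
      omega
    rcases Nat.lt_or_ge (i + 1) a with hia | hia
    · rw [Nat.mod_eq_of_lt hia]
      have h1 : (8 - p) * p ^ i + p ^ (i + 1) = 8 * p ^ i := by
        rw [pow_succ, mul_comm (p ^ i) p, ← add_mul]
        congr 1
        omega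
      rw [h1]
      rcases hp57 with h | h
      · refine fin _ ?_ (by omega) (Nat.mod_eq_of_lt ?_)
        all_goals
          have h2 : 2 * p ^ (i + 1) < p ^ a - 1 := by
            have h3 : p ^ (i + 1) * p ≤ p ^ a := by
              rw [← pow_succ]
              exact Nat.pow_le_pow_right (by omega) (by omega)
            have h4 : 0 < p ^ (i + 1) := Nat.pow_pos hp.pos
            have h5 : p ^ (i + 1) * 5 = p ^ (i + 1) * p := by rw [h]
            omega
          have h3 : p ^ (i + 1) = 5 * p ^ i := by rw [pow_succ, h]; ring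
          omega
      · have h2 := pow_lt_pred (n := 8) hp.one_lt hia (by omega) (by omega)
        exact fin _ h2 (by omega) (Nat.mod_eq_of_lt h2)
    · have hia' : i + 1 = a := by omega
      rw [hia', Nat.mod_self, pow_zero]
      have h1 : 8 * p ^ i = ((8 - p) * p ^ i + 1) + (p ^ a - 1) := by
        have h2 : 8 * p ^ i = (8 - p) * p ^ i + p ^ a := by
          rw [← hia', pow_succ, mul_comm (p ^ i) p, ← add_mul]
          congr 1
          omega
        have h3 : 0 < p ^ a := Nat.pow_pos hp.pos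
        omega
      have hi1 : 1 ≤ i := by omega
      have hlt : (8 - p) * p ^ i + 1 < p ^ a - 1 := by
        have h2 : p ^ a = p * p ^ i := by rw [← hia', pow_succ, mul_comm]
        have h3 : p ^ 1 ≤ p ^ i := Nat.pow_le_pow_right (by omega) hi1
        rw [pow_one] at h3
        have h4 : (8 - p) * p ^ i ≤ (p - 2) * p ^ i := Nat.mul_le_mul_right _ (by omega)
        have h5 : (p - 2) * p ^ i + 2 * p ^ i = p * p ^ i := by rw [← add_mul]; congr 1; omega
        omega
      refine fin _ hlt (by omega) ?_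
      rw [h1, Nat.add_mod_right, Nat.mod_eq_of_lt hlt]
  rcases h8 with h5 | h7 | h11
  · right; right
    have h1 := small (Or.inl h5)
    have e : 8 - p = 3 := by omega
    rw [e] at h1
    rw [← h1]
    exact ⟨h5, hb⟩
  · right; left
    have h1 := small (Or.inr h7)
    have e : 8 - p = 1 := by omega
    rw [e, one_mul] at h1
    rw [← h1]
    exact ⟨h7, hb⟩
  · left
    have h1 : 8 * p ^ i < p ^ a - 1 := by
      have h2 : p ^ (i + 1) ≤ p ^ a := Nat.pow_le_pow_right (by omega) (by omega)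
      rw [pow_succ] at h2
      have h3 : p ^ i * 11 ≤ p ^ i * p := Nat.mul_le_mul_left _ h11
      omega
    have h2 := fin _ h1 (by omega) (Nat.mod_eq_of_lt h1)
    rw [← h2]
    exact ⟨h11, hb⟩

/-- **the local statements** -/
theorem Fra.lc (f : Fra p a ψ ρ ρ') (hp5 : 5 ≤ p) (hq9 : 9 ≤ p ^ a) (nts : Nts ψ ρ) (nts' : Nts ψ ρ')
    (n11 : ∀ i < a, ∀ j < a, i ≠ j → ¬ InSoc ι p (Rr ρ ψ) (p ^ i + p ^ j)) : Lc.{u, u, w} ι p a (Rr ρ ψ) (Rr ρ' ψ) where
  n2 i _ := not_inSoc_two f hp5 (by rw [f.card]; omega) nts nts' i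
  n11 := n11
  l4 i hi h4 := cf_eight ι f hp5 hq9 nts nts' hi h4
  l6 := by
    intro i hi h
    have hp : p.Prime := Fact.out
    have hpi : 0 < p ^ i := Nat.pow_pos hp.pos
    by_cases h6 : 6 < p
    · obtain ⟨X, hX, hb, -, c, hc1, hc2, hc3⟩ := f.lzero' ι h fun l hl => by
        obtain ⟨X, hX, hb⟩ := h
        have h7 := hb.dim_single ι f.card h6
        rw [hl] at hb
        have h8 := hb.dim_single ι f.card (by omega)
        omega
      rw [cf_sq_single ι p f.card h6 hi hb] at hc1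
      exact ⟨c, hc1, hc3, hc2⟩
    · exfalso
      have h5 : p = 5 := by
        by_contra hc
        have h7 : p = 6 := by omega
        rw [h7] at hp
        revert hp
        decide
      have hlt := cf_lt ι p f.card (Rr ρ ψ) _ h.mem_cf
      have hia : i + 1 < a := by
        by_contra hc
        have h7 : a = i + 1 := by omega
        rw [h7, pow_succ] at hlt
        rw [h5] at hlt
        omega
      refine n11 i hi (i + 1) hia (by omega) ?_
      have e : p ^ i + p ^ (i + 1) = 6 * p ^ i := by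
        rw [pow_succ, h5]
        ring
      rw [e]
      exact h
  l8 := by
    intro ht i hi h
    have hp : p.Prime := Fact.out
    by_cases h8 : 8 < p
    · exact f.l8 ι h8 ht hi h
    · have h9 := ht _ h.mem_cf
      have hpc : p = 5 ∨ p = 7 := by
        by_contra hcon
        interval_cases p <;> first | omega | (norm_num at hp)
      rcases hpc with h5 | h7
      · have e : 8 * p ^ i = 3 * p ^ i + 1 * p ^ (i + 1) := by
          rw [pow_succ, h5]
          ring
        rw [e, tyl_pair' (by norm_num) (by omega) (by norm_num) (by omega) (by omega)] at h9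
        simp at h9
      · have e : 8 * p ^ i = 1 * p ^ i + 1 * p ^ (i + 1) := by
          rw [pow_succ, h7]
          ring
        rw [e, tyl_pair (by norm_num) (by omega) (by norm_num) (by omega) (by omega)] at h9
        simp at h9
  l22 := by
    intro i hi j hj hij X hX hb h4i h4j
    exact f.l22 ι (by omega) hij hi hj X hX hb h4i h4j

end Cfsg.Agent.R2.H28.SL2
end

-- part: R2/H28/SL2/Kills
section
set_option linter.all false
open scoped Cfsg.Agent.FastGrp

/-!
# The type kills in the frame (helper28)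

`Fra.kills` : `p ≥ 5`, `q ≥ 9`; `Fra.kills7` : `q = 7`.
-/

set_option autoImplicit false
set_option linter.unusedSectionVars false

namespace Cfsg.Agent.R2.H28.SL2

open Matrix Cfsg.Agent.H943.SL2Rel Cfsg.Agent.H943.SL2Mod Cfsg.Agent.H943.RepAdd
open Cfsg.Lie
open Cfsg.Agent.ChevalleyStructure Cfsg.Agent.ChevalleyStructure.E6Form.Cubic
  Cfsg.Agent.ChevalleyStructure.E6Form.Table
open Cfsg.Agent.ChevalleyStructure.E6Min.Basic (Zgrp)
open Cfsg.Agent.H952.F4 (sh cr tf)
open Cfsg.Agent.H952.F4.Jord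
open Cfsg.Agent.R2.GEO (Pair crB crB_apply tfB tfB_apply)
open Cfsg.Agent.R2.SL2 (typ tyl coe_tyl typ_step typ_zero listE6 tyl_eq_nil mem_typ tyl_one tyl_two)
open Cfsg.Agent.R2.H22.Loc (Nts not_inSoc_pair)

universe u v w

variable {k : Type u} [Field k] [DecidableEq k] [IsAlgClosed k] {K : Type w} [Field K] [Fintype K] [DecidableEq K]
  (ι : K →+* k) {p a : ℕ} [Fact p.Prime] [CharP k p] [CharP K p]
  {ψ : SpecialLinearGroup (Fin 2) K →* ↥(Zgrp k)} {ρ ρ' : Representation k ↥(Zgrp k) (I27 → k)}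

/-- no invariant functionals -/
theorem Fra.co (f : Fra p a ψ ρ ρ') (l : (I27 → k) →ₗ[k] k) (hl : ∀ g x, l (Rr ρ ψ g x) = l x) : l = 0 := by
  obtain ⟨y, hy⟩ := f.dul.surj l
  have hy0 : y = 0 := by
    refine f.fix' y fun g => ?_
    rw [← sub_eq_zero]
    refine f.dul.right _ fun x => ?_
    have h1 : Rr ρ ψ g (Rr ρ ψ g⁻¹ x) = x := by
      rw [← Module.End.mul_apply, ← map_mul, mul_inv_cancel, map_one, Module.End.one_apply]
    rw [map_sub, sub_eq_zero, hy]
    conv_lhs => rw [← h1]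
    rw [f.dul.inv, hy, ← hl g, h1]
  ext x
  rw [LinearMap.comp_apply, ← hy, hy0, map_zero]
  rfl

variable {W : List (List ℕ)}

/-- **the type kills in the frame** -/
theorem Fra.kills (f : Fra p a ψ ρ ρ') (hp5 : 5 ≤ p) (hq9 : 9 ≤ p ^ a) (nts : Nts ψ ρ) (nts' : Nts ψ ρ')
    (hWm : W ∈ listE6)
    (hw : (W : Multiset (List ℕ)) = (cf (Sy.{u, u, w} ι p) (Rr ρ ψ)).map (tyl p)) :
    (2 ≤ a ∧ W = [[2, 2], [2, 2], [2, 2]]) ∨ (13 ≤ p ∧ W = [[4], [8], [12]]) ∨
      (p = 11 ∧ 2 ≤ a ∧ W = [[1, 1], [4], [8], [8]]) ∨ (a = 1 ∧ p = 11 ∧ W = [[], [2], [4], [8], [8]]) :=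
  type_kills ι p f.card f.dul
    (f.lc ι hp5 hq9 nts nts' fun _ hi _ hj hij => not_inSoc_pair f hp5 nts nts' hij hi hj)
    (f.swap.lc ι hp5 hq9 nts' nts fun _ hi _ hj hij => not_inSoc_pair f.swap hp5 nts' nts hij hi hj) hp5 hq9 f.fix f.co hWm hw

/-- **`q = 7`** -/
theorem Fra.kills7 (f : Fra p a ψ ρ ρ') (hp7 : p = 7) (ha : a = 1) (hWm : W ∈ listE6)
    (hw : (W : Multiset (List ℕ)) = (cf (Sy.{u, u, w} ι p) (Rr ρ ψ)).map (tyl p)) :
    W = [[], [], [2], [4], [4], [4], [6]] ∨ W = [[2], [2], [2], [2], [2], [4], [6]] := by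
  rcases no_trivial ι p f.card (by omega) (by rw [hp7, ha]; norm_num) f.fix f.co hWm hw with h0 | h0 | h0
  · have h1 : ∀ t ∈ W, t.length ≤ 1 ∧ ∀ d ∈ t, d < 7 := by
      intro t ht
      have h2 : t ∈ (cf (Sy.{u, u, w} ι p) (Rr ρ ψ)).map (tyl p) := by
        rw [← hw]
        exact ht
      obtain ⟨b, hb, rfl⟩ := Multiset.mem_map.1 h2
      have h3 := cf_lt ι p f.card _ b hb
      refine ⟨?_, fun d hd => ?_⟩
      · have := Cfsg.Agent.R2.SL2.length_tyl_le h3
        omega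
      · have := (Cfsg.Agent.R2.SL2.tyl_mem hd).2
        omega
    right
    have key : ∀ W ∈ listE6, [] ∉ W → (∀ t ∈ W, t.length ≤ 1) → (∀ t ∈ W, ∀ d ∈ t, d < 7) →
        W = [[2], [2], [2], [2], [2], [4], [6]] := by decide +kernel
    exact key W hWm h0 (fun t ht => (h1 t ht).1) fun t ht => (h1 t ht).2
  · exact Or.inl h0.2.2
  · omega

end Cfsg.Agent.R2.H28.SL2
end

-- part: R2/H22/Q7a
section
prune_inst 0x10000004010000
set_option linter.all false
open scoped Cfsg.Agent.FastGrp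

/-!
# Modules of `SL(2, 7)`: general lemmas (helper22)

* `Ew` : the space of the vectors fixed by `U` of weight `e`; `finrank_Ew_le`;
* `finrank_ker_pow_le`, `finrank_le_ufix`.
-/

set_option autoImplicit false
set_option linter.unusedSectionVars false

namespace Cfsg.Agent.R2.H22.Q7

open Matrix Cfsg.Agent.H943.SL2Rel Cfsg.Agent.H943.SL2Mod Cfsg.Agent.H943.RepAdd
open Cfsg.Agent.R2.H28.SL2

universe u v w

section Lin

variable {k : Type*} [Field k] {V : Type*} [AddCommGroup V] [Module k V] [FiniteDimensional k V]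

theorem finrank_comap_le (f : V →ₗ[k] V) (S : Submodule k V) :
    Module.finrank k (S.comap f) ≤ Module.finrank k (LinearMap.ker f) + Module.finrank k S := by
  let g : S.comap f →ₗ[k] S := f.restrict (fun _ hx => hx)
  have h1 := LinearMap.finrank_range_add_finrank_ker g
  have h2 : Module.finrank k (LinearMap.range g) ≤ Module.finrank k S := Submodule.finrank_le _
  have h3 : Module.finrank k (LinearMap.ker g) ≤ Module.finrank k (LinearMap.ker f) := by
    let e : LinearMap.ker g →ₗ[k] LinearMap.ker f :=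
      LinearMap.codRestrict (LinearMap.ker f) ((S.comap f).subtype ∘ₗ (LinearMap.ker g).subtype) (fun x => by
        rw [LinearMap.mem_ker]
        exact congrArg Subtype.val x.2)
    refine LinearMap.finrank_le_finrank_of_injective (f := e) fun x y hxy => ?_
    have h4 : ((e x : LinearMap.ker f) : V) = ((e y : LinearMap.ker f) : V) := by rw [hxy]
    exact Subtype.ext (Subtype.ext h4)
  omega

theorem finrank_ker_pow_le (f : V →ₗ[k] V) (n : ℕ) :
    Module.finrank k (LinearMap.ker (f ^ n)) ≤ n * Module.finrank k (LinearMap.ker f) := by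
  induction n with
  | zero =>
    have : LinearMap.ker (f ^ 0) = ⊥ := by
      rw [eq_bot_iff]
      intro x hx
      rw [LinearMap.mem_ker, pow_zero, Module.End.one_apply] at hx
      exact hx
    rw [this, finrank_bot]
    omega
  | succ n ih =>
    have h1 : LinearMap.ker (f ^ (n + 1)) = (LinearMap.ker (f ^ n)).comap f := by
      ext x
      rw [Submodule.mem_comap, LinearMap.mem_ker, LinearMap.mem_ker, pow_succ, Module.End.mul_apply]
    rw [h1]
    have h2 := finrank_comap_le f (LinearMap.ker (f ^ n))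
    rw [Nat.succ_mul]
    omega

end Lin

variable {k : Type u} [Field k] [DecidableEq k] {F : Type w} [Field F] [Fintype F] [DecidableEq F] (ι : F →+* k)
variable (p : ℕ) [Fact p.Prime] [CharP k p] [CharP F p]

/-- the vectors of weight `e` fixed by `U` -/
def Ew {V : Type*} [AddCommGroup V] [Module k V] (ρ : Representation k (SpecialLinearGroup (Fin 2) F) V) (e : ℕ) :
    Submodule k V where
  carrier := {x | (∀ t, ρ (u t) x = x) ∧ ∀ a : Fˣ, ρ (h a) x = ι (a : F) ^ e • x}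
  zero_mem' := ⟨fun _ => map_zero _, fun _ => by rw [map_zero, smul_zero]⟩
  add_mem' := fun {x y} hx hy => ⟨fun t => by rw [map_add, hx.1, hy.1], fun a => by rw [map_add, hx.2, hy.2, smul_add]⟩
  smul_mem' := fun c x hx => ⟨fun t => by rw [map_smul, hx.1], fun a => by rw [map_smul, hx.2, smul_comm]⟩

theorem mem_Ew {V : Type*} [AddCommGroup V] [Module k V] {ρ : Representation k (SpecialLinearGroup (Fin 2) F) V} {e : ℕ}
    {x : V} : x ∈ Ew ι ρ e ↔ (∀ t, ρ (u t) x = x) ∧ ∀ a : Fˣ, ρ (h a) x = ι (a : F) ^ e • x := Iff.rfl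

/-- the `U`-fixed vectors -/
def Uf {V : Type*} [AddCommGroup V] [Module k V] (ρ : Representation k (SpecialLinearGroup (Fin 2) F) V) :
    Submodule k V where
  carrier := {x | ∀ t, ρ (u t) x = x}
  zero_mem' := fun _ => map_zero _
  add_mem' := fun {x y} hx hy t => by rw [map_add, hx t, hy t]
  smul_mem' := fun c x hx t => by rw [map_smul, hx t]

theorem mem_Uf {V : Type*} [AddCommGroup V] [Module k V] {ρ : Representation k (SpecialLinearGroup (Fin 2) F) V}
    {x : V} : x ∈ Uf ρ ↔ ∀ t, ρ (u t) x = x := Iff.rfl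

variable [IsAlgClosed k]

theorem mod_of_Ew {V : Type*} [AddCommGroup V] [Module k V] {ρ : Representation k (SpecialLinearGroup (Fin 2) F) V}
    {b e : ℕ} (hV : IsV ι p ρ b) {x : V} (hx : x ∈ Ew ι ρ e) (hx0 : x ≠ 0) :
    b % (Fintype.card F - 1) = e % (Fintype.card F - 1) := by
  obtain ⟨m, hm0, -, hmh, -, hm⟩ := IsV.hw ι p hV
  obtain ⟨c, hc⟩ := hm x hx.1
  refine mod_of_pow ι fun a => ?_
  have h1 := hx.2 a
  rw [hc, map_smul, hmh, smul_comm, ← hc] at h1
  have h2 : (ι (a : F) ^ b - ι (a : F) ^ e) • x = 0 := by rw [sub_smul, h1, sub_self]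
  exact sub_eq_zero.1 ((smul_eq_zero.1 h2).resolve_right hx0)

/-- **the dimension of the highest weight spaces** -/
theorem finrank_Ew_le' {e : ℕ} (n : ℕ) : ∀ {V : Type v} [AddCommGroup V] [Module k V] [FiniteDimensional k V]
    {ρ : Representation k (SpecialLinearGroup (Fin 2) F) V} {s : Multiset ℕ}, JHn (Sy.{u, v, w} ι p) n ρ s →
    Module.finrank k (Ew ι ρ e) ≤ s.countP fun b => b % (Fintype.card F - 1) = e % (Fintype.card F - 1) := by
  induction n with
  | zero =>
    intro V _ _ _ ρ s hs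
    have := hs.1
    rw [Module.finrank_zero_of_subsingleton]
    exact Nat.zero_le _
  | succ n ih =>
    intro V _ _ _ ρ s hs
    obtain ⟨W, hW, b, t, hb, rfl, ht⟩ := hs
    have hb' : IsV ι p (subRep ρ W hW) b := hb
    let f : Ew ι ρ e →ₗ[k] Ew ι (quotRep ρ W hW) e :=
      LinearMap.codRestrict _ (W.mkQ ∘ₗ (Ew ι ρ e).subtype) (fun x => ⟨fun t => by
        show quotRep ρ W hW (u t) (W.mkQ x) = W.mkQ x
        rw [quotRep_mk, x.2.1 t], fun a => by
        show quotRep ρ W hW (h a) (W.mkQ x) = _ • W.mkQ x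
        rw [quotRep_mk, x.2.2 a, map_smul]⟩)
    have h1 := LinearMap.finrank_range_add_finrank_ker f
    have h2 : Module.finrank k (LinearMap.range f) ≤ Module.finrank k (Ew ι (quotRep ρ W hW) e) :=
      Submodule.finrank_le _
    have h3 := ih (ρ := quotRep ρ W hW) ht
    have hmem : ∀ x : LinearMap.ker f, ((x : Ew ι ρ e) : V) ∈ W := by
      intro x
      have h4 : W.mkQ ((x : Ew ι ρ e) : V) = 0 := congrArg Subtype.val (LinearMap.mem_ker.1 x.2)
      exact (Submodule.Quotient.mk_eq_zero W).1 h4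
    obtain ⟨m, hm0, -, -, -, hm⟩ := IsV.hw ι p hb'
    rw [Multiset.countP_cons]
    by_cases hbe : b % (Fintype.card F - 1) = e % (Fintype.card F - 1)
    · rw [if_pos hbe]
      have h5 : Module.finrank k (LinearMap.ker f) ≤ 1 := by
        let g : LinearMap.ker f →ₗ[k] W :=
          LinearMap.codRestrict W ((Ew ι ρ e).subtype ∘ₗ (LinearMap.ker f).subtype) hmem
        have hg : Function.Injective g := fun x y hxy => by
          have h4 : ((g x : W) : V) = ((g y : W) : V) := by rw [hxy]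
          exact Subtype.ext (Subtype.ext h4)
        have hle : LinearMap.range g ≤ Submodule.span k {m} := by
          rintro _ ⟨x, rfl⟩
          obtain ⟨c, hc⟩ := hm (g x) fun t => Subtype.ext ((x : Ew ι ρ e).2.1 t)
          rw [hc]
          exact Submodule.smul_mem _ _ (Submodule.mem_span_singleton_self _)
        have hfW : FiniteDimensional k W := hb'.finite
        rw [← LinearMap.finrank_range_of_inj hg]
        exact (Submodule.finrank_mono hle).trans (finrank_span_le_card _ |>.trans (by simp))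
      omega
    · rw [if_neg hbe]
      have h5 : LinearMap.ker f = ⊥ := by
        rw [eq_bot_iff]
        intro x hx
        by_contra hx0
        have hxW := hmem ⟨x, hx⟩
        refine hbe (mod_of_Ew ι p hb' (x := ⟨x, hxW⟩) ⟨fun t => Subtype.ext (x.2.1 t), fun a => Subtype.ext (x.2.2 a)⟩ ?_)
        intro h0
        apply hx0
        have h4 : (((⟨(x : V), hxW⟩ : W)) : V) = ((0 : W) : V) := by rw [h0]
        exact (Submodule.mem_bot k).2 (Subtype.ext h4)
      rw [h5, finrank_bot] at h1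
      omega

theorem finrank_Ew_le {V : Type v} [AddCommGroup V] [Module k V] [FiniteDimensional k V]
    (ρ : Representation k (SpecialLinearGroup (Fin 2) F) V) (e : ℕ) : Module.finrank k (Ew ι ρ e) ≤
      (cf (Sy.{u, v, w} ι p) ρ).countP fun b => b % (Fintype.card F - 1) = e % (Fintype.card F - 1) := by
  obtain ⟨n, hn⟩ := cf_spec (Sy.{u, v, w} ι p) ρ
  exact finrank_Ew_le' ι p n hn

include p in
/-- the decomposition of the vectors fixed by `U` -/
theorem Uf_le {V : Type*} [AddCommGroup V] [Module k V] (ρ : Representation k (SpecialLinearGroup (Fin 2) F) V) :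
    Uf ρ ≤ ⨆ e ∈ Finset.range (Fintype.card F - 1), Ew ι ρ e := by
  have hq := one_lt (F := F)
  intro x hx
  have hane : ∀ a : Fˣ, ι (a : F) ≠ 0 := fun a => (map_ne_zero ι).2 a.ne_zero
  -- the components
  let y : ℕ → V := fun e => ∑ a : Fˣ, ((ι (a : F))⁻¹ ^ e) • ρ (h a) x
  have hy : ∀ e, y e ∈ Ew ι ρ e := by
    intro e
    refine ⟨fun t => ?_, fun a => ?_⟩
    · show ρ (u t) (∑ a : Fˣ, ((ι (a : F))⁻¹ ^ e) • ρ (h a) x) = _
      rw [map_sum]
      refine Finset.sum_congr rfl fun a _ => ?_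
      have h1 : u t * h a = h a * u ((a : F)⁻¹ ^ 2 * t) := by
        rw [h_u, ← mul_assoc, ← mul_pow, mul_inv_cancel₀ a.ne_zero, one_pow, one_mul]
      rw [map_smul, apply_mul, h1, map_mul, Module.End.mul_apply, hx]
    · show ρ (h a) (∑ b : Fˣ, ((ι (b : F))⁻¹ ^ e) • ρ (h b) x) = ι (a : F) ^ e • ∑ b : Fˣ, ((ι (b : F))⁻¹ ^ e) • ρ (h b) x
      rw [map_sum, Finset.smul_sum]
      refine Fintype.sum_equiv (Equiv.mulLeft a) _ _ fun b => ?_
      rw [map_smul, apply_mul, ← h_mul, smul_smul]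
      show _ = (ι (a : F) ^ e * (ι ((a * b : Fˣ) : F))⁻¹ ^ e) • ρ (h (a * b)) x
      congr 1
      rw [Units.val_mul, map_mul, mul_inv, mul_pow, ← mul_assoc, ← mul_pow, mul_inv_cancel₀ (hane a), one_pow, one_mul]
  have hsum : ∑ e ∈ Finset.range (Fintype.card F - 1), y e = -x := by
    show ∑ e ∈ Finset.range (Fintype.card F - 1), ∑ a : Fˣ, ((ι (a : F))⁻¹ ^ e) • ρ (h a) x = -x
    rw [Finset.sum_comm]
    rw [Finset.sum_eq_single 1]
    · simp only [Units.val_one, map_one, inv_one, one_pow, one_smul, h_one, Module.End.one_apply]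
      rw [Finset.sum_const, Finset.card_range, ← Nat.cast_smul_eq_nsmul k, cast_Q p, neg_one_smul]
    · intro a _ ha
      rw [← Finset.sum_smul]
      have h1 : (∑ e ∈ Finset.range (Fintype.card F - 1), (ι (a : F))⁻¹ ^ e) * ((ι (a : F))⁻¹ - 1) = 0 := by
        rw [geom_sum_mul, inv_pow, powQ ι a.ne_zero, inv_one, sub_self]
      have h2 : (ι (a : F))⁻¹ - 1 ≠ 0 := by
        rw [sub_ne_zero]
        intro h3
        apply ha
        apply Units.ext
        apply ι.injective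
        rw [Units.val_one, map_one, ← inv_inv (ι (a : F)), h3, inv_one]
      rw [(mul_eq_zero.1 h1).resolve_right h2, zero_smul]
    · intro h1
      exact absurd (Finset.mem_univ _) h1
  have h2 : x = -∑ e ∈ Finset.range (Fintype.card F - 1), y e := by rw [hsum, neg_neg]
  rw [h2]
  refine Submodule.neg_mem _ (sum_mem fun e he => ?_)
  exact Submodule.mem_iSup_of_mem e (Submodule.mem_iSup_of_mem he (hy e))

end Cfsg.Agent.R2.H22.Q7
end

-- part: R2/H22/Q7
section
prune_inst 0x10040010060000000040000200000814900000000030800004008000840a000090006000c8000000002100000080000010000000200000000000000000000000001000080180000000086000000010000000000000000000000000000010000004010000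
set_option linter.all false
open scoped Cfsg.Agent.FastGrp

-- part: R2/H22/Q7b
section
/-!
# Modules of `SL(2, 7)`: the vectors fixed by `U` and the socle (helper22)
-/

set_option autoImplicit false
set_option linter.unusedSectionVars false

namespace Cfsg.Agent.R2.H22.Q7

open Matrix Cfsg.Agent.H943.SL2Rel Cfsg.Agent.H943.SL2Mod Cfsg.Agent.H943.RepAdd
open Cfsg.Agent.R2.H28.SL2

universe u v w

variable {k : Type u} [Field k] [DecidableEq k] [IsAlgClosed k] {F : Type w} [Field F] [Fintype F] [DecidableEq F]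
  (ι : F →+* k) [Fact (Nat.Prime 7)] [CharP k 7] [CharP F 7] (hF : Fintype.card F = 7)

section Nat

include hF in
theorem exists_nat (t : F) : ∃ n : ℕ, t = n := by
  obtain ⟨z, hz⟩ := (ZMod.castHom_bijective F hF).2 t
  refine ⟨z.val, ?_⟩
  rw [← hz]
  conv_lhs => rw [← ZMod.natCast_zmod_val z]
  rw [map_natCast]

end Nat

variable {V : Type v} [AddCommGroup V] [Module k V] [FiniteDimensional k V]
  {ρ : Representation k (SpecialLinearGroup (Fin 2) F) V}

include hF in
theorem Uf_eq : Uf ρ = LinearMap.ker (ρ (u 1) - 1) := by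
  ext x
  rw [mem_Uf, LinearMap.mem_ker, LinearMap.sub_apply, Module.End.one_apply, sub_eq_zero]
  refine ⟨fun hx => hx 1, fun hx t => ?_⟩
  obtain ⟨n, rfl⟩ := exists_nat hF t
  have h1 : ∀ n : ℕ, ρ (u ((n : ℕ) : F)) x = x := by
    intro n
    induction n with
    | zero => rw [Nat.cast_zero, u_zero, map_one, Module.End.one_apply]
    | succ n ih => rw [Nat.cast_succ, u_add, map_mul, Module.End.mul_apply, hx, ih]
  exact h1 n

include hF in
/-- **the dimension** -/
theorem finrank_le_uf : Module.finrank k V ≤ 7 * Module.finrank k (Uf ρ) := by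
  have h1 : (ρ (u 1) - 1) ^ 7 = 0 := by
    have h2 : (Polynomial.X - 1 : Polynomial k) ^ 7 = Polynomial.X ^ 7 - 1 := by
      rw [sub_pow_char, one_pow]
    have h3 := congrArg (Polynomial.aeval (ρ (u 1) : Module.End k V)) h2
    rw [map_pow, map_sub, Polynomial.aeval_X, map_one, map_sub, map_pow, Polynomial.aeval_X, map_one,
      u_pow_p ρ 7 (1 : F), sub_self] at h3
    exact h3
  have h2 := finrank_ker_pow_le (ρ (u 1) - 1) 7
  rw [h1, ← Uf_eq hF] at h2
  have h3 : LinearMap.ker (0 : V →ₗ[k] V) = ⊤ := LinearMap.ker_zero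
  rw [h3, finrank_top] at h2
  exact h2

include hF in
/-- the decomposition of `V ^ U` for an even module -/
theorem finrank_uf_le (hev : ∀ b ∈ cf (Sy.{u, v, w} ι 7) ρ, b % 2 = 0) :
    Module.finrank k (Uf ρ) ≤ Module.finrank k (Ew ι ρ 0) + Module.finrank k (Ew ι ρ 2) + Module.finrank k (Ew ι ρ 4) := by
  have hodd : ∀ e, e % 2 = 1 → Ew ι ρ e = ⊥ := by
    intro e he
    rw [← Submodule.finrank_eq_zero (R := k)]
    have h1 := finrank_Ew_le ι 7 ρ e
    have h2 : (cf (Sy.{u, v, w} ι 7) ρ).countP (fun b => b % (Fintype.card F - 1) = e % (Fintype.card F - 1)) = 0 := by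
      rw [Multiset.countP_eq_zero]
      intro b hb h3
      have := hev b hb
      rw [hF] at h3
      omega
    omega
  have h1 : Uf ρ ≤ Ew ι ρ 0 ⊔ Ew ι ρ 2 ⊔ Ew ι ρ 4 := by
    refine (Uf_le ι 7 ρ).trans ?_
    rw [hF]
    refine iSup₂_le fun e he => ?_
    rw [Finset.mem_range] at he
    interval_cases e
    · exact le_sup_left.trans le_sup_left
    · rw [hodd 1 rfl]; exact bot_le
    · exact le_sup_right.trans le_sup_left
    · rw [hodd 3 rfl]; exact bot_le
    · exact le_sup_right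
    · rw [hodd 5 rfl]; exact bot_le
  refine (Submodule.finrank_mono h1).trans ((Submodule.finrank_add_le_finrank_add_finrank _ _).trans ?_)
  exact Nat.add_le_add_right (Submodule.finrank_add_le_finrank_add_finrank _ _) _

include hF in
theorem isV_rb {b : ℕ} (hb : b ≤ 6) : ∃ (B : Type (max u w)) (_ : AddCommGroup B) (_ : Module k B)
    (σ : Representation k (SpecialLinearGroup (Fin 2) F) B), IsV ι 7 σ b := by
  have hb' : b ≤ Fintype.card F - 1 := by omega
  exact ⟨Vb ι b, _, _, RB ι 7 hb', hb', LinearEquiv.refl _ _, fun _ _ => rfl⟩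

include hF in
/-- **weight 0** -/
theorem six_soc (fix : ∀ x, (∀ g, ρ g x = x) → x = 0) {x : V} (hx : x ∈ Ew ι ρ 0) (hx0 : x ≠ 0) :
    ∃ (X : Submodule k V) (hX : ∀ g, ∀ y ∈ X, ρ g y ∈ X), IsV ι 7 (subRep ρ X hX) 6 ∧ x ∈ X := by
  have hh : ∀ a : Fˣ, ρ (h a) x = x := fun a => by rw [hx.2, pow_zero, one_smul]
  have hS : SS ρ x = cb k F 6 • x := by
    have h1 := fix _ (avg_fixed ρ hx.1 hh)
    rw [SS_apply]
    unfold cb
    rw [if_neg (by omega), neg_one_smul]
    exact (neg_eq_of_add_eq_zero_right h1).symm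
  obtain ⟨B, _, _, σ, hσ⟩ := isV_rb ι hF (b := 6) le_rfl
  obtain ⟨m, hm0, hmu, -⟩ := IsV.hw ι 7 hσ
  obtain ⟨f, hf, hfm⟩ := gen_hw ι 7 ρ (a := 1) (by rw [hF, pow_one]) hσ hm0 hmu hx.1 (fun a => by
    rw [hh]
    have h2 := powQ ι (F := F) a.ne_zero
    rw [hF] at h2
    rw [h2, one_smul]) hS (fun i hi h3 => by
      have : i = 0 := by omega
      subst this
      norm_num at h3)
  have hf0 : f ≠ 0 := by
    rintro rfl
    exact hx0 (by rw [← hfm]; rfl)
  have hker : LinearMap.ker f = ⊥ := by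
    rcases hσ.irr.2 (LinearMap.ker f) (fun g y hy => by
      rw [LinearMap.mem_ker] at hy ⊢
      rw [hf, hy, map_zero]) with h4 | h4
    · exact h4
    · exact absurd (LinearMap.ker_eq_top.1 h4) hf0
  have hX : ∀ g, ∀ y ∈ LinearMap.range f, ρ g y ∈ LinearMap.range f := by
    rintro g _ ⟨y, rfl⟩
    exact ⟨_, hf g y⟩
  refine ⟨LinearMap.range f, hX, ?_, ⟨m, hfm⟩⟩
  exact IsV.iso ι 7 (LinearEquiv.ofInjective f (LinearMap.ker_eq_bot.1 hker)) (fun g y => Subtype.ext (hf g y)) hσ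

include hF in
/-- **6 in the socle of the dual** -/
theorem six_dual (fix : ∀ x, (∀ g, ρ g x = x) → x = 0) {V' : Type v} [AddCommGroup V'] [Module k V']
    [FiniteDimensional k V'] {ρ' : Representation k (SpecialLinearGroup (Fin 2) F) V'} {P : V →ₗ[k] V' →ₗ[k] k}
    (D : Dul ρ ρ' P) (h' : InSoc ι 7 ρ' 6) : InSoc ι 7 ρ 6 := by
  obtain ⟨X', hX', hb'⟩ := h'
  obtain ⟨B₁, D₁, -⟩ := D.flip.sub hX'
  have hK := D.flip.orth_inv hX'
  have h2 : IsV ι 7 (quotRep ρ (orth P.flip X') hK) 6 := IsV.dual ι 7 hb' D₁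
  obtain ⟨m, hm0, hmu, hmh, hmS, -⟩ := IsV.hw ι 7 h2
  obtain ⟨x, hx⟩ := (orth P.flip X').mkQ_surjective (quotRep ρ (orth P.flip X') hK w m)
  have hmem : ∀ z : V, (orth P.flip X').mkQ z = 0 → z ∈ orth P.flip X' := fun z hz => (Submodule.Quotient.mk_eq_zero _).1 hz
  have hpow : ∀ a : Fˣ, ι (a : F) ^ 6 = 1 := by
    intro a
    have h3 := powQ ι (F := F) a.ne_zero
    rwa [hF] at h3
  obtain ⟨x₀, hx₀, hx₀h⟩ := exists_tavg ι 7 ρ (orth P.flip X') (c := 0) (x := x) (fun a => by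
    refine hmem _ ?_
    rw [map_sub, ← quotRep_mk ρ _ hK, pow_zero, one_smul, hx, apply_mul, h_w, map_mul, Module.End.mul_apply, hmh,
      hpow, one_smul, sub_self])
  have hy : ∑ t : F, ρ (u t) x₀ ∈ Ew ι ρ 0 := by
    refine ⟨fun s => ?_, fun a => ?_⟩
    · rw [map_sum]
      refine Fintype.sum_equiv (Equiv.addLeft s) _ _ fun t => ?_
      rw [apply_mul, ← u_add]
      rfl
    · rw [map_sum, pow_zero, one_smul]
      have ha : (a : F) ^ 2 ≠ 0 := pow_ne_zero _ a.ne_zero
      refine Fintype.sum_equiv (Equiv.mulLeft₀ ((a : F) ^ 2) ha) _ _ fun t => ?_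
      rw [apply_mul, h_u, map_mul, Module.End.mul_apply, hx₀h, pow_zero, one_smul]
      rfl
  have hy0 : ∑ t : F, ρ (u t) x₀ ≠ 0 := by
    intro h0
    have h3 : (orth P.flip X').mkQ x₀ = quotRep ρ (orth P.flip X') hK w m := by
      rw [← hx, ← sub_eq_zero, ← map_sub]
      exact (Submodule.Quotient.mk_eq_zero _).2 hx₀
    have h4 : SS (quotRep ρ (orth P.flip X') hK) m = 0 := by
      rw [SS_apply, ← h3]
      have h5 : ∀ t : F, quotRep ρ (orth P.flip X') hK (u t) ((orth P.flip X').mkQ x₀) =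
          (orth P.flip X').mkQ (ρ (u t) x₀) := fun t => rfl
      rw [Finset.sum_congr rfl fun t _ => h5 t, ← map_sum, h0, map_zero]
    rw [hmS] at h4
    unfold cb at h4
    rw [if_neg (by omega), neg_one_smul, neg_eq_zero] at h4
    exact hm0 h4
  obtain ⟨X, hX, hb, -⟩ := six_soc ι hF fix hy hy0
  exact ⟨X, hX, hb⟩

/-- the submodule generated by a highest weight vector -/
theorem exists_gen {e : ℕ} {x : V} (hx : x ∈ Ew ι ρ e) : ∃ N : Submodule k V, (∀ g, ∀ y ∈ N, ρ g y ∈ N) ∧ x ∈ N ∧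
    Module.finrank k N ≤ Fintype.card F + 1 := by
  classical
  let s : Finset V := insert x (Finset.univ.image fun t : F => ρ (u t) (ρ w x))
  have hsub : ∀ t : F, ρ (u t) (ρ w x) ∈ Submodule.span k (s : Set V) := fun t =>
    Submodule.subset_span (Finset.mem_coe.2 (Finset.mem_insert_of_mem (Finset.mem_image_of_mem _ (Finset.mem_univ t))))
  have hxs : x ∈ Submodule.span k (s : Set V) := Submodule.subset_span (Finset.mem_coe.2 (Finset.mem_insert_self _ _))
  have hD : UFix ρ (Submodule.span k {x}) := by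
    intro t d hd
    obtain ⟨c, rfl⟩ := Submodule.mem_span_singleton.1 hd
    rw [map_smul, hx.1]
  have key : ∀ g : SpecialLinearGroup (Fin 2) F, (∀ y ∈ (s : Set V), ρ g y ∈ Submodule.span k (s : Set V)) →
      ∀ y ∈ Submodule.span k (s : Set V), ρ g y ∈ Submodule.span k (s : Set V) := by
    intro g hg y hy
    have h1 : Submodule.span k (s : Set V) ≤ (Submodule.span k (s : Set V)).comap (ρ g) := Submodule.span_le.2 hg
    exact h1 hy
  have hs : ∀ y ∈ (s : Set V), y = x ∨ ∃ t : F, y = ρ (u t) (ρ w x) := by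
    intro y hy
    rcases Finset.mem_insert.1 (Finset.mem_coe.1 hy) with h1 | h1
    · exact Or.inl h1
    · obtain ⟨t, -, rfl⟩ := Finset.mem_image.1 h1
      exact Or.inr ⟨t, rfl⟩
  refine ⟨Submodule.span k (s : Set V), fun g => ?_, hxs, ?_⟩
  · refine induct (P := fun g => ∀ y ∈ Submodule.span k (s : Set V), ρ g y ∈ Submodule.span k (s : Set V)) ?_ ?_ ?_ ?_ g
    · intro r
      refine key _ fun y hy => ?_
      rcases hs y hy with rfl | ⟨t, rfl⟩
      · rw [hx.1]; exact hxs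
      · rw [apply_mul, ← u_add]; exact hsub _
    · intro a
      refine key _ fun y hy => ?_
      rcases hs y hy with rfl | ⟨t, rfl⟩
      · rw [hx.2]; exact Submodule.smul_mem _ _ hxs
      · rw [apply_mul3, h_u, mul_assoc, h_w, map_mul, map_mul]
        show ρ (u ((a : F) ^ 2 * t)) (ρ w (ρ (h a⁻¹) x)) ∈ _
        rw [hx.2, map_smul, map_smul]
        exact Submodule.smul_mem _ _ (hsub _)
    · refine key _ fun y hy => ?_
      rcases hs y hy with rfl | ⟨t, rfl⟩
      · have h1 := hsub 0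
        rwa [u_zero, map_one, Module.End.one_apply] at h1
      · by_cases ht : t = 0
        · rw [ht, u_zero, map_one, Module.End.one_apply, ww, hx.2]
          exact Submodule.smul_mem _ _ hxs
        · rw [wuw ρ hD ht (Submodule.mem_span_singleton_self x), hx.2, map_smul, map_smul]
          exact Submodule.smul_mem _ _ (hsub _)
    · intro a b ha hb y hy
      rw [map_mul, Module.End.mul_apply]
      exact ha _ (hb _ hy)
  · refine (finrank_span_finset_le_card s).trans ?_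
    refine (Finset.card_insert_le _ _).trans ?_
    have h1 : (Finset.univ.image fun t : F => ρ (u t) (ρ w x)).card ≤ Fintype.card F := Finset.card_image_le
    omega

/-- dimensions -/
theorem card_Bf_small {b : ℕ} (hb : b < 7) : (Bf k b).card = b + 1 := by
  have h1 := card_Bf_low k 7 b
  rw [Nat.mod_eq_of_lt hb, Nat.div_eq_of_lt hb, card_Bf_zero, mul_one] at h1
  exact h1

include hF in
/-- **weight 4** -/
theorem four_soc (hsoc : ∀ b, InSoc ι 7 ρ b → b = 4 ∨ b = 6) {x : V} (hx : x ∈ Ew ι ρ 4) (hx0 : x ≠ 0) :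
    ∃ (X : Submodule k V) (hX : ∀ g, ∀ y ∈ X, ρ g y ∈ X), IsV ι 7 (subRep ρ X hX) 4 ∧ x ∈ X := by
  obtain ⟨N, hN, hxN, hdim⟩ := exists_gen ι hx
  have hN0 : N ≠ ⊥ := by
    rintro rfl
    exact hx0 ((Submodule.mem_bot k).1 hxN)
  obtain ⟨c, hc1, hc2⟩ := exists_inSoc_sub ι 7 hN hN0
  have hlt : ∀ {A : Type v} [AddCommGroup A] [Module k A] [FiniteDimensional k A]
      (τ : Representation k (SpecialLinearGroup (Fin 2) F) A), ∀ b ∈ cf (Sy.{u, v, w} ι 7) τ, b < 7 := by
    intro A _ _ _ τ b hb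
    have := cf_lt ι 7 (a := 1) (by rw [hF, pow_one]) τ b hb
    rwa [pow_one] at this
  obtain ⟨Y, hY, hYc⟩ := hc1
  -- `x ∈ Y`
  have hxY : (⟨x, hxN⟩ : N) ∈ Y := by
    by_contra hxY
    obtain ⟨b, hb, hb4⟩ := mem_cf_of_hw ι 7 (ρ := quotRep (subRep ρ N hN) Y hY) (e := 4) (x := Y.mkQ ⟨x, hxN⟩)
      (fun h0 => hxY ((Submodule.Quotient.mk_eq_zero Y).1 h0)) (fun t => by
        rw [quotRep_mk]
        congr 1
        exact Subtype.ext (hx.1 t)) (fun a => by
        rw [quotRep_mk, ← map_smul]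
        congr 1
        exact Subtype.ext (hx.2 a))
    have hb7 := hlt _ b hb
    rw [hF] at hb4
    have hb' : b = 4 := by omega
    have h1 := finrank_cf ι 7 _ (N ⧸ Y) (quotRep (subRep ρ N hN) Y hY) le_rfl
    obtain ⟨s, hs⟩ := Multiset.exists_cons_of_mem hb
    rw [hs, Multiset.map_cons, Multiset.sum_cons, card_Bf_small hb7] at h1
    have h2 := IsV.finrank ι hYc
    have h3 : c < 7 := hlt ρ c hc2.mem_cf
    rw [card_Bf_small h3] at h2
    have h4 := Submodule.finrank_quotient_add_finrank Y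
    have h5 := hsoc c hc2
    rw [hF] at hdim
    omega
  have hc4 : c = 4 := by
    have h1 := mod_of_Ew ι 7 hYc (e := 4) (x := ⟨⟨x, hxN⟩, hxY⟩) ⟨fun t => Subtype.ext (Subtype.ext (hx.1 t)),
      fun a => Subtype.ext (Subtype.ext (hx.2 a))⟩ (fun h0 => by
        have h2 : (((⟨⟨x, hxN⟩, hxY⟩ : Y) : N) : V) = (((0 : Y) : N) : V) := by rw [h0]
        exact hx0 h2)
    rw [hF] at h1
    have h5 := hsoc c hc2
    omega
  subst hc4
  obtain ⟨hY', e, he⟩ := eqv_map (subRep ρ N hN) ρ N.subtype (fun _ _ => rfl) N.injective_subtype Y hY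
  exact ⟨Y.map N.subtype, hY', IsV.iso ι 7 e he hYc, ⟨⟨x, hxN⟩, hxY, rfl⟩⟩

end Cfsg.Agent.R2.H22.Q7
end

-- part: R2/H22/Q7
section
/-!
# `q = 7` (helper22)

`patA`, `patB` : the two patterns; `q7_false`.
-/

set_option autoImplicit false
set_option linter.unusedSectionVars false

namespace Cfsg.Agent.R2.H22.Q7

open Matrix Cfsg.Agent.H943.SL2Rel Cfsg.Agent.H943.SL2Mod Cfsg.Agent.H943.RepAdd
open Cfsg.Agent.R2.H28.SL2
open Cfsg.Agent.H179.SLC (fx mem_fx)

universe u v w

variable {k : Type u} [Field k] [DecidableEq k] [IsAlgClosed k] {F : Type w} [Field F] [Fintype F] [DecidableEq F]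
  (ι : F →+* k) [Fact (Nat.Prime 7)] [CharP k 7] [CharP F 7] (hF : Fintype.card F = 7)

variable {V : Type v} [AddCommGroup V] [Module k V] [FiniteDimensional k V]
  {ρ : Representation k (SpecialLinearGroup (Fin 2) F) V}

/-- two independent submodules -/
theorem exists_two {b e : ℕ} (H : ∀ x ∈ Ew ι ρ e, x ≠ 0 → ∃ (X : Submodule k V) (hX : ∀ g, ∀ y ∈ X, ρ g y ∈ X),
      IsV ι 7 (subRep ρ X hX) b ∧ x ∈ X) (h2 : 2 ≤ Module.finrank k (Ew ι ρ e)) :
    ∃ (X Y : Submodule k V) (hX : ∀ g, ∀ y ∈ X, ρ g y ∈ X) (hY : ∀ g, ∀ y ∈ Y, ρ g y ∈ Y),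
      IsV ι 7 (subRep ρ X hX) b ∧ IsV ι 7 (subRep ρ Y hY) b ∧ X ⊓ Y = ⊥ := by
  have h0 : Ew ι ρ e ≠ ⊥ := by
    intro h0
    rw [h0, finrank_bot] at h2
    omega
  obtain ⟨x, hx, hx0⟩ := Submodule.exists_mem_ne_zero_of_ne_bot h0
  obtain ⟨y, hy, hyx⟩ : ∃ y ∈ Ew ι ρ e, y ∉ Submodule.span k {x} := by
    by_contra hc
    have h3 : Ew ι ρ e ≤ Submodule.span k {x} := by
      intro y hy
      by_contra h4
      exact hc ⟨y, hy, h4⟩
    have h4 := Submodule.finrank_mono h3
    have h5 : Module.finrank k (Submodule.span k {x}) ≤ 1 := (finrank_span_le_card _).trans (by simp)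
    omega
  have hy0 : y ≠ 0 := by
    rintro rfl
    exact hyx (Submodule.zero_mem _)
  obtain ⟨X, hX, hXb, hxX⟩ := H x hx hx0
  obtain ⟨Y, hY, hYb, hyY⟩ := H y hy hy0
  refine ⟨X, Y, hX, hY, hXb, hYb, ?_⟩
  rcases IsV.inf_or_le ι 7 hXb hY with h | h
  · exact h
  · exfalso
    obtain ⟨m, hm0, -, -, -, hm⟩ := IsV.hw ι 7 hYb
    obtain ⟨c, hc⟩ := hm ⟨x, h hxX⟩ fun t => Subtype.ext (hx.1 t)
    obtain ⟨d, hd⟩ := hm ⟨y, hyY⟩ fun t => Subtype.ext (hy.1 t)
    have hc' : x = c • (m : V) := congrArg Subtype.val hc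
    have hd' : y = d • (m : V) := congrArg Subtype.val hd
    have hc0 : c ≠ 0 := by
      rintro rfl
      rw [zero_smul] at hc'
      exact hx0 hc'
    apply hyx
    rw [Submodule.mem_span_singleton]
    exact ⟨d * c⁻¹, by rw [hc', hd', smul_smul, mul_assoc, inv_mul_cancel₀ hc0, mul_one]⟩

/-- the image in the quotient by a disjoint submodule -/
theorem isV_map {X Y : Submodule k V} {hX : ∀ g, ∀ y ∈ X, ρ g y ∈ X} {hY : ∀ g, ∀ y ∈ Y, ρ g y ∈ Y} {b : ℕ}
    (hb : IsV ι 7 (subRep ρ Y hY) b) (h : X ⊓ Y = ⊥) :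
    ∃ hZ : ∀ g, ∀ y ∈ Y.map X.mkQ, quotRep ρ X hX g y ∈ Y.map X.mkQ,
      IsV ι 7 (subRep (quotRep ρ X hX) (Y.map X.mkQ) hZ) b := by
  have hZ : ∀ g, ∀ y ∈ Y.map X.mkQ, quotRep ρ X hX g y ∈ Y.map X.mkQ := by
    rintro g _ ⟨y, hy, rfl⟩
    exact ⟨_, hY g y hy, rfl⟩
  refine ⟨hZ, ?_⟩
  let f : Y →ₗ[k] Y.map X.mkQ := LinearMap.codRestrict _ (X.mkQ ∘ₗ Y.subtype) fun y => ⟨y, y.2, rfl⟩
  have hi : Function.Injective f := by
    rw [← LinearMap.ker_eq_bot, LinearMap.ker_eq_bot']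
    intro y hy
    have h1 : X.mkQ (y : V) = 0 := congrArg Subtype.val hy
    have h2 : (y : V) ∈ X ⊓ Y := ⟨(Submodule.Quotient.mk_eq_zero _).1 h1, y.2⟩
    rw [h, Submodule.mem_bot] at h2
    exact Subtype.ext h2
  exact IsV.iso ι 7 (LinearEquiv.ofBijective f ⟨hi, by
    rintro ⟨_, y, hy, rfl⟩
    exact ⟨⟨y, hy⟩, rfl⟩⟩) (fun g y => Subtype.ext rfl) hb

/-- two composition factors -/
theorem two_le_count {X Y : Submodule k V} {hX : ∀ g, ∀ y ∈ X, ρ g y ∈ X} {hY : ∀ g, ∀ y ∈ Y, ρ g y ∈ Y} {b : ℕ}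
    (hXb : IsV ι 7 (subRep ρ X hX) b) (hYb : IsV ι 7 (subRep ρ Y hY) b) (h : X ⊓ Y = ⊥) :
    2 ≤ (cf (Sy.{u, v, w} ι 7) ρ).count b := by
  obtain ⟨hZ, hZb⟩ := isV_map ι (hX := hX) hYb h
  have h1 : InSoc ι 7 (quotRep ρ X hX) b := ⟨_, hZ, hZb⟩
  have h2 := Multiset.one_le_count_iff_mem.2 h1.mem_cf
  rw [cf_add (Sy.{u, v, w} ι 7) ρ X hX, cf_irr (Sy.{u, v, w} ι 7) hXb, Multiset.count_add, Multiset.count_singleton_self]
  omega

variable {V' : Type v} [AddCommGroup V'] [Module k V']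
    [FiniteDimensional k V'] {ρ' : Representation k (SpecialLinearGroup (Fin 2) F) V'} {P : V →ₗ[k] V' →ₗ[k] k}

include hF in
/-- **the pattern `0, 0, 2, 4, 4, 4, 6`** -/
theorem patB (D : Dul ρ ρ' P) (fix : ∀ x, (∀ g, ρ g x = x) → x = 0) (fix' : ∀ x, (∀ g, ρ' g x = x) → x = 0)
    (hcf : cf (Sy.{u, v, w} ι 7) ρ = {0, 0, 2, 4, 4, 4, 6}) (hsoc' : ∀ b, InSoc ι 7 ρ' b → b = 4 ∨ b = 6) : False := by
  have hcf' : cf (Sy.{u, v, w} ι 7) ρ' = {0, 0, 2, 4, 4, 4, 6} := by rw [cf_dual ι 7 D, hcf]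
  have e1 : Module.finrank k (Ew ι ρ' 0) ≤ 1 := by
    by_contra hc
    obtain ⟨X, Y, hX, hY, hXb, hYb, h⟩ := exists_two ι (b := 6) (e := 0) (fun x hx hx0 => six_soc ι hF fix' hx hx0) (by omega)
    have h1 := two_le_count ι hXb hYb h
    rw [hcf'] at h1
    have h2 : Multiset.count 6 ({0, 0, 2, 4, 4, 4, 6} : Multiset ℕ) = 1 := by decide
    omega
  have e2 : Module.finrank k (Ew ι ρ' 2) ≤ 1 := by
    refine (finrank_Ew_le ι 7 ρ' 2).trans ?_
    rw [hcf', hF]
    decide
  have e3 := finrank_uf_le ι hF (ρ := ρ') (by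
    rw [hcf']
    decide)
  have e4 := finrank_le_uf hF (ρ := ρ')
  have e5 : Module.finrank k V' = 27 := by
    rw [finrank_cf ι 7 _ V' ρ' le_rfl, hcf']
    simp only [Multiset.insert_eq_cons, Multiset.map_cons, Multiset.sum_cons, Multiset.map_singleton,
      Multiset.sum_singleton]
    rw [card_Bf_small (by norm_num), card_Bf_small (by norm_num), card_Bf_small (by norm_num), card_Bf_small (by norm_num)]
    norm_num
  obtain ⟨X, Y, hX, hY, hXb, hYb, hXY⟩ := exists_two ι (b := 4) (e := 4)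
    (fun x hx hx0 => four_soc ι hF hsoc' hx hx0) (by omega)
  -- the dual submodules
  obtain ⟨B₁, D₁, -⟩ := D.flip.quot hX
  obtain ⟨hZ, hZb⟩ := isV_map ι (hX := hX) hYb hXY
  obtain ⟨B₂, D₂, -⟩ := D₁.quot hZ
  have hW := D.flip.orth_inv hX
  have hW₂ := D₁.orth_inv hZ
  have c1 : cf (Sy.{u, v, w} ι 7) ρ' = {4} + ({4} + cf (Sy.{u, v, w} ι 7) (subRep (subRep ρ (orth P.flip X) hW) (orth B₁ (Y.map X.mkQ)) hW₂)) := by
    rw [cf_add (Sy.{u, v, w} ι 7) ρ' X hX, cf_irr (Sy.{u, v, w} ι 7) hXb,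
      cf_add (Sy.{u, v, w} ι 7) (quotRep ρ' X hX) (Y.map X.mkQ) hZ, cf_irr (Sy.{u, v, w} ι 7) hZb, cf_dual ι 7 D₂]
  have c2 : cf (Sy.{u, v, w} ι 7) (subRep (subRep ρ (orth P.flip X) hW) (orth B₁ (Y.map X.mkQ)) hW₂) = {0, 0, 2, 4, 6} := by
    rw [hcf'] at c1
    have c3 : ({0, 0, 2, 4, 4, 4, 6} : Multiset ℕ) = {4} + ({4} + {0, 0, 2, 4, 6}) := by decide
    rw [c3] at c1
    exact (add_left_cancel (add_left_cancel c1)).symm
  have h1 := pressure_cf ι 7 (a := 1) (by rw [hF, pow_one])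
    (subRep (subRep ρ (orth P.flip X) hW) (orth B₁ (Y.map X.mkQ)) hW₂)
  rw [c2, fx_eq_bot] at h1
  · have h2 : Hs 7 1 ({0, 0, 2, 4, 6} : Multiset ℕ) = 1 := by decide
    have h3 : Multiset.count 0 ({0, 0, 2, 4, 6} : Multiset ℕ) = 2 := by decide
    omega
  · intro x hx
    apply Subtype.ext
    apply Subtype.ext
    refine fix _ fun g => ?_
    have h2 := congrArg (fun z : ↥(orth B₁ (Y.map X.mkQ)) => ((z : ↥(orth P.flip X)) : V)) (hx g)
    exact h2

include hF in
/-- **the pattern `2, 2, 2, 2, 2, 4, 6`** -/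
theorem patA (D : Dul ρ ρ' P) (fix : ∀ x, (∀ g, ρ g x = x) → x = 0) (fix' : ∀ x, (∀ g, ρ' g x = x) → x = 0)
    (hcf : cf (Sy.{u, v, w} ι 7) ρ = {2, 2, 2, 2, 2, 4, 6}) (hsoc : ∀ b, InSoc ι 7 ρ b → b = 4 ∨ b = 6)
    (hsoc' : ∀ b, InSoc ι 7 ρ' b → b = 4 ∨ b = 6) : False := by
  by_cases h6 : InSoc ι 7 ρ 6
  · have h6' : InSoc ι 7 ρ' 6 := six_dual ι hF fix' D.flip h6
    obtain ⟨X, hX, hXb⟩ := h6
    obtain ⟨K, hK, hXK, h6K⟩ := exists_compl_of_both ι 7 D hX hXb h6' (by rw [hcf]; decide)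
    obtain ⟨B₁, D₁, -⟩ := D.quot hX
    have c1 : cf (Sy.{u, v, w} ι 7) (quotRep ρ X hX) = {2, 2, 2, 2, 2, 4} := by
      have c2 := cf_add (Sy.{u, v, w} ι 7) ρ X hX
      rw [hcf, cf_irr (Sy.{u, v, w} ι 7) hXb] at c2
      have c3 : ({2, 2, 2, 2, 2, 4, 6} : Multiset ℕ) = {6} + {2, 2, 2, 2, 2, 4} := by decide
      rw [c3] at c2
      exact (add_left_cancel c2).symm
    refine kill_typ ι 7 D₁ (fun b => b = 4) (by rw [c1]; decide) (fun c hc => ?_) (fun c hc => ?_) (by rw [c1]; decide)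
    · have h1 := hc.mem_cf
      rw [c1] at h1
      obtain ⟨e, he⟩ := eqv_of_compl hX hK hXK
      have h2 : InSoc ι 7 ρ c := (hc.iso ι 7 (e.symm : (V ⧸ X) →ₗ[k] K) (fun g x => by
        apply e.injective
        show e (e.symm _) = e _
        rw [e.apply_symm_apply, he]
        show _ = quotRep ρ X hX g (e (e.symm x))
        rw [e.apply_symm_apply]) e.symm.injective).iso ι 7 K.subtype (fun _ _ => rfl) K.injective_subtype
      rcases hsoc c h2 with h3 | h3
      · exact h3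
      · subst h3
        exact absurd h1 (by decide)
    · have h1 := hc.mem_cf
      rw [cf_dual ι 7 D₁, c1] at h1
      have h2 : InSoc ι 7 ρ' c := hc.iso ι 7 (orth P X).subtype (fun _ _ => rfl) (orth P X).injective_subtype
      rcases hsoc' c h2 with h3 | h3
      · exact h3
      · subst h3
        exact absurd h1 (by decide)
  · have h6' : ¬ InSoc ι 7 ρ' 6 := fun h => h6 (six_dual ι hF fix D h)
    refine kill_typ ι 7 D (fun b => b = 4) (by rw [hcf]; decide) (fun c hc => ?_) (fun c hc => ?_) (by rw [hcf]; decide)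
    · rcases hsoc c hc with h3 | h3
      · exact h3
      · subst h3
        exact absurd hc h6
    · rcases hsoc' c hc with h3 | h3
      · exact h3
      · subst h3
        exact absurd hc h6'

end Cfsg.Agent.R2.H22.Q7

namespace Cfsg.Agent.R2.H22.Q7

open Matrix Cfsg.Agent.H943.SL2Rel Cfsg.Agent.H943.SL2Mod Cfsg.Agent.H943.RepAdd
open Cfsg.Agent.R2.H28.SL2
open Cfsg.Lie
open Cfsg.Agent.ChevalleyStructure Cfsg.Agent.ChevalleyStructure.E6Form.Cubic
  Cfsg.Agent.ChevalleyStructure.E6Form.Table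
open Cfsg.Agent.ChevalleyStructure.E6Min.Basic (Zgrp)
open Cfsg.Agent.R2.SL2 (typ tyl coe_tyl tyl_eq_nil)
open Cfsg.Agent.R2.H22.Loc (Nts not_inSoc_two)

universe u v w

variable {k : Type u} [Field k] [DecidableEq k] [IsAlgClosed k] {K : Type w} [Field K] [Fintype K] [DecidableEq K]
  (ι : K →+* k) {p a : ℕ} [Fact p.Prime] [CharP k p] [CharP K p]
  {ψ : SpecialLinearGroup (Fin 2) K →* ↥(Zgrp k)} {ρ ρ' : Representation k ↥(Zgrp k) (I27 → k)}

/-- the labels below 7 -/
theorem sum_tyl [Fact (Nat.Prime 7)] {b : ℕ} (hb : b < 7) : (tyl 7 b).sum = b := by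
  rcases Nat.eq_zero_or_pos b with rfl | h0
  · rw [tyl_eq_nil.2 rfl]
    rfl
  · have h1 := tyl_single (p := 7) h0 hb 0
    rw [pow_zero, mul_one] at h1
    rw [h1]
    simp

/-- **`q = 7`** -/
theorem q7_false (f : Fra p a ψ ρ ρ') (hp7 : p = 7) (ha : a = 1) (nts : Nts ψ ρ) (nts' : Nts ψ ρ')
    {W : List (List ℕ)} (hW : W = [[], [], [2], [4], [4], [4], [6]] ∨ W = [[2], [2], [2], [2], [2], [4], [6]])
    (hw : (W : Multiset (List ℕ)) = (cf (Sy.{u, u, w} ι p) (Rr ρ ψ)).map (tyl p)) : False := by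
  subst hp7
  subst ha
  have hF : Fintype.card K = 7 := by rw [f.card, pow_one]
  have hlt : ∀ b ∈ cf (Sy.{u, u, w} ι 7) (Rr ρ ψ), b < 7 := by
    intro b hb
    have := cf_lt ι 7 f.card (Rr ρ ψ) b hb
    rwa [pow_one] at this
  have hcf : cf (Sy.{u, u, w} ι 7) (Rr ρ ψ) = (W.map List.sum : List ℕ) := by
    have h1 := congrArg (Multiset.map List.sum) hw
    rw [Multiset.map_map, Multiset.map_coe] at h1
    rw [h1]
    conv_lhs => rw [← Multiset.map_id (cf (Sy.{u, u, w} ι 7) (Rr ρ ψ))]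
    exact Multiset.map_congr rfl fun b hb => (sum_tyl (hlt b hb)).symm
  have h2 : ¬ InSoc ι 7 (Rr ρ ψ) 2 := by
    have := not_inSoc_two (ι := ι) f (by norm_num) (by omega) nts nts' 0
    rwa [pow_zero, mul_one] at this
  have h2' : ¬ InSoc ι 7 (Rr ρ' ψ) 2 := by
    have := not_inSoc_two (ι := ι) f.swap (by norm_num) (by omega) nts' nts 0
    rwa [pow_zero, mul_one] at this
  have hlab : ∀ b, b ∈ cf (Sy.{u, u, w} ι 7) (Rr ρ ψ) → b = 0 ∨ b = 2 ∨ b = 4 ∨ b = 6 := by
    intro b hb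
    have h3 := hlt b hb
    have h4 := f.even ι b hb
    rw [Nat.even_iff] at h4
    omega
  have hsoc : ∀ b, InSoc ι 7 (Rr ρ ψ) b → b = 4 ∨ b = 6 := by
    intro b hb
    have h3 := f.soc_ne_zero ι hb
    rcases hlab b hb.mem_cf with h4 | h4 | h4 | h4
    · exact absurd h4 h3
    · subst h4
      exact absurd hb h2
    · exact Or.inl h4
    · exact Or.inr h4
  have hsoc' : ∀ b, InSoc ι 7 (Rr ρ' ψ) b → b = 4 ∨ b = 6 := by
    intro b hb
    have h3 := f.swap.soc_ne_zero ι hb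
    rcases hlab b (by rw [← f.cf_eq ι]; exact hb.mem_cf) with h4 | h4 | h4 | h4
    · exact absurd h4 h3
    · subst h4
      exact absurd hb h2'
    · exact Or.inl h4
    · exact Or.inr h4
  rcases hW with rfl | rfl
  · refine patB ι hF f.dul f.fix f.fix' ?_ hsoc'
    rw [hcf]
    rfl
  · refine patA ι hF f.dul f.fix f.fix' ?_ hsoc hsoc'
    rw [hcf]
    rfl

end Cfsg.Agent.R2.H22.Q7
end
end
end
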