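import Mathlib
import Cfsg.Agent.H952.F4.Scott_m3
import Cfsg.Agent.H16.E6.Cov
import Cfsg.Agent.S2086
import Cfsg.Agent.R2.H9.E6.Num_m3
import Cfsg.Agent.H944.E6TwC
import Cfsg.Agent.H944.E6TwE_m3
import Cfsg.Agent.S1054
import Cfsg.Agent.S1070
import Cfsg.Agent.H65.E6Ext_m3
import Cfsg.Agent.R2.H28.SL2.ExtY_m3
import Cfsg.Agent.H199.PslAut
import Cfsg.Agent.Schreier.ClassBase
import Cfsg.Agent.FastGrp
import Cfsg.Agent.Prune
set_option linter.all false

section
prune_inst 0x7f00000000000000000000000000000000000000000000000000000000000000000000000000000000000000000000000000000000000000000000000000000000000000000000000000000000000000003fffffffffffffffffffffffffffbeffbdffffffff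

section
prune_inst 0xf5adf9fbb8eddfffff7e7da698cffc39901fffa6dff90bbfe021ff0bdf030009c56b8d0de010fe0ec2601410b87803fbfffeffea6fd87ffffd1df45ffbee5fe5f7bd0851968c340f3c2ff783f0678e7f000000000000000000000000000000000200000000

-- part: R2/H9/E6/Cfg
section
prune_inst 0x520200401000000000020861100000020000490000404008c2002000a00406209022800080000015820808000010000000000000040000004200000000001000000020011000000000086000100000000000000000000000000000000000004000000000
set_option linter.all false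
open scoped Cfsg.Agent.FastGrp

-- part: R2/H9/E6/LiftP
section
/-!
# S5749, S5750: lifting perfect groups to the simply connected group (helper9)

* `exists_lift_gen` : a perfect group `A` whose stem extensions have kernels of order prime to 3 lifts to `Zgrp F`;
* `exists_lift_psl` : `PSL₂(K)`, `|K| ≥ 4`, `|K| ≠ 4, 9`.
-/

set_option autoImplicit false

namespace Cfsg.Agent.R2.H9.E6

open Cfsg Cfsg.Lie Module
open Cfsg.Agent.ChevalleyStructure.E6Min.Basic Cfsg.Agent.ChevalleyStructure.E6Min.Adjoint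
open Cfsg.Agent.H163.E6

universe u v

/-- the projection of the preimage -/
noncomputable def prA {F : Type u} [Field F] {A : Type v} [Group A] {φ : A →* ↥(chevE6.group F)}
    (hφ : Function.Injective φ) : ↥(φ.range.comap (ad F)) →* A :=
  (((MonoidHom.ofInjective hφ).symm : ↥φ.range →* A).comp ((ad F).subgroupComap φ.range) :)

theorem phi_prA {F : Type u} [Field F] {A : Type v} [Group A] {φ : A →* ↥(chevE6.group F)}
    (hφ : Function.Injective φ) (g : ↥(φ.range.comap (ad F))) : φ (prA hφ g) = ad F g :=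
  congrArg Subtype.val ((MonoidHom.ofInjective hφ).apply_symm_apply ((ad F).subgroupComap φ.range g))

/-- transport of a finite group to any universe -/
theorem exists_small (P : Type u) [Group P] [Finite P] : ∃ (Γ : Type v) (_ : Group Γ), Finite Γ ∧ Nonempty (Γ ≃* P) := by
  have e : P ≃ ULift.{v} (Fin (Nat.card P)) := (Finite.equivFin P).trans Equiv.ulift.symm
  letI : Group (ULift.{v} (Fin (Nat.card P))) := e.symm.group
  exact ⟨_, inferInstance, inferInstance, ⟨e.symm.mulEquiv⟩⟩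

open scoped commutatorElement in
/-- **lifting** -/
theorem exists_lift_gen {F : Type u} [Field F] [Finite F] {A : Type v} [Group A] {φ : A →* ↥(chevE6.group F)}
    (hφ : Function.Injective φ) (hA : commutator A = ⊤)
    (hS : ∀ (Γ : Type v) [Group Γ] [Finite Γ] (σ : Γ →* A), IsStemExtension σ → ¬ 3 ∣ Nat.card σ.ker) :
    ∃ ψ : A →* ↥(Zgrp F), Lift φ ψ := by
  by_cases hD : ∀ g ∈ ⁅φ.range.comap (ad F), φ.range.comap (ad F)⁆, ad F g = 1 → g = 1
  · exact Cov.lift_of (ad F) φ ad_surjective hA hD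
  exfalso
  push Not at hD
  obtain ⟨z, hzD, hz1, hz⟩ := hD
  obtain ⟨ω, h3, hω⟩ := (Act.ad_eq_one_iff z).mp hz1
  have h1 : ω ≠ 1 := by
    rintro rfl
    exact hz (Subtype.ext (by rw [hω, Cov.scal_one]; rfl))
  have hc : Cover φ ω := ⟨h1, h3, z, hω, hzD⟩
  have hfin : Finite ↥(Zgrp F) := inferInstance
  have hsurj : Function.Surjective (prA hφ) := by
    intro a
    obtain ⟨g, hg⟩ := ad_surjective (φ a)
    refine ⟨⟨g, Subgroup.mem_comap.mpr ⟨a, hg.symm⟩⟩, hφ ?_⟩
    rw [phi_prA]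
    exact hg
  have hone : ∀ g, prA hφ g = 1 ↔ ad F (g : ↥(Zgrp F)) = 1 := by
    intro g
    rw [← phi_prA hφ]
    constructor
    · intro h; rw [h, map_one]
    · intro h; exact hφ (by rw [h, map_one])
  have hstem : IsStemExtension (prA hφ) := by
    refine ⟨hsurj, ?_, ?_⟩
    · intro w hw
      rw [Subgroup.mem_center_iff]
      intro g
      exact Subtype.ext (Cov.ker_comm ((hone w).mp hw) g)
    · intro w hw
      have h4 := Cov.ker_le hc ((hone w).mp hw)
      rw [← Subgroup.map_subtype_commutator] at h4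
      obtain ⟨w', hw', he⟩ := h4
      have : w' = w := Subtype.ext he
      rwa [← this]
  obtain ⟨Γ, _, hΓ, ⟨e⟩⟩ := exists_small.{u, v} ↥(φ.range.comap (ad F))
  have hstem' : IsStemExtension ((prA hφ).comp e.toMonoidHom) := by
    refine ⟨hsurj.comp e.surjective, ?_, ?_⟩
    · intro w hw
      rw [Subgroup.mem_center_iff]
      intro g
      apply e.injective
      rw [map_mul, map_mul]
      exact Subgroup.mem_center_iff.1 (hstem.2.1 (show e w ∈ (prA hφ).ker from hw)) (e g)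
    · intro w hw
      have h5 : e w ∈ commutator ↥(φ.range.comap (ad F)) := hstem.2.2 hw
      have h6 : (commutator Γ).map e.toMonoidHom = commutator ↥(φ.range.comap (ad F)) := by
        have hr : (⊤ : Subgroup Γ).map e.toMonoidHom = ⊤ := by
          rw [← MonoidHom.range_eq_map]
          exact MonoidHom.range_eq_top.2 e.surjective
        rw [commutator_def, commutator_def, Subgroup.map_commutator, hr]
      rw [← h6] at h5
      obtain ⟨w', hw', he⟩ := h5
      rwa [← e.injective he]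
  refine hS Γ _ hstem' ?_
  have hzP : z ∈ φ.range.comap (ad F) := by
    rw [Subgroup.mem_comap, hz1]; exact one_mem _
  have h6 : e.symm (⟨z, hzP⟩ : ↥(φ.range.comap (ad F))) ∈ ((prA hφ).comp e.toMonoidHom).ker := by
    rw [MonoidHom.mem_ker]
    show prA hφ (e (e.symm _)) = 1
    rw [e.apply_symm_apply]
    exact (hone _).2 hz1
  have h7 : orderOf (⟨e.symm ⟨z, hzP⟩, h6⟩ : ↥((prA hφ).comp e.toMonoidHom).ker) = 3 := by
    refine orderOf_eq_prime ?_ ?_
    · apply Subtype.ext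
      show (e.symm ⟨z, hzP⟩) ^ 3 = 1
      rw [← map_pow, show (⟨z, hzP⟩ : ↥(φ.range.comap (ad F))) ^ 3 = 1 from Subtype.ext (Cov.ker_pow hz1), map_one]
    · intro h
      have h8 : e.symm ⟨z, hzP⟩ = 1 := congrArg Subtype.val h
      rw [e.symm.map_eq_one_iff] at h8
      exact hz (congrArg Subtype.val h8)
  have h8 := orderOf_dvd_natCard (⟨e.symm ⟨z, hzP⟩, h6⟩ : ↥((prA hφ).comp e.toMonoidHom).ker)
  rwa [h7] at h8

/-- stem extensions of `PSL₂(K)`, `|K| ≠ 4, 9` -/
theorem stem_psl {K : Type v} [Field K] [Fintype K] (h4 : 4 < Fintype.card K) (h9 : Fintype.card K ≠ 9)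
    (Γ : Type v) [Group Γ] [Finite Γ] (σ : Γ →* Matrix.ProjectiveSpecialLinearGroup (Fin 2) K) (hσ : IsStemExtension σ) :
    ¬ 3 ∣ Nat.card σ.ker := by
  have h := S2086.result (F := K) rfl 2 le_rfl (fun _ => h4.le) (by
    simp only [Set.mem_insert_iff, Prod.mk.injEq, true_and, Set.mem_singleton_iff]
    rintro (h | h | ⟨h, -⟩ | ⟨h, -⟩ | ⟨h, -⟩) <;> omega)
  obtain ⟨π, hπ⟩ := h.2 Γ σ hσ
  intro h3
  have h5 := Subgroup.card_dvd_of_surjective π hπ
  have h6 : Nat.card (Multiplicative (ZMod (Nat.gcd 2 (Fintype.card K - 1)))) = Nat.gcd 2 (Fintype.card K - 1) := by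
    rw [Nat.card_congr Multiplicative.toAdd, Nat.card_zmod]
  rw [h6] at h5
  have h7 : 3 ∣ 2 := (h3.trans h5).trans (Nat.gcd_dvd_left _ _)
  omega

/-- **`PSL₂(K)` lifts to the simply connected group** -/
theorem exists_lift_psl {F : Type u} [Field F] [Finite F] {K : Type v} [Field K] [Fintype K]
    (h4 : 4 < Fintype.card K) (h9 : Fintype.card K ≠ 9)
    (hA : commutator (Matrix.ProjectiveSpecialLinearGroup (Fin 2) K) = ⊤)
    {φ : Matrix.ProjectiveSpecialLinearGroup (Fin 2) K →* ↥(chevE6.group F)} (hφ : Function.Injective φ) :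
    ∃ ψ : Matrix.ProjectiveSpecialLinearGroup (Fin 2) K →* ↥(Zgrp F), Lift φ ψ :=
  exists_lift_gen hφ hA fun Γ _ _ σ hσ => stem_psl h4 h9 Γ σ hσ

end Cfsg.Agent.R2.H9.E6
end

-- part: R2/H9/E6/Setup
section
/-!
# S5749, S5750: the uniform situation for `E₆(q)` and `²E₆(q)` (helper9)

`Setup Γ M ψ` : everything takes place in the simply connected group `Zgrp F` (27-dimensional matrices);
`Γ` is the whole group (`E₆(q)`, `F = F_q`) or the group of fixed points of the Steinberg endomorphism (`²E₆(q)`,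
`F = F_{q²}`), `M` is the preimage of the maximal subgroup, `ψ : A →* Zgrp F` is the lift of the simple group `A`.

* `Setup.of_e6` : `E₆(q)` (see `SetupTw.lean` for `²E₆(q)`).
-/

set_option autoImplicit false

namespace Cfsg.Agent.R2.H9.E6

open Cfsg Cfsg.Lie Module
open Cfsg.Agent.ChevalleyStructure.E6Min.Basic Cfsg.Agent.ChevalleyStructure.E6Min.Adjoint
open Cfsg.Agent.H163.E6

universe u v

/-- the uniform situation -/
structure Setup {F : Type u} [Field F] (Γ M : Subgroup ↥(Zgrp F)) {A : Type v} [Group A] (ψ : A →* ↥(Zgrp F)) :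
    Prop where
  hle : M ≤ Γ
  ne : M ≠ Γ
  max : ∀ X : Subgroup ↥(Zgrp F), M ≤ X → X ≤ Γ → X = M ∨ X = Γ
  ker : ∀ z ∈ Γ, ad F z = 1 → z ∈ M
  inj : Function.Injective ψ
  perf : commutator A = ⊤
  le : ψ.range ≤ M
  /-- the maximal subgroup acts on `A`; the kernel is the centre -/
  act : ∃ ι : ↥M →* MulAut A, (∀ (h : ↥M) (a : A), ψ (ι h a) = (h : ↥(Zgrp F)) * ψ a * (h : ↥(Zgrp F))⁻¹) ∧
    (∀ h : ↥M, ι h = 1 ↔ ad F h = 1) ∧ ∀ (a : A) (ha : ψ a ∈ M), ι ⟨ψ a, ha⟩ = MulAut.conj a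
  /-- the centralizer of `A` in `Γ` is the centre -/
  cent : ∀ z ∈ Γ, (∀ a, ψ a * z = z * ψ a) → ad F z = 1
  /-- no one-parameter group `1 + t a` commutes with `A` -/
  no_add : ∀ a : (I27 → F) →ₗ[F] (I27 → F), a ≠ 0 → (∀ x, a (a x) = 0) →
    (∀ t : F, ∃ g : ↥(Zgrp F), (∀ x, V F g x = x + t • a x) ∧ ∀ b, ψ b * g = g * ψ b) → False
  /-- `V` and `V'` are irreducible for `Γ` -/
  irr : ∀ ρ : Representation F ↥(Zgrp F) (I27 → F), (ρ = V F ∨ ρ = V' F) → ∀ W : Submodule F (I27 → F),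
    (∀ g ∈ Γ, ∀ w ∈ W, ρ g w ∈ W) → W = ⊥ ∨ W = ⊤

section lift

variable {F : Type u} [Field F] {A : Type v} [Group A]

/-- lifts of perfect groups are unique -/
theorem lift_unique (hA : commutator A = ⊤) {ψ ψ' : A →* ↥(Zgrp F)} (h : ∀ a, ad F (ψ a) = ad F (ψ' a)) : ψ = ψ' := by
  have hz : ∀ a, ∀ g, g * ((ψ a)⁻¹ * ψ' a) = (ψ a)⁻¹ * ψ' a * g := fun a g =>
    Cov.ker_comm (by rw [map_mul, map_inv, h, inv_mul_cancel]) g
  let θ : A →* ↥(Zgrp F) := MonoidHom.mk' (fun a => (ψ a)⁻¹ * ψ' a) (by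
    intro a b
    rw [map_mul, map_mul, mul_inv_rev]
    calc (ψ b)⁻¹ * (ψ a)⁻¹ * (ψ' a * ψ' b) = (ψ b)⁻¹ * ((ψ a)⁻¹ * ψ' a) * ψ' b := by group
      _ = (ψ a)⁻¹ * ψ' a * (ψ b)⁻¹ * ψ' b := by rw [hz a]
      _ = _ := mul_assoc _ _ _)
  have hθ : ∀ a, θ a = (ψ a)⁻¹ * ψ' a := fun a => rfl
  have h1 : ∀ a, θ a = 1 := by
    intro a
    have h2 : commutator A ≤ θ.ker := by
      rw [commutator_def, Subgroup.commutator_le]
      intro x _ y _
      rw [MonoidHom.mem_ker, map_commutatorElement, commutatorElement_eq_one_iff_mul_comm, hθ, hθ]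
      exact hz y _
    exact h2 (hA ▸ Subgroup.mem_top a)
  ext1 a
  have h2 := h1 a
  rw [hθ, inv_mul_eq_one] at h2
  exact h2

theorem conj_lift (hA : commutator A = ⊤) {ψ : A →* ↥(Zgrp F)} (h : ↥(Zgrp F)) (α : MulAut A)
    (hα : ∀ a, ad F (ψ (α a)) = ad F h * ad F (ψ a) * (ad F h)⁻¹) (a : A) : ψ (α a) = h * ψ a * h⁻¹ := by
  have h1 := lift_unique hA (ψ := ψ.comp α.toMonoidHom) (ψ' := (MulAut.conj h).toMonoidHom.comp ψ) (by
    intro a
    show ad F (ψ (α a)) = ad F (h * ψ a * h⁻¹)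
    rw [hα, map_mul, map_mul, map_inv])
  exact DFunLike.congr_fun h1 a

end lift

/-- **`E₆(q)`** -/
theorem Setup.of_e6 {F : Type u} [Field F] [Finite F] {A : Type v} [Group A] {H : Subgroup ↥(chevE6.group F)}
    {φ : A →* ↥(chevE6.group F)} (hM : MaxSimp H φ) (hA : commutator A = ⊤) {ψ : A →* ↥(Zgrp F)} (hψ : Lift φ ψ) :
    Setup ⊤ (H.comap (ad F)) ψ where
  hle := le_top
  ne h := by
    apply hM.coatom.1
    rw [eq_top_iff]
    intro y _
    obtain ⟨g, rfl⟩ := ad_surjective y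
    have : g ∈ H.comap (ad F) := by rw [h]; trivial
    exact this
  max X h1 _ := by
    have hker : ∀ z, ad F z = 1 → z ∈ X := fun z hz => h1 (by rw [Subgroup.mem_comap, hz]; exact one_mem _)
    have h2 : H ≤ X.map (ad F) := by
      intro y hy
      obtain ⟨g, rfl⟩ := ad_surjective y
      exact ⟨g, h1 hy, rfl⟩
    rcases eq_or_lt_of_le h2 with h3 | h3
    · left
      refine le_antisymm (fun g hg => ?_) h1
      rw [Subgroup.mem_comap, h3]
      exact ⟨g, hg, rfl⟩
    · right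
      have h4 : X.map (ad F) = ⊤ := hM.coatom.2 _ h3
      rw [eq_top_iff]
      intro g _
      have h5 : ad F g ∈ X.map (ad F) := by rw [h4]; trivial
      obtain ⟨x, hx, hxg⟩ := h5
      have h6 : x⁻¹ * g ∈ X := hker _ (by rw [map_mul, map_inv, hxg, inv_mul_cancel])
      have h7 := mul_mem hx h6
      rwa [mul_inv_cancel_left] at h7
  ker z _ hz := by rw [Subgroup.mem_comap, hz]; exact one_mem _
  inj a b hab := hM.inj (by rw [← hψ, ← hψ, hab])
  perf := hA
  le := by
    rintro _ ⟨a, rfl⟩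
    rw [Subgroup.mem_comap, hψ]
    exact hM.le ⟨a, rfl⟩
  act := by
    obtain ⟨ι, hι, hιφ, hιc⟩ := hM.act
    refine ⟨ι.comp ((ad F).subgroupComap H), ?_, ?_, ?_⟩
    · intro h a
      refine conj_lift hA _ _ (fun a => ?_) a
      rw [hψ, hψ]
      exact hιφ _ a
    · intro h
      constructor
      · intro h1
        have h2 : (ad F).subgroupComap H h = 1 := hι (by rw [map_one]; exact h1)
        exact congrArg Subtype.val h2
      · intro h1
        have h2 : (ad F).subgroupComap H h = 1 := Subtype.ext h1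
        rw [MonoidHom.comp_apply, h2, map_one]
    · intro a ha
      have h1 : (ad F).subgroupComap H ⟨ψ a, ha⟩ = ⟨φ a, hM.le ⟨a, rfl⟩⟩ := Subtype.ext (hψ a)
      rw [MonoidHom.comp_apply, h1, hιc]
  cent z _ hz := hM.cent _ fun a => by rw [← hψ, ← map_mul, ← map_mul, hz]
  no_add a ha h2 h := by
    obtain ⟨g, hg, hgc⟩ := h 1
    have h1 : ad F g = 1 := hM.cent _ fun b => by rw [← hψ, ← map_mul, ← map_mul, hgc]
    obtain ⟨d, -, -, hd⟩ := Cnt.ker_scalar (Or.inl rfl : V F = V F ∨ V F = V' F) h1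
    apply ha
    have h3 : ∀ x, a x = (d - 1) • x := by
      intro x
      have h4 := hg x
      rw [hd, one_smul] at h4
      rw [sub_smul, one_smul, h4]
      abel
    have h5 : d - 1 = 0 := by
      have h6 := h2 (Pi.single 0 1)
      rw [h3, h3, smul_smul] at h6
      have h7 := congrFun h6 0
      simp only [Pi.smul_apply, Pi.single_eq_same, smul_eq_mul, mul_one, Pi.zero_apply] at h7
      exact mul_self_eq_zero.1 h7
    apply LinearMap.ext
    intro x
    rw [h3, h5, zero_smul, LinearMap.zero_apply]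
  irr ρ hρ W hW := by
    by_cases h0 : W = ⊥
    · exact Or.inl h0
    · right
      rcases hρ with rfl | rfl
      · exact Cnt.irred (fun g w hw => hW g trivial w hw) h0
      · exact Cnt.irred' (fun g w hw => hW g trivial w hw) h0

end Cfsg.Agent.R2.H9.E6
end

-- part: R2/H9/E6/Cons
section
/-!
# S5749, S5750: consequences of `Setup` (helper9)

* `Setup.norm`, `Setup.min` : the image of `A` is normal in `M` and contained in every normal subgroup of `M` which is not
  contained in the centre;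
* `SG Γ ρ W` : the stabilizer of a subspace in `Γ`; `Setup.SG_eq` : it is `M` for proper non-zero `M`-stable `W`;
* `Setup.card_le` : counting conjugates;
* `Setup.no_six` : no totally singular 6-dimensional subspace stable under `A`;
* `Setup.no_three` : no totally singular 3-dimensional subspace stable under `A`, if `A` has no 2-dimensional
  representations.
-/

set_option autoImplicit false

namespace Cfsg.Agent.R2.H9.E6

open Cfsg Cfsg.Lie Module
open Cfsg.Agent.ChevalleyStructure.E6Min.Basic Cfsg.Agent.ChevalleyStructure.E6Min.Adjoint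
open Cfsg.Agent.H163.E6

universe u v w

variable {F : Type u} [Field F] {Γ M : Subgroup ↥(Zgrp F)} {A : Type v} [Group A] {ψ : A →* ↥(Zgrp F)}

theorem Setup.mem_M (h : Setup Γ M ψ) (a : A) : ψ a ∈ M := h.le ⟨a, rfl⟩

theorem Setup.mem_Γ (h : Setup Γ M ψ) (a : A) : ψ a ∈ Γ := h.hle (h.mem_M a)

theorem Setup.norm (h : Setup Γ M ψ) {g : ↥(Zgrp F)} (hg : g ∈ M) (a : A) : ∃ b, ψ b = g * ψ a * g⁻¹ := by
  obtain ⟨ι, hι, -⟩ := h.act
  exact ⟨ι ⟨g, hg⟩ a, hι ⟨g, hg⟩ a⟩

theorem Setup.norm' (h : Setup Γ M ψ) {g : ↥(Zgrp F)} (hg : g ∈ M) (a : A) : ∃ b, ψ b = g⁻¹ * ψ a * g := by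
  obtain ⟨b, hb⟩ := h.norm (inv_mem hg) a
  exact ⟨b, by rw [hb, inv_inv]⟩

/-- elements of `M` centralizing `A` are scalars -/
theorem Setup.centM (h : Setup Γ M ψ) {g : ↥(Zgrp F)} (hg : g ∈ M) (hc : ∀ a, ψ a * g = g * ψ a) : ad F g = 1 :=
  h.cent g (h.hle hg) hc

/-- the image of `A` is contained in the non-central normal subgroups of `M` -/
theorem Setup.min [IsSimpleGroup A] (h : Setup Γ M ψ) {B : Subgroup ↥(Zgrp F)} (hB : B ≤ M)
    (hn : ∀ g ∈ M, ∀ b ∈ B, g * b * g⁻¹ ∈ B) (h1 : ∃ b ∈ B, ad F b ≠ 1) : ψ.range ≤ B := by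
  have hN : (B.comap ψ).Normal := ⟨fun a ha g => by
    rw [Subgroup.mem_comap, map_mul, map_mul, map_inv]
    exact hn _ (h.mem_M g) _ ha⟩
  rcases hN.eq_bot_or_eq_top with h2 | h2
  · exfalso
    obtain ⟨b, hb, hb1⟩ := h1
    apply hb1
    refine h.centM (hB hb) fun a => ?_
    -- the commutator belongs to `A ∩ B = 1`
    obtain ⟨a', ha'⟩ := h.norm (hB hb) a
    have h3 : ψ (a' * a⁻¹) ∈ B := by
      rw [map_mul, map_inv, ha']
      have h4 := hn _ (h.mem_M a) _ (inv_mem hb)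
      have h5 := mul_mem hb h4
      rwa [show b * (ψ a * b⁻¹ * (ψ a)⁻¹) = b * ψ a * b⁻¹ * (ψ a)⁻¹ by group] at h5
    have h4 : a' * a⁻¹ ∈ B.comap ψ := h3
    rw [h2, Subgroup.mem_bot, mul_inv_eq_one] at h4
    rw [h4] at ha'
    calc ψ a * b = b * ψ a * b⁻¹ * b := by rw [← ha']
      _ = b * ψ a := by group
  · rintro _ ⟨a, rfl⟩
    have h3 : a ∈ B.comap ψ := by rw [h2]; trivial
    exact h3

/-! ### stabilizers of subspaces -/

/-- the stabilizer in `Γ` of a subspace -/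
def SG (Γ : Subgroup ↥(Zgrp F)) (ρ : Representation F ↥(Zgrp F) (I27 → F)) (W : Submodule F (I27 → F)) :
    Subgroup ↥(Zgrp F) := Γ ⊓ Cnt.St ρ W

theorem mem_SG {ρ : Representation F ↥(Zgrp F) (I27 → F)} {W : Submodule F (I27 → F)} {g : ↥(Zgrp F)} :
    g ∈ SG Γ ρ W ↔ g ∈ Γ ∧ ∀ w, ρ g w ∈ W ↔ w ∈ W := Iff.rfl

/-- the stabilizer in `Γ` of a proper non-zero `M`-stable subspace is `M` -/
theorem Setup.SG_eq (h : Setup Γ M ψ) {ρ : Representation F ↥(Zgrp F) (I27 → F)} (hρ : ρ = V F ∨ ρ = V' F)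
    {W : Submodule F (I27 → F)} (hW : ∀ g ∈ M, ∀ w ∈ W, ρ g w ∈ W) (h0 : W ≠ ⊥) (h1 : W ≠ ⊤) : SG Γ ρ W = M := by
  have h2 : M ≤ SG Γ ρ W := by
    intro g hg
    refine mem_SG.2 ⟨h.hle hg, fun w => ⟨fun hw => ?_, hW g hg w⟩⟩
    have h3 := hW g⁻¹ (inv_mem hg) _ hw
    rwa [← rho_mul, inv_mul_cancel, map_one] at h3
  rcases h.max _ h2 inf_le_left with h3 | h3
  · exact h3
  · exfalso
    rcases h.irr ρ hρ W (fun g hg w hw => by
      have h4 : g ∈ SG Γ ρ W := by rw [h3]; exact hg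
      exact ((mem_SG.1 h4).2 w).2 hw) with h4 | h4
    · exact h0 h4
    · exact h1 h4

/-- **counting**: `x ∈ X` with stabilizer in `Γ` contained in `M` -/
theorem Setup.card_le [Finite F] (h : Setup Γ M ψ) {X : Type w} [MulAction ↥Γ X] (x : X) (S : Set X) [Finite S]
    (hS : ∀ g : ↥Γ, g • x ∈ S) (hx : ∀ g : ↥Γ, g • x = x → (g : ↥(Zgrp F)) ∈ M) :
    Nat.card ↥Γ ≤ Nat.card ↥M * Nat.card S := by
  have hfin : Finite ↥(Zgrp F) := inferInstance
  rw [← (MulAction.stabilizer ↥Γ x).card_mul_index]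
  refine Nat.mul_le_mul ?_ ?_
  · refine Nat.card_le_card_of_injective
      (fun g : ↥(MulAction.stabilizer ↥Γ x) => (⟨(g : ↥Γ), hx _ (MulAction.mem_stabilizer_iff.1 g.2)⟩ : ↥M)) ?_
    intro a b hab
    have h1 := congrArg (fun z : ↥M => (z : ↥(Zgrp F))) hab
    exact Subtype.ext (Subtype.ext h1)
  · rw [Subgroup.index_eq_card, ← Nat.card_congr (MulAction.orbitEquivQuotientStabilizer ↥Γ x)]
    refine Nat.card_le_card_of_injective (fun y : ↥(MulAction.orbit ↥Γ x) => (⟨(y : X), ?_⟩ : S)) ?_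
    · obtain ⟨g, hg⟩ := y.2
      rw [← hg]
      exact hS g
    · intro a b hab
      have h1 := congrArg (fun z : S => (z : X)) hab
      exact Subtype.ext h1

/-! ### totally singular subspaces -/

theorem Setup.comm_range (h : Setup Γ M ψ) : ⁅ψ.range, ψ.range⁆ = ψ.range := by
  have h1 := h.perf
  rw [commutator_def] at h1
  rw [MonoidHom.range_eq_map, ← Subgroup.map_commutator, h1]

theorem Setup.false_of_root (h : Setup Γ M ψ) {m : (I27 → F) →ₗ[F] (I27 → F)} (h1 : m ≠ 0)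
    (h2 : ∀ x, m (m x) = 0) (h3 : ∀ t : F, ∃ z : ↥(Zgrp F), ∀ x, V F z x = x + t • m x)
    (h4 : ∀ b ∈ ψ.range, ∀ x, V F b (m x) = m (V F b x)) : False := by
  refine h.no_add m h1 h2 fun t => ?_
  obtain ⟨z, hz⟩ := h3 t
  refine ⟨z, hz, fun a => ?_⟩
  apply V_injective
  intro x
  rw [rho_mul, rho_mul, hz, hz, map_add, map_smul, h4 _ ⟨a, rfl⟩]

/-- **no totally singular 6-dimensional subspace is stable under `A`** -/
theorem Setup.no_six (h : Setup Γ M ψ) {ρ : Representation F ↥(Zgrp F) (I27 → F)} (hρ : ρ = V F ∨ ρ = V' F)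
    {W : Submodule F (I27 → F)} (hst : ∀ a, ∀ w ∈ W, ρ (ψ a) w ∈ W) (h6 : finrank F ↥W = 6) : ¬ TS W := by
  intro hW
  obtain ⟨m, h1, h2, h3, h4⟩ := H65.E6Root.six_root ρ hρ (B := ψ.range) h.comm_range h6 hW (by
    rintro _ ⟨a, rfl⟩ w hw
    exact hst a w hw)
  exact h.false_of_root h1 h2 h3 h4

/-- **no totally singular 3-dimensional subspace is stable under `A`** -/
theorem Setup.no_three (h : Setup Γ M ψ) (h2 : ∀ θ : A →* GL (Fin 2) F, ∀ a, θ a = 1)
    {ρ : Representation F ↥(Zgrp F) (I27 → F)} (hρ : ρ = V F ∨ ρ = V' F)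
    {W : Submodule F (I27 → F)} (hst : ∀ a, ∀ w ∈ W, ρ (ψ a) w ∈ W) (h3 : finrank F ↥W = 3) : ¬ TS W := by
  intro hW
  obtain ⟨m, h1, h2, h3, h4⟩ := H65.E6Root.three_root ρ hρ (B := ψ.range) (by
    intro θ b
    obtain ⟨a, ha⟩ := b.2
    have h5 := h2 (θ.comp ψ.rangeRestrict) a
    rw [MonoidHom.comp_apply] at h5
    have h6 : ψ.rangeRestrict a = b := Subtype.ext ha
    rwa [h6] at h5) h3 hW (by
    rintro _ ⟨a, rfl⟩ w hw
    exact hst a w hw)
  exact h.false_of_root h1 h2 h3 h4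

end Cfsg.Agent.R2.H9.E6
end

-- part: R2/H9/E6/Count
section
/-!
# S5749, S5750: counting (helper9)

* `card_sub_mul_le` : the number of `k`-dimensional subspaces;
* `Setup.card_le'` : `|Γ / centre| ≤ |Aut A| |S|`;
* `Setup.count_sub` : `|Γ / centre| ∏ (q^k - q^i) ≤ |Aut A| q^(27 k)` if there is an `M`-stable subspace of dimension `k`;
* `Setup.count_white` : `|Γ / centre| (|F| - 1) ≤ |Aut A| 27 |F|^17` if there is an `M`-stable white line.
-/

set_option autoImplicit false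

namespace Cfsg.Agent.R2.H9.E6

open Cfsg Cfsg.Lie Module
open Cfsg.Agent.ChevalleyStructure.E6Min.Basic Cfsg.Agent.ChevalleyStructure.E6Min.Adjoint
open Cfsg.Agent.H163.E6
open Cfsg.Agent.H952.F4 (ev sh cr tf)

universe u v w

/-- the number of `k`-dimensional subspaces -/
theorem card_sub_mul_le {F : Type u} [Field F] [Finite F] {U : Type v} [AddCommGroup U] [Module F U]
    [Module.Finite F U] (k : ℕ) :
    Nat.card {W : Submodule F U // finrank F ↥W = k} * ∏ i : Fin k, (Nat.card F ^ k - Nat.card F ^ i.val) ≤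
      Nat.card F ^ (finrank F U * k) := by
  classical
  have hfinU : Finite U := Module.finite_of_finite F
  have := Fintype.ofFinite F
  have h1 : ∀ W : {W : Submodule F U // finrank F ↥W = k},
      Nat.card {s : Fin k → ↥W.1 // LinearIndependent F s} = ∏ i : Fin k, (Nat.card F ^ k - Nat.card F ^ i.val) := by
    intro W
    have h2 := card_linearIndependent (K := F) (V := ↥W.1) (k := k) (le_of_eq W.2.symm)
    rw [h2, W.2]
    simp only [Nat.card_eq_fintype_card]
  have h2 : Nat.card (Σ W : {W : Submodule F U // finrank F ↥W = k}, {s : Fin k → ↥W.1 // LinearIndependent F s}) =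
      Nat.card {W : Submodule F U // finrank F ↥W = k} * ∏ i : Fin k, (Nat.card F ^ k - Nat.card F ^ i.val) := by
    have := Fintype.ofFinite {W : Submodule F U // finrank F ↥W = k}
    rw [Nat.card_sigma, Finset.sum_congr rfl (fun W _ => h1 W), Finset.sum_const, Finset.card_univ,
      Nat.card_eq_fintype_card (α := {W : Submodule F U // finrank F ↥W = k}), smul_eq_mul]
  rw [← h2]
  have h3 : Nat.card (Fin k → U) = Nat.card F ^ (finrank F U * k) := by
    rw [Nat.card_fun, Nat.card_eq_fintype_card (α := Fin k), Fintype.card_fin, Module.natCard_eq_pow_finrank (K := F),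
      ← pow_mul]
  rw [← h3]
  refine Nat.card_le_card_of_injective (fun x => fun i => ((x.2.1 i : ↥x.1.1) : U)) ?_
  have hspan : ∀ x : (Σ W : {W : Submodule F U // finrank F ↥W = k}, {s : Fin k → ↥W.1 // LinearIndependent F s}),
      Submodule.span F (Set.range fun i => ((x.2.1 i : ↥x.1.1) : U)) = x.1.1 := by
    rintro ⟨W, s⟩
    have h4 : Submodule.span F (Set.range s.1) = ⊤ :=
      s.2.span_eq_top_of_card_eq_finrank' (by rw [Fintype.card_fin, W.2])
    have h5 : (Set.range fun i => ((s.1 i : ↥W.1) : U)) = W.1.subtype '' Set.range s.1 := by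
      rw [← Set.range_comp]; rfl
    rw [h5, ← Submodule.map_span, h4, Submodule.map_top, Submodule.range_subtype]
  intro x y hxy
  have h4 : x.1.1 = y.1.1 := by rw [← hspan x, ← hspan y]; exact congrArg _ (congrArg _ hxy)
  obtain ⟨⟨W, hW⟩, s, hs⟩ := x
  obtain ⟨⟨W', hW'⟩, s', hs'⟩ := y
  have h5 : W = W' := h4
  subst h5
  congr 1
  apply Subtype.ext
  funext i
  exact Subtype.ext (congrFun hxy i)

variable {F : Type u} [Field F] {Γ M : Subgroup ↥(Zgrp F)} {A : Type v} [Group A] {ψ : A →* ↥(Zgrp F)}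

/-- counting modulo the centre -/
theorem Setup.card_le' [Finite F] [Finite A] (h : Setup Γ M ψ) {X : Type w} [MulAction ↥Γ X] (x : X) (S : Set X)
    [Finite S] (hS : ∀ g : ↥Γ, g • x ∈ S) (hx : ∀ g : ↥Γ, g • x = x → (g : ↥(Zgrp F)) ∈ M) :
    Nat.card ↥(Γ.map (ad F)) ≤ Nat.card (MulAut A) * Nat.card S := by
  have hfin : Finite ↥(Zgrp F) := inferInstance
  have hfA : Finite (MulAut A) := Finite.of_injective (fun σ => (σ : A → A)) DFunLike.coe_injective
  have h1 := h.card_le x S hS hx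
  -- the centre
  let a1 : ↥Γ →* ↥(chevE6.group F) := (ad F).comp Γ.subtype
  have hr : a1.range = Γ.map (ad F) := by
    rw [MonoidHom.range_comp, Subgroup.range_subtype]
  have h2 : Nat.card ↥Γ = Nat.card ↥(Γ.map (ad F)) * Nat.card a1.ker := by
    rw [← hr, ← Nat.card_congr (QuotientGroup.quotientKerEquivRange a1).toEquiv]
    exact Subgroup.card_eq_card_quotient_mul_card_subgroup _
  obtain ⟨ι, -, hι, -⟩ := h.act
  have h3 : Nat.card ↥M ≤ Nat.card (MulAut A) * Nat.card a1.ker := by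
    have h4 : Nat.card ↥M = Nat.card ι.range * Nat.card ι.ker := by
      rw [← Nat.card_congr (QuotientGroup.quotientKerEquivRange ι).toEquiv]
      exact Subgroup.card_eq_card_quotient_mul_card_subgroup _
    rw [h4]
    refine Nat.mul_le_mul ?_ ?_
    · exact Nat.card_le_card_of_injective _ Subtype.val_injective
    · refine Nat.card_le_card_of_injective (fun z : ι.ker => (⟨⟨z.1.1, h.hle z.1.2⟩, (hι z.1).1 z.2⟩ : a1.ker)) ?_
      intro z z' hz
      have h5 := congrArg (fun t : a1.ker => ((t : ↥Γ) : ↥(Zgrp F))) hz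
      exact Subtype.ext (Subtype.ext h5)
  have hpos : 0 < Nat.card a1.ker := Nat.card_pos
  refine Nat.le_of_mul_le_mul_right ?_ hpos
  calc Nat.card ↥(Γ.map (ad F)) * Nat.card a1.ker = Nat.card ↥Γ := h2.symm
    _ ≤ Nat.card ↥M * Nat.card S := h1
    _ ≤ Nat.card (MulAut A) * Nat.card a1.ker * Nat.card S := Nat.mul_le_mul_right _ h3
    _ = Nat.card (MulAut A) * Nat.card S * Nat.card a1.ker := by ring

/-- the action on subspaces -/
@[reducible] def subAct (Γ : Subgroup ↥(Zgrp F)) (ρ : Representation F ↥(Zgrp F) (I27 → F)) :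
    MulAction ↥Γ (Submodule F (I27 → F)) where
  smul g W := W.map (ρ g)
  one_smul W := by
    show W.map (ρ ((1 : ↥Γ) : ↥(Zgrp F))) = W
    rw [Subgroup.coe_one, map_one]
    exact Submodule.map_id W
  mul_smul g g' W := by
    show W.map (ρ ((g * g' : ↥Γ) : ↥(Zgrp F))) = (W.map (ρ g')).map (ρ g)
    rw [Subgroup.coe_mul, map_mul, ← Submodule.map_comp]
    rfl

theorem finrank_map_rho (ρ : Representation F ↥(Zgrp F) (I27 → F)) (g : ↥(Zgrp F)) (W : Submodule F (I27 → F)) :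
    finrank F ↥(W.map (ρ g)) = finrank F ↥W := by
  refine (Submodule.equivMapOfInjective (ρ g) (fun x y hxy => ?_) W).symm.finrank_eq
  have h1 := congrArg (ρ g⁻¹) hxy
  rwa [← rho_mul, ← rho_mul, inv_mul_cancel, map_one] at h1

/-- **counting the conjugates of an `M`-stable subspace** -/
theorem Setup.count_sub [Finite F] [Finite A] (h : Setup Γ M ψ) {ρ : Representation F ↥(Zgrp F) (I27 → F)}
    (hρ : ρ = V F ∨ ρ = V' F) {W : Submodule F (I27 → F)} (hW : ∀ g ∈ M, ∀ w ∈ W, ρ g w ∈ W) {k : ℕ}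
    (hk : finrank F ↥W = k) (h1 : 1 ≤ k) (h27 : k < 27) :
    Nat.card ↥(Γ.map (ad F)) * ∏ i : Fin k, (Nat.card F ^ k - Nat.card F ^ i.val) ≤
      Nat.card (MulAut A) * Nat.card F ^ (27 * k) := by
  have h9 : finrank F (I27 → F) = 27 := by rw [finrank_fintype_fun_eq_card]; rfl
  have hbot : W ≠ ⊥ := by
    rintro rfl
    rw [finrank_bot] at hk
    omega
  have htop : W ≠ ⊤ := by
    rintro rfl
    rw [finrank_top, h9] at hk
    omega
  have hSG := h.SG_eq hρ hW hbot htop
  letI := subAct Γ ρ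
  have h2 := h.card_le' (X := Submodule F (I27 → F)) W {U | finrank F ↥U = k} (fun g => by
    show finrank F ↥(W.map (ρ g)) = k
    rw [finrank_map_rho, hk]) (fun g hg => by
    have hg' : W.map (ρ g) = W := hg
    rw [← hSG]
    refine mem_SG.2 ⟨g.2, fun w => ⟨fun hw => ?_, fun hw => ?_⟩⟩
    · rw [← hg'] at hw
      obtain ⟨w', hw', h3⟩ := hw
      have h4 := congrArg (ρ (g : ↥(Zgrp F))⁻¹) h3
      rw [← rho_mul, ← rho_mul, inv_mul_cancel, map_one] at h4
      have h5 : w' = w := h4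
      rwa [← h5]
    · rw [← hg']
      exact ⟨w, hw, rfl⟩)
  have h3 := card_sub_mul_le (F := F) (U := I27 → F) k
  rw [h9] at h3
  calc Nat.card ↥(Γ.map (ad F)) * ∏ i : Fin k, (Nat.card F ^ k - Nat.card F ^ i.val)
      ≤ Nat.card (MulAut A) * Nat.card {U : Submodule F (I27 → F) // finrank F ↥U = k} *
        ∏ i : Fin k, (Nat.card F ^ k - Nat.card F ^ i.val) := Nat.mul_le_mul_right _ h2
    _ = Nat.card (MulAut A) * (Nat.card {U : Submodule F (I27 → F) // finrank F ↥U = k} *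
        ∏ i : Fin k, (Nat.card F ^ k - Nat.card F ^ i.val)) := by ring
    _ ≤ _ := Nat.mul_le_mul_left _ h3

end Cfsg.Agent.R2.H9.E6
end

-- part: R2/H9/E6/TwIrr
section
/-!
# `²E₆(q)` is irreducible on `V` and `V'` (helper9)
-/

set_option autoImplicit false

namespace Cfsg.Agent.R2.H9.E6.TwIrr

open Cfsg Cfsg.Lie Module
open scoped Matrix
open Cfsg.Agent.ChevalleyStructure
open Cfsg.Agent.ChevalleyStructure.E6Min.Tables Cfsg.Agent.ChevalleyStructure.E6Min.Basic
  Cfsg.Agent.ChevalleyStructure.E6Min.Adjoint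
open Cfsg.Agent.ChevalleyStructure.E6Min.Forms (e e_apply)
open Cfsg.Agent.H163.E6
open Cfsg.Agent.H944.E6Tw

universe u

def L12 : List ℕ := [46, 25, 39, 32, 56, 36, 15, 35, 42, 37, 29, 34]

def rk27 (x : I27) : ℕ :=
  [0, 1, 2, 1, 2, 3, 2, 3, 4, 8, 5, 4, 7, 4, 3, 6, 5, 4, 8, 7, 6, 5, 4, 5, 4, 3, 4].getD (code x) 0

theorem L12_lt : ∀ r ∈ L12, r < 72 := by decide

theorem L12_opp : ∀ r ∈ L12, 71 - r ∈ L12 := by decide

theorem up_all : ∀ y : I27, y = dec 0 ∨ ∃ r ∈ L12, sg r y ≠ 0 ∧ rk27 (sr r y) < rk27 y := by decide +kernel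

theorem down_all : ∀ x : I27, x = dec 0 ∨ ∃ r ∈ L12, ∃ y, sg r y ≠ 0 ∧ sr r y = x ∧ rk27 y < rk27 x := by
  decide +kernel

theorem sep12 : ∀ x y : I27, x = y ∨ ∃ r ∈ L12, ind r y ≠ ind r x := by decide +kernel

section stable

variable {F : Type u} [Field F] {W : Submodule F (I27 → F)} (hW : ∀ r ∈ L12, ∀ w ∈ W, Nm F r *ᵥ w ∈ W)

include hW

theorem diag_stable {r : ℕ} (hr : r ∈ L12) {w : I27 → F} (hw : w ∈ W) : (fun y => ((ind r y : ℤ) : F) * w y) ∈ W := by
  have h1 := hW r hr _ (hW (71 - r) (L12_opp r hr) w hw)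
  rw [Matrix.mulVec_mulVec, Nm_mul_opp (L12_lt r hr)] at h1
  have h2 : (Matrix.diagonal (fun x => ((ind r x : ℤ) : F)) *ᵥ w) = fun y => ((ind r y : ℤ) : F) * w y := by
    funext y
    rw [Matrix.mulVec_diagonal]
  rwa [h2] at h1

theorem proj_stable (x : I27) {w : I27 → F} (hw : w ∈ W) (l : List ℕ) (hl : ∀ r ∈ l, r ∈ L12) :
    (fun y => ((l.map fun r => if ind r y = ind r x then (1 : F) else 0).prod) * w y) ∈ W := by
  induction l with
  | nil => simpa using hw
  | cons r l ih =>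
    have h1 := ih (fun s hs => hl s (List.mem_cons_of_mem _ hs))
    have h2 := diag_stable hW (hl r List.mem_cons_self) h1
    rcases H163.E6.Cnt.ind_cases r x with h3 | h3
    · have h4 := sub_mem h1 h2
      convert h4 using 1
      funext y
      rw [List.map_cons, List.prod_cons, Pi.sub_apply, h3]
      rcases H163.E6.Cnt.ind_cases r y with h5 | h5
      · rw [h5, if_pos rfl]; push_cast; ring
      · rw [h5, if_neg (by norm_num)]; push_cast; ring
    · convert h2 using 1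
      funext y
      rw [List.map_cons, List.prod_cons, h3]
      rcases H163.E6.Cnt.ind_cases r y with h5 | h5
      · rw [h5, if_neg (by norm_num)]; push_cast; ring
      · rw [h5, if_pos rfl]; push_cast; ring

theorem basis_mem {x : I27} {w : I27 → F} (hw : w ∈ W) (hx : w x ≠ 0) : e F x ∈ W := by
  have h1 := proj_stable hW x hw L12 (fun _ h => h)
  have h2 : (fun y => ((L12.map fun r => if ind r y = ind r x then (1 : F) else 0).prod) * w y) = w x • e F x := by
    funext y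
    rw [Pi.smul_apply, e_apply, smul_eq_mul]
    by_cases h : y = x
    · rw [h, if_pos rfl, mul_one, List.prod_eq_one, one_mul]
      intro t ht
      obtain ⟨r, -, rfl⟩ := List.mem_map.1 ht
      rw [if_pos rfl]
    · obtain ⟨r, hr, h3⟩ := (sep12 x y).resolve_left (Ne.symm h)
      rw [if_neg h, mul_zero, List.prod_eq_zero, zero_mul]
      refine List.mem_map.2 ⟨r, hr, ?_⟩
      rw [if_neg h3]
  rw [h2] at h1
  have h3 := W.smul_mem (w x)⁻¹ h1
  rwa [smul_smul, inv_mul_cancel₀ hx, one_smul] at h3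

theorem step_mem {r : ℕ} (hr : r ∈ L12) {y : I27} (hsg : sg r y ≠ 0) (hi : e F (sr r y) ∈ W) : e F y ∈ W := by
  have h1 := hW r hr _ hi
  refine basis_mem hW h1 (x := y) ?_
  rw [Nm_mulVec, e_apply, if_pos rfl, mul_one]
  exact Act.cast_sg_ne hsg

theorem up_mem (h0 : e F (dec 0) ∈ W) : ∀ (n : ℕ) (y : I27), rk27 y ≤ n → e F y ∈ W := by
  intro n
  induction n with
  | zero =>
    intro y hy
    rcases up_all y with rfl | ⟨r, -, -, h⟩
    · exact h0
    · omega
  | succ n ih =>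
    intro y hy
    rcases up_all y with rfl | ⟨r, hr, hsg, h⟩
    · exact h0
    · exact step_mem hW hr hsg (ih _ (by omega))

theorem down_mem : ∀ (n : ℕ) (x : I27), rk27 x ≤ n → e F x ∈ W → e F (dec 0) ∈ W := by
  intro n
  induction n with
  | zero =>
    intro x hx hm
    rcases down_all x with rfl | ⟨r, -, y, -, -, h⟩
    · exact hm
    · omega
  | succ n ih =>
    intro x hx hm
    rcases down_all x with rfl | ⟨r, hr, y, hsg, hsr, h⟩
    · exact hm
    · exact ih y (by omega) (step_mem hW hr hsg (by rw [hsr]; exact hm))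

/-- a non-zero subspace stable under the twelve operators is everything -/
theorem eq_top_of_stable (h0 : W ≠ ⊥) : W = ⊤ := by
  obtain ⟨w, hw, hw0⟩ := Submodule.exists_mem_ne_zero_of_ne_bot h0
  obtain ⟨x, hx⟩ : ∃ x, w x ≠ 0 := by
    by_contra hcon
    push Not at hcon
    exact hw0 (funext hcon)
  have h1 := down_mem hW _ x le_rfl (basis_mem hW hw hx)
  have h2 : ∀ y, e F y ∈ W := fun y => up_mem hW h1 _ y le_rfl
  rw [eq_top_iff]
  intro v _
  have h3 : v = ∑ k, v k • e F k := by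
    funext j
    rw [Finset.sum_apply, Finset.sum_eq_single j]
    · rw [Pi.smul_apply, e_apply, if_pos rfl, smul_eq_mul, mul_one]
    · intro k _ hk
      rw [Pi.smul_apply, e_apply, if_neg (Ne.symm hk), smul_zero]
    · intro h; exact absurd (Finset.mem_univ _) h
  rw [h3]
  exact Submodule.sum_mem _ fun k _ => W.smul_mem _ (h2 k)

end stable

section tw

variable {F : Type u} [Field F] [Fintype F] {φ : F →+* F} {q : ℕ}

/-- orthogonality on the units -/
theorem sum_units {M : Type*} [AddCommGroup M] [Module F M] {q : ℕ} (hq : 2 ≤ q) (hF : Fintype.card F = q ^ 2)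
    (W : Submodule F M) (a b c : M)
    (h : ∀ t : Fˣ, (t : F) • a + (t : F) ^ q • b + (t : F) ^ (q + 1) • c ∈ W) : a ∈ W ∧ b ∈ W ∧ c ∈ W := by
  classical
  have hcard : Fintype.card F - 1 = q ^ 2 - 1 := by rw [hF]
  have hqq : q + 1 < q ^ 2 := by nlinarith only [hq]
  have key : ∀ k : ℕ, (∑ t : Fˣ, (t : F) ^ k) = if q ^ 2 - 1 ∣ k then -1 else 0 := by
    intro k
    have h1 := FiniteField.sum_pow_units F k
    rwa [hcard] at h1
  have hs : ∀ k : ℕ, (∑ t : Fˣ, (t : F) ^ (k + 1)) • a + (∑ t : Fˣ, (t : F) ^ (k + q)) • b +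
      (∑ t : Fˣ, (t : F) ^ (k + (q + 1))) • c ∈ W := by
    intro k
    have h1 : ∑ t : Fˣ, (t : F) ^ k • ((t : F) • a + (t : F) ^ q • b + (t : F) ^ (q + 1) • c) ∈ W :=
      W.sum_mem fun t _ => W.smul_mem _ (h t)
    convert h1 using 1
    rw [Finset.sum_smul, Finset.sum_smul, Finset.sum_smul, ← Finset.sum_add_distrib, ← Finset.sum_add_distrib]
    refine Finset.sum_congr rfl fun t _ => ?_
    rw [smul_add, smul_add, smul_smul, smul_smul, smul_smul, pow_succ, pow_add, pow_add _ k (q + 1)]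
  have hnd : ∀ k, 0 < k → k < q ^ 2 - 1 → ¬ q ^ 2 - 1 ∣ k := fun k h1 h2 h3 => by
    have := Nat.le_of_dvd h1 h3
    omega
  have hnd' : ∀ k, 0 < k → k < q ^ 2 - 1 → ¬ q ^ 2 - 1 ∣ (q ^ 2 - 1) + k := fun k h1 h2 h3 =>
    hnd k h1 h2 ((Nat.dvd_add_right (dvd_refl _)).1 h3)
  have hc : c ∈ W := by
    have h1 := hs (q ^ 2 - 1 - (q + 1))
    rw [key, key, key, if_neg (hnd _ (by omega) (by omega)), if_neg (hnd _ (by omega) (by omega)),
      if_pos (by rw [show q ^ 2 - 1 - (q + 1) + (q + 1) = q ^ 2 - 1 by omega]), zero_smul, zero_smul, zero_add, zero_add,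
      neg_one_smul] at h1
    exact (Submodule.neg_mem_iff W).1 h1
  have ha : a ∈ W := by
    have h1 := hs (q ^ 2 - 2)
    rw [key, key, key, if_pos (by rw [show q ^ 2 - 2 + 1 = q ^ 2 - 1 by omega]),
      if_neg (by rw [show q ^ 2 - 2 + q = (q ^ 2 - 1) + (q - 1) by omega]; exact hnd' _ (by omega) (by omega)),
      if_neg (by rw [show q ^ 2 - 2 + (q + 1) = (q ^ 2 - 1) + q by omega]; exact hnd' _ (by omega) (by omega)),
      zero_smul, zero_smul, add_zero, add_zero, neg_one_smul] at h1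
    exact (Submodule.neg_mem_iff W).1 h1
  have hb : b ∈ W := by
    have h1 := h 1
    simp only [Units.val_one, one_pow, one_smul] at h1
    have h2 := W.sub_mem (W.sub_mem h1 hc) ha
    rwa [add_sub_cancel_right, add_sub_cancel_left] at h2
  exact ⟨ha, hb, hc⟩

/-- **`V` is irreducible for `²E₆(q)`** -/
theorem irred (hq : IsPrimePow q) (hF : Fintype.card F = q ^ 2) (hφ : ∀ t, φ t = t ^ q)
    (hqq : ∀ t : F, (t ^ q) ^ q = t) {W : Submodule F (I27 → F)} (hW : ∀ g ∈ Gs φ, ∀ w ∈ W, V F g w ∈ W) :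
    W = ⊥ ∨ W = ⊤ := by
  by_cases h0 : W = ⊥
  · exact Or.inl h0
  right
  refine eq_top_of_stable ?_ h0
  have hsingle : ∀ r ∈ [46, 25, 39, 32], ∀ w ∈ W, Nm F r *ᵥ w ∈ W := by
    intro r hr w hw
    have hr' : r < 72 := by
      simp only [List.mem_cons, List.not_mem_nil, or_false] at hr
      omega
    have h1 := hW _ (zZ_mem_Gs hφ (one_pow q) hr) w hw
    rw [V_zZ hr', one_smul] at h1
    have h2 := W.sub_mem h1 hw
    rwa [add_sub_cancel_left] at h2
  have hpair : ∀ rs ∈ [(56, 36), (15, 35), (42, 37), (29, 34)], ∀ w ∈ W, Nm F rs.1 *ᵥ w ∈ W ∧ Nm F rs.2 *ᵥ w ∈ W := by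
    intro rs hrs w hw
    have hr' : rs.1 < 72 ∧ rs.2 < 72 := by
      simp only [List.mem_cons, List.not_mem_nil, or_false] at hrs
      rcases hrs with rfl | rfl | rfl | rfl <;> decide
    have h1 := sum_units hq.two_le hF W (Nm F rs.1 *ᵥ w) (Nm F rs.2 *ᵥ w) (Nm F rs.1 *ᵥ (Nm F rs.2 *ᵥ w)) (by
      intro t
      have h2 := hW _ (zZ_pair_mem_Gs hφ hqq (t : F) hrs) w hw
      rw [map_mul, Module.End.mul_apply, V_zZ hr'.2, V_zZ hr'.1] at h2
      have h3 := W.sub_mem h2 hw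
      convert h3 using 1
      rw [Matrix.mulVec_add, Matrix.mulVec_smul, smul_add, smul_smul, pow_succ']
      abel)
    exact ⟨h1.1, h1.2.1⟩
  intro r hr w hw
  have h56 := hpair (56, 36) (by decide) w hw
  have h15 := hpair (15, 35) (by decide) w hw
  have h42 := hpair (42, 37) (by decide) w hw
  have h29 := hpair (29, 34) (by decide) w hw
  simp only [L12, List.mem_cons, List.not_mem_nil, or_false] at hr
  rcases hr with rfl | rfl | rfl | rfl | rfl | rfl | rfl | rfl | rfl | rfl | rfl | rfl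
  · exact hsingle 46 (by decide) w hw
  · exact hsingle 25 (by decide) w hw
  · exact hsingle 39 (by decide) w hw
  · exact hsingle 32 (by decide) w hw
  · exact h56.1
  · exact h56.2
  · exact h15.1
  · exact h15.2
  · exact h42.1
  · exact h42.2
  · exact h29.1
  · exact h29.2

/-- the image of a subspace under `J` -/
def mapJ (_hφφ : ∀ t : F, φ (φ t) = t) (W : Submodule F (I27 → F)) : Submodule F (I27 → F) where
  carrier := {x | J φ x ∈ W}
  add_mem' := by
    intro x y hx hy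
    rw [Set.mem_ofPred_eq, J_add]
    exact W.add_mem hx hy
  zero_mem' := by rw [Set.mem_ofPred_eq, J_zero]; exact W.zero_mem
  smul_mem' := by
    intro c x hx
    rw [Set.mem_ofPred_eq, J_smul]
    exact W.smul_mem _ hx

omit [Fintype F] in
theorem mem_mapJ (hφφ : ∀ t : F, φ (φ t) = t) {W : Submodule F (I27 → F)} {x : I27 → F} :
    x ∈ mapJ hφφ W ↔ J φ x ∈ W := Iff.rfl

/-- **`V'` is irreducible for `²E₆(q)`** -/
theorem irred' (hq : IsPrimePow q) (hF : Fintype.card F = q ^ 2) (hφ : ∀ t, φ t = t ^ q)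
    (hqq : ∀ t : F, (t ^ q) ^ q = t) {W : Submodule F (I27 → F)} (hW : ∀ g ∈ Gs φ, ∀ w ∈ W, V' F g w ∈ W) :
    W = ⊥ ∨ W = ⊤ := by
  have hφφ : ∀ t : F, φ (φ t) = t := fun t => by rw [hφ, hφ, hqq]
  have h1 := irred hq hF hφ hqq (W := mapJ hφφ W) (by
    intro g hg w hw
    rw [mem_mapJ] at hw ⊢
    rw [← V'_J φ hg]
    exact hW g hg _ hw)
  rcases h1 with h | h
  · left
    rw [eq_bot_iff]
    intro x hx
    have h2 : J φ x ∈ mapJ hφφ W := by rw [mem_mapJ, J_J φ hφφ]; exact hx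
    rw [h, Submodule.mem_bot, J_eq_zero φ hφφ] at h2
    exact h2
  · right
    rw [eq_top_iff]
    intro x _
    have h2 : J φ x ∈ mapJ hφφ W := by rw [h]; trivial
    rwa [mem_mapJ, J_J φ hφφ] at h2

end tw

end Cfsg.Agent.R2.H9.E6.TwIrr
end

-- part: R2/H9/E6/SetupTw
section
/-!
# S5750: the uniform situation for `²E₆(q)` (helper9)

* `Setup.of_tw` : `Γ = Gs f`, `M` = the elements of `Gs f` mapped into `H`;
* `SemiG q Γ` : the semilinear map `J : V ↔ V'` commuting with `Γ` (`semi_of_tw`).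
-/

set_option autoImplicit false
set_option linter.unusedSectionVars false

namespace Cfsg.Agent.R2.H9.E6

open Cfsg Cfsg.Lie Module
open Cfsg.Agent.ChevalleyStructure
open Cfsg.Agent.ChevalleyStructure.E6Min.Basic Cfsg.Agent.ChevalleyStructure.E6Min.Adjoint
open Cfsg.Agent.H163.E6
open Cfsg.Agent.H163.E6.Tw
open Cfsg.Agent.H944.E6Tw
open Cfsg.Agent.H952.F4 (ev sh cr tf)

universe u v

/-- the semilinear map exchanging `V` and `V'` (only for `²E₆(q)`) -/
def SemiG {F : Type u} [Field F] (q : ℕ) (Γ : Subgroup ↥(Zgrp F)) : Prop :=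
  ∃ J : (I27 → F) → (I27 → F), (∀ x y, J (x + y) = J x + J y) ∧ (∀ (c : F) x, J (c • x) = c ^ q • J x) ∧
    (∀ x, J (J x) = x) ∧ (∀ x, sh (J x) = J (sh x)) ∧ (∀ x y, cr (J x) (J y) = J (cr x y)) ∧
    (∀ x y, tf (J x) (J y) = tf x y ^ q) ∧ (∀ x, cubicT (J x) = cubicT x ^ q) ∧
    ∀ g ∈ Γ, ∀ x, V F g (J x) = J (V' F g x) ∧ V' F g (J x) = J (V F g x)

section

variable {K : Type u} [Field K] [Fintype K] {q : ℕ} {A : Type v} [Group A]

/-- the preimage in `Gs f` of a subgroup of `²E₆(q)` -/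
noncomputable def twM (f : K →+* K) (H : Subgroup ↥(Cfsg.Lie.twistedE6 K q)) : Subgroup ↥(Zgrp K) :=
  Gs f ⊓ (H.map (incl K q)).comap (ad K)

theorem mem_twM {f : K →+* K} {H : Subgroup ↥(Cfsg.Lie.twistedE6 K q)} {g : ↥(Zgrp K)} :
    g ∈ twM f H ↔ g ∈ Gs f ∧ ∃ y ∈ H, incl K q y = ad K g := by
  rw [twM, Subgroup.mem_inf, Subgroup.mem_comap]
  rfl

theorem semi_of_tw {f : K →+* K} (hf : ∀ t, f t = t ^ q) (hqq : ∀ t : K, (t ^ q) ^ q = t) : SemiG q (Gs f) := by
  have hff : ∀ t : K, f (f t) = t := fun t => by rw [hf, hf, hqq]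
  exact ⟨J f, J_add f, fun c x => by rw [J_smul, hf], J_J f hff, sh_J f, cr_J f, fun x y => by rw [tf_J, hf],
    fun x => by rw [cubicT_J, hf], fun g hg x => ⟨V_J f hg x, V'_J f hg x⟩⟩

/-- a lift of a perfect group in `²E₆(q)` belongs to `Gs f` -/
theorem lift_mem_Gs {f : K →+* K} (hf : ∀ t, f t = t ^ q) (hqq : ∀ t : K, (t ^ q) ^ q = t)
    {φ : A →* ↥(Cfsg.Lie.twistedE6 K q)} (hA : commutator A = ⊤) {ψ : A →* ↥(Zgrp K)}
    (hψ : Lift ((incl K q).comp φ) ψ) (a : A) : ψ a ∈ Gs f := by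
  have h1 : ⁅ψ.range, ψ.range⁆ = ψ.range := by
    rw [commutator_def] at hA
    rw [MonoidHom.range_eq_map, ← Subgroup.map_commutator, hA]
  refine le_Gs_of_perfect f h1 ?_ ⟨a, rfl⟩
  rintro _ ⟨b, rfl⟩
  rw [hψ b]
  exact TwE6Basic.twisted_le_fix f hf hqq (φ b).2

/-- **`²E₆(q)`** -/
theorem Setup.of_tw (hq : IsPrimePow q) (hK : Fintype.card K = q ^ 2) {f : K →+* K} (hf : ∀ t, f t = t ^ q)
    (hqq : ∀ t : K, (t ^ q) ^ q = t) {H : Subgroup ↥(Cfsg.Lie.twistedE6 K q)}
    {φ : A →* ↥(Cfsg.Lie.twistedE6 K q)} (hM : MaxSimp H φ) (hA : commutator A = ⊤) {ψ : A →* ↥(Zgrp K)}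
    (hψ : Lift ((incl K q).comp φ) ψ) : Setup (Gs f) (twM f H) ψ := by
  have hff : ∀ t : K, f (f t) = t := fun t => by rw [hf, hf, hqq]
  have hG : ∀ a, ψ a ∈ Gs f := lift_mem_Gs hf hqq hA hψ
  -- elements of `Gs f` are mapped into the twisted group
  have hGl : ∀ g ∈ Gs f, ∃ y, incl K q y = ad K g := by
    intro g hg
    have h2 := Gs_le_Gl hq hK hf hqq hg
    rw [mem_Gl] at h2
    exact ⟨⟨_, h2⟩, Subtype.ext rfl⟩
  have hex : ∀ y : ↥(Cfsg.Lie.twistedE6 K q), ∃ g ∈ Gs f, ad K g = incl K q y := by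
    intro y
    obtain ⟨g, hg, hgy⟩ := exists_Gs f hf hqq y.2
    exact ⟨g, hg, Subtype.ext hgy⟩
  have hker : ∀ z ∈ Gs f, ad K z = 1 → z ∈ twM f H := fun z hz h => mem_twM.2 ⟨hz, 1, one_mem _, by rw [map_one, h]⟩
  have hcent : ∀ y : ↥(chevE6.group K), (y : GL chevE6.Idx K) ∈ twistedE6 K q →
      (∀ a, incl K q (φ a) * y = y * incl K q (φ a)) → y = 1 := by
    intro y hy h
    have h1 : (⟨y, hy⟩ : ↥(Cfsg.Lie.twistedE6 K q)) = 1 := by
      refine hM.cent _ fun a => ?_
      apply incl_injective K q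
      rw [map_mul, map_mul]
      exact h a
    have h2 := congrArg (fun z : ↥(Cfsg.Lie.twistedE6 K q) => (z : GL chevE6.Idx K)) h1
    exact Subtype.ext h2
  refine
    { hle := inf_le_left
      ne := ?_
      max := ?_
      ker := hker
      inj := ?_
      perf := hA
      le := ?_
      act := ?_
      cent := ?_
      no_add := ?_
      irr := ?_ }
  · intro h
    apply hM.coatom.1
    rw [eq_top_iff]
    intro y _
    obtain ⟨g, hg, hgy⟩ := hex y
    rw [← h, mem_twM] at hg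
    obtain ⟨-, y', hy', h1⟩ := hg
    have h2 : y' = y := incl_injective K q (h1.trans hgy)
    rwa [← h2]
  · intro X h1 h2
    have h3 : H ≤ (X.map (ad K)).comap (incl K q) := by
      intro y hy
      obtain ⟨g, hg, hgy⟩ := hex y
      exact ⟨g, h1 (mem_twM.2 ⟨hg, y, hy, hgy.symm⟩), hgy⟩
    rcases eq_or_lt_of_le h3 with h4 | h4
    · left
      refine le_antisymm (fun x hx => ?_) h1
      obtain ⟨y, hy⟩ := hGl x (h2 hx)
      refine mem_twM.2 ⟨h2 hx, y, ?_, hy⟩
      rw [h4]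
      exact ⟨x, hx, hy.symm⟩
    · right
      have h5 : (X.map (ad K)).comap (incl K q) = ⊤ := hM.coatom.2 _ h4
      refine le_antisymm h2 fun g hg => ?_
      obtain ⟨y, hy⟩ := hGl g hg
      have h6 : y ∈ (X.map (ad K)).comap (incl K q) := by rw [h5]; trivial
      obtain ⟨x, hx, hxy⟩ := h6
      have h7 : x⁻¹ * g ∈ X := h1 (hker _ (mul_mem (inv_mem (h2 hx)) hg) (by
        rw [map_mul, map_inv, hxy, hy, inv_mul_cancel]))
      have h8 := mul_mem hx h7
      rwa [mul_inv_cancel_left] at h8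
  · intro a b hab
    apply hM.inj
    apply incl_injective K q
    have h1 := hψ a
    rw [hab, hψ b] at h1
    exact h1.symm
  · rintro _ ⟨a, rfl⟩
    exact mem_twM.2 ⟨hG a, φ a, hM.le ⟨a, rfl⟩, (hψ a).symm⟩
  · obtain ⟨ι, hι, hιφ, hιc⟩ := hM.act
    have hch : ∀ h : ↥(twM f H), ∃ y : ↥H, incl K q y = ad K (h : ↥(Zgrp K)) := by
      intro h
      obtain ⟨-, y, hy, h1⟩ := mem_twM.1 h.2
      exact ⟨⟨y, hy⟩, h1⟩
    choose π hπ using hch
    let πh : ↥(twM f H) →* ↥H := MonoidHom.mk' π (by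
      intro a b
      apply Subtype.ext
      apply incl_injective K q
      rw [hπ, Subgroup.coe_mul, Subgroup.coe_mul, map_mul, map_mul, hπ, hπ])
    refine ⟨ι.comp πh, ?_, ?_, ?_⟩
    · intro h a
      refine conj_lift hA _ _ (fun a => ?_) a
      rw [hψ, hψ]
      show incl K q (φ (ι (π h) a)) = _
      rw [hιφ, map_mul, map_mul, map_inv, hπ]
      rfl
    · intro h
      constructor
      · intro h1
        have h2 : π h = 1 := hι (by rw [map_one]; exact h1)
        rw [← hπ, h2, Subgroup.coe_one, map_one]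
      · intro h1
        have h2 : π h = 1 := by
          apply Subtype.ext
          apply incl_injective K q
          rw [hπ, h1, Subgroup.coe_one, map_one]
        show ι (π h) = 1
        rw [h2, map_one]
    · intro a ha
      have h1 : π ⟨ψ a, ha⟩ = ⟨φ a, hM.le ⟨a, rfl⟩⟩ := by
        apply Subtype.ext
        apply incl_injective K q
        rw [hπ]
        exact hψ a
      show ι (π ⟨ψ a, ha⟩) = _
      rw [h1, hιc]
  · intro z hz h
    obtain ⟨y, hy⟩ := hGl z hz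
    rw [← hy, hM.cent y, map_one]
    intro a
    apply incl_injective K q
    rw [map_mul, map_mul, hy]
    have h1 : ad K (ψ a) = incl K q (φ a) := hψ a
    rw [← h1, ← map_mul, ← map_mul, h]
  · intro a ha ha2 h
    refine kill hq hK hf hqq (A := ((incl K q).comp φ).range) ?_ ?_ ha ha2 ?_
    · rintro _ ⟨b, rfl⟩
      exact (φ b).2
    · intro y hy hc
      exact hcent y hy fun b => hc _ ⟨b, rfl⟩
    · intro t
      obtain ⟨g, h1, h2⟩ := h t
      refine ⟨g, h1, ?_⟩
      rintro _ ⟨b, rfl⟩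
      rw [← hψ b, ← map_mul, ← map_mul, h2]
  · rintro ρ (rfl | rfl) W hW
    · exact TwIrr.irred hq hK hf hqq hW
    · exact TwIrr.irred' hq hK hf hqq hW

end

end Cfsg.Agent.R2.H9.E6
end

-- part: R2/H9/E6/NoLine
section
/-!
# S5749, S5750: no `M`-stable lines (helper9)

* `NoSub M k` : no `M`-stable subspaces of dimension `k` in `V` or `V'`;
* `noLine_e6`, `noTwo_e6` : `E₆(q)`;
* `noLine_tw` : `²E₆(q)`, `a ≤ 6 b`.
-/

set_option autoImplicit false

namespace Cfsg.Agent.R2.H9.E6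

open Cfsg Cfsg.Lie Module Matrix
open Cfsg.Agent.ChevalleyStructure.E6Min.Basic Cfsg.Agent.ChevalleyStructure.E6Min.Adjoint
open Cfsg.Agent.H163.E6 Cfsg.Agent.H944.E6Tw Cfsg.Agent.H163.E6.Tw
open Cfsg.Agent.H952.F4 (ev sh cr tf)

universe u v w

/-- no stable subspaces of dimension `k` -/
def NoSub {F : Type u} [Field F] (M : Subgroup ↥(Zgrp F)) (k : ℕ) : Prop :=
  ∀ ρ : Representation F ↥(Zgrp F) (I27 → F), (ρ = V F ∨ ρ = V' F) → ∀ W : Submodule F (I27 → F),
    (∀ g ∈ M, ∀ w ∈ W, ρ g w ∈ W) → finrank F ↥W ≠ k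

theorem key_pow {q : ℕ} (hq : 2 ≤ q) (a : ℕ) : (2 ^ a - 1) * q ^ a ≤ 2 ^ a * (q ^ a - 1) := by
  have h4 : 2 ^ a ≤ q ^ a := Nat.pow_le_pow_left hq a
  have h5 : 1 ≤ 2 ^ a := Nat.one_le_pow _ _ (by norm_num)
  rw [Nat.mul_sub, Nat.sub_mul, mul_one, one_mul]
  omega

/-- the order of `E₆(q)` -/
theorem card_e6_ge {F : Type u} [Field F] [Finite F] : Nat.card F ^ 78 ≤ 8 * Nat.card ↥(chevE6.group F) := by
  have hfin := Fintype.ofFinite F
  have ho := S1063.result (F := F) Nat.card_eq_fintype_card.symm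
  have hq : 2 ≤ Nat.card F := Finite.one_lt_card
  set q := Nat.card F with hqd
  set N := Nat.card ↥(chevE6.group F)
  have hg : Nat.gcd 3 (q - 1) ≤ 3 := Nat.gcd_le_left _ (by norm_num)
  have h1 : q ^ 36 * (q ^ 2 - 1) * (q ^ 5 - 1) * (q ^ 6 - 1) * (q ^ 8 - 1) * (q ^ 9 - 1) * (q ^ 12 - 1) ≤ 3 * N := by
    rw [← ho]; exact Nat.mul_le_mul_right _ hg
  have k2 := key_pow hq 2
  have k5 := key_pow hq 5
  have k6 := key_pow hq 6
  have k8 := key_pow hq 8
  have k9 := key_pow hq 9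
  have k12 := key_pow hq 12
  have h2 : (2 ^ 2 - 1) * (2 ^ 5 - 1) * (2 ^ 6 - 1) * (2 ^ 8 - 1) * (2 ^ 9 - 1) * (2 ^ 12 - 1) * q ^ 78 ≤
      2 ^ 42 * (3 * N) := by
    calc (2 ^ (2:ℕ) - 1) * (2 ^ (5:ℕ) - 1) * (2 ^ (6:ℕ) - 1) * (2 ^ (8:ℕ) - 1) * (2 ^ (9:ℕ) - 1) * (2 ^ (12:ℕ) - 1) * q ^ (78:ℕ)
        = q ^ (36:ℕ) * ((2 ^ (2:ℕ) - 1) * q ^ (2:ℕ)) * ((2 ^ (5:ℕ) - 1) * q ^ (5:ℕ)) * ((2 ^ (6:ℕ) - 1) * q ^ (6:ℕ)) * ((2 ^ (8:ℕ) - 1) * q ^ (8:ℕ)) *
          ((2 ^ (9:ℕ) - 1) * q ^ (9:ℕ)) * ((2 ^ (12:ℕ) - 1) * q ^ (12:ℕ)) := by ring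
      _ ≤ q ^ (36:ℕ) * (2 ^ (2:ℕ) * (q ^ (2:ℕ) - 1)) * (2 ^ (5:ℕ) * (q ^ (5:ℕ) - 1)) * (2 ^ (6:ℕ) * (q ^ (6:ℕ) - 1)) * (2 ^ (8:ℕ) * (q ^ (8:ℕ) - 1)) *
          (2 ^ (9:ℕ) * (q ^ (9:ℕ) - 1)) * (2 ^ (12:ℕ) * (q ^ (12:ℕ) - 1)) := by gcongr
      _ = 2 ^ (42:ℕ) * (q ^ (36:ℕ) * (q ^ (2:ℕ) - 1) * (q ^ (5:ℕ) - 1) * (q ^ (6:ℕ) - 1) * (q ^ (8:ℕ) - 1) * (q ^ (9:ℕ) - 1) * (q ^ (12:ℕ) - 1)) := by ring
      _ ≤ _ := Nat.mul_le_mul_left _ h1
  norm_num only [] at h2
  omega

/-- the order of `²E₆(q)` -/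
theorem card_tw_ge {K : Type u} [Field K] [Fintype K] {q : ℕ} (hq : IsPrimePow q) (hK : Fintype.card K = q ^ 2) :
    5 * q ^ 78 ≤ 24 * Nat.card ↥(Cfsg.Lie.twistedE6 K q) := by
  have ho := S1066.result (K := K) hq hK
  have hq2 : 2 ≤ q := hq.two_le
  set N := Nat.card ↥(Cfsg.Lie.twistedE6 K q)
  have hg : Nat.gcd 3 (q + 1) ≤ 3 := Nat.gcd_le_left _ (by norm_num)
  have h1 : q ^ 36 * (q ^ 2 - 1) * (q ^ 5 + 1) * (q ^ 6 - 1) * (q ^ 8 - 1) * (q ^ 9 + 1) * (q ^ 12 - 1) ≤ 3 * N := by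
    rw [← ho]; exact Nat.mul_le_mul_right _ hg
  have k2 := key_pow hq2 2
  have k6 := key_pow hq2 6
  have k8 := key_pow hq2 8
  have k12 := key_pow hq2 12
  have h2 : (2 ^ 2 - 1) * (2 ^ 6 - 1) * (2 ^ 8 - 1) * (2 ^ 12 - 1) * q ^ 78 ≤ 2 ^ 28 * (3 * N) := by
    calc (2 ^ (2:ℕ) - 1) * (2 ^ (6:ℕ) - 1) * (2 ^ (8:ℕ) - 1) * (2 ^ (12:ℕ) - 1) * q ^ (78:ℕ)
        = q ^ (36:ℕ) * ((2 ^ (2:ℕ) - 1) * q ^ (2:ℕ)) * (q ^ (5:ℕ)) * ((2 ^ (6:ℕ) - 1) * q ^ (6:ℕ)) * ((2 ^ (8:ℕ) - 1) * q ^ (8:ℕ)) *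
          (q ^ (9:ℕ)) * ((2 ^ (12:ℕ) - 1) * q ^ (12:ℕ)) := by ring
      _ ≤ q ^ (36:ℕ) * (2 ^ (2:ℕ) * (q ^ (2:ℕ) - 1)) * (q ^ (5:ℕ) + 1) * (2 ^ (6:ℕ) * (q ^ (6:ℕ) - 1)) * (2 ^ (8:ℕ) * (q ^ (8:ℕ) - 1)) *
          (q ^ (9:ℕ) + 1) * (2 ^ (12:ℕ) * (q ^ (12:ℕ) - 1)) := by gcongr <;> omega
      _ = 2 ^ (28:ℕ) * (q ^ (36:ℕ) * (q ^ (2:ℕ) - 1) * (q ^ (5:ℕ) + 1) * (q ^ (6:ℕ) - 1) * (q ^ (8:ℕ) - 1) * (q ^ (9:ℕ) + 1) * (q ^ (12:ℕ) - 1)) := by ring
      _ ≤ _ := Nat.mul_le_mul_left _ h1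
  norm_num only [] at h2
  omega

theorem card_map_top {F : Type u} [Field F] : Nat.card ↥((⊤ : Subgroup ↥(Zgrp F)).map (ad F)) =
    Nat.card ↥(chevE6.group F) := by
  rw [← MonoidHom.range_eq_map, MonoidHom.range_eq_top.2 ad_surjective]
  exact Nat.card_congr Subgroup.topEquiv.toEquiv

theorem map_Gs {K : Type u} [Field K] [Fintype K] {q : ℕ} (hq : IsPrimePow q) (hK : Fintype.card K = q ^ 2)
    {f : K →+* K} (hf : ∀ t, f t = t ^ q) (hqq : ∀ t : K, (t ^ q) ^ q = t) :
    (Gs f).map (ad K) = (incl K q).range := by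
  ext y
  constructor
  · rintro ⟨g, hg, rfl⟩
    have h2 := Gs_le_Gl hq hK hf hqq hg
    rw [mem_Gl] at h2
    exact ⟨⟨_, h2⟩, Subtype.ext rfl⟩
  · rintro ⟨y, rfl⟩
    obtain ⟨g, hg, hgy⟩ := exists_Gs f hf hqq y.2
    exact ⟨g, hg, Subtype.ext hgy⟩

theorem card_map_Gs {K : Type u} [Field K] [Fintype K] {q : ℕ} (hq : IsPrimePow q) (hK : Fintype.card K = q ^ 2)
    {f : K →+* K} (hf : ∀ t, f t = t ^ q) (hqq : ∀ t : K, (t ^ q) ^ q = t) :
    Nat.card ↥((Gs f).map (ad K)) = Nat.card ↥(Cfsg.Lie.twistedE6 K q) := by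
  rw [map_Gs hq hK hf hqq]
  exact (Nat.card_congr (MonoidHom.ofInjective (incl_injective K q)).toEquiv).symm

/-- the order of `Aut PSL₂(p^a)` -/
theorem card_aut_le {K : Type v} [Field K] [Fintype K] {p a : ℕ} [Fact p.Prime] (ha : 1 ≤ a)
    (hK : Fintype.card K = p ^ a) (h4 : 4 ≤ Fintype.card K) :
    Nat.card (MulAut (ProjectiveSpecialLinearGroup (Fin 2) K)) ≤ a * (p ^ a) ^ 3 := by
  rw [card_mulAut_psl p a ha hK h4]
  refine Nat.mul_le_mul_left _ ?_
  calc p ^ a * ((p ^ a) ^ 2 - 1) ≤ p ^ a * (p ^ a) ^ 2 := Nat.mul_le_mul_left _ (Nat.sub_le _ _)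
    _ = _ := by ring

theorem two_mul_le_pow {p b : ℕ} (hp : 2 ≤ p) (hb : 1 ≤ b) : 2 * b ≤ p ^ b := by
  refine le_trans ?_ (Nat.pow_le_pow_left hp b)
  induction b, hb using Nat.le_induction with
  | base => norm_num
  | succ n hn ih => rw [pow_succ]; omega

theorem card_aut_le' {K : Type v} [Field K] [Fintype K] {p a b c : ℕ} [Fact p.Prime] (ha : 1 ≤ a) (hb : 1 ≤ b)
    (hK : Fintype.card K = p ^ a) (h4 : 4 ≤ Fintype.card K) (hab : a ≤ c * b) :
    2 * Nat.card (MulAut (ProjectiveSpecialLinearGroup (Fin 2) K)) ≤ c * (p ^ b) ^ (3 * c + 1) := by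
  have hp : p.Prime := Fact.out
  have h1 := card_aut_le ha hK h4
  have h2 : (p ^ a) ^ 3 ≤ (p ^ b) ^ (3 * c) := by
    rw [← pow_mul, ← pow_mul]
    exact Nat.pow_le_pow_right hp.pos (by linarith only [hab])
  have h3 := two_mul_le_pow hp.two_le hb
  calc 2 * Nat.card (MulAut (ProjectiveSpecialLinearGroup (Fin 2) K)) ≤ 2 * (a * (p ^ a) ^ 3) := Nat.mul_le_mul_left _ h1
    _ ≤ 2 * (c * b * (p ^ b) ^ (3 * c)) := by gcongr
    _ = c * ((2 * b) * (p ^ b) ^ (3 * c)) := by ring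
    _ ≤ c * (p ^ b * (p ^ b) ^ (3 * c)) := by gcongr
    _ = _ := by ring

section main

variable {F : Type u} [Field F] {M : Subgroup ↥(Zgrp F)} {K : Type v} [Field K] [Fintype K]
  {ψ : ProjectiveSpecialLinearGroup (Fin 2) K →* ↥(Zgrp F)} {p a b : ℕ} [Fact p.Prime]

/-- **`E₆(q)`: no stable lines** -/
theorem noLine_e6 [Finite F] (h : Setup ⊤ M ψ) (hF : Nat.card F = p ^ b) (ha : 1 ≤ a) (hb : 1 ≤ b)
    (hK : Fintype.card K = p ^ a) (h4 : 4 ≤ Fintype.card K) (hab : a ≤ 6 * b) : NoSub M 1 := by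
  intro ρ hρ W hW h1
  have h2 := h.count_sub hρ hW h1 le_rfl (by norm_num)
  rw [card_map_top] at h2
  have h3 := card_e6_ge (F := F)
  have h5 := card_aut_le' ha hb hK h4 hab
  rw [← hF] at h5
  have hq : 2 ≤ Nat.card F := Finite.one_lt_card
  simp only [Finset.univ_unique, Fin.default_eq_zero, Fin.val_zero, Finset.prod_singleton, pow_one, pow_zero, mul_one]
    at h2
  set! q := Nat.card F with hset8; rewrite [← hset8] at h2 hq h5 h3 hF; clear hset8
  set! N := Nat.card ↥(chevE6.group F) with hset8; rewrite [← hset8] at h2 h3; clear hset8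
  set! X := Nat.card (MulAut (ProjectiveSpecialLinearGroup (Fin 2) K)) with hset8; rewrite [← hset8] at h2 h5; clear hset8
  have h6 : N * 1 ≤ N * (q - 1) := Nat.mul_le_mul_left _ (by omega)
  have h7 : q ^ 78 ≤ 24 * q ^ 46 := by
    calc q ^ 78 ≤ 8 * N := h3
      _ ≤ 8 * (X * q ^ 27) := by omega
      _ = 4 * (2 * X) * q ^ 27 := by ring
      _ ≤ 4 * (6 * q ^ (3 * 6 + 1)) * q ^ 27 := by gcongr
      _ = 24 * q ^ 46 := by ring
  have h8 : q ^ 78 = q ^ 32 * q ^ 46 := by ring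
  rw [h8] at h7
  have h9 : 0 < q ^ 46 := by positivity
  have h10 := Nat.le_of_mul_le_mul_right h7 h9
  have h11 : 2 ^ 32 ≤ q ^ 32 := Nat.pow_le_pow_left hq 32
  norm_num at h11
  omega

/-- **`E₆(q)`: no stable subspaces of dimension 2** -/
theorem noTwo_e6 [Finite F] (h : Setup ⊤ M ψ) (hF : Nat.card F = p ^ b) (ha : 1 ≤ a) (hb : 1 ≤ b)
    (hK : Fintype.card K = p ^ a) (h4 : 4 ≤ Fintype.card K) (hab : a ≤ 6 * b) : NoSub M 2 := by
  intro ρ hρ W hW h1
  have h2 := h.count_sub hρ hW h1 (by norm_num) (by norm_num)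
  rw [card_map_top] at h2
  have h3 := card_e6_ge (F := F)
  have h5 := card_aut_le' ha hb hK h4 hab
  rw [← hF] at h5
  have hq : 2 ≤ Nat.card F := Finite.one_lt_card
  simp only [Fin.prod_univ_two, Fin.val_zero, Fin.val_one, pow_zero, pow_one] at h2
  set! q := Nat.card F with hset8; rewrite [← hset8] at h2 hq h5 h3 hF; clear hset8
  set! N := Nat.card ↥(chevE6.group F) with hset8; rewrite [← hset8] at h2 h3; clear hset8
  set! X := Nat.card (MulAut (ProjectiveSpecialLinearGroup (Fin 2) K)) with hset8; rewrite [← hset8] at h2 h5; clear hset8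
  have h6 : N * (q * q) ≤ N * ((q ^ 2 - 1) * (q ^ 2 - q)) := by
    refine Nat.mul_le_mul_left _ (Nat.mul_le_mul ?_ ?_)
    · have : q + 1 ≤ q ^ 2 := by nlinarith only [hq]
      omega
    · have : q + q ≤ q ^ 2 := by nlinarith only [hq]
      omega
  have h7 : q ^ 80 ≤ 24 * q ^ 73 := by
    calc q ^ 80 = q ^ 78 * (q * q) := by ring
      _ ≤ 8 * N * (q * q) := Nat.mul_le_mul_right _ h3
      _ = 8 * (N * (q * q)) := by ring
      _ ≤ 8 * (X * q ^ (27 * 2)) := by omega
      _ = 4 * (2 * X) * q ^ 54 := by ring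
      _ ≤ 4 * (6 * q ^ (3 * 6 + 1)) * q ^ 54 := by gcongr
      _ = 24 * q ^ 73 := by ring
  have h8 : q ^ 80 = q ^ 7 * q ^ 73 := by ring
  rw [h8] at h7
  have h9 : 0 < q ^ 73 := by positivity
  have h10 := Nat.le_of_mul_le_mul_right h7 h9
  have h11 : 2 ^ 7 ≤ q ^ 7 := Nat.pow_le_pow_left hq 7
  norm_num at h11
  omega

end main

/-- **`²E₆(q)`: no stable lines**, `a ≤ 6 b` -/
theorem noLine_tw {L : Type u} [Field L] [Fintype L] {p a b : ℕ} [Fact p.Prime] {f : L →+* L}
    (hf : ∀ t, f t = t ^ (p ^ b)) (hqq : ∀ t : L, (t ^ (p ^ b)) ^ (p ^ b) = t) (hL : Fintype.card L = (p ^ b) ^ 2)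
    {M : Subgroup ↥(Zgrp L)} {K : Type v} [Field K] [Fintype K]
    {ψ : ProjectiveSpecialLinearGroup (Fin 2) K →* ↥(Zgrp L)} (h : Setup (Gs f) M ψ) (ha : 1 ≤ a) (hb : 1 ≤ b)
    (hK : Fintype.card K = p ^ a) (h4 : 4 ≤ Fintype.card K) (hab : a ≤ 6 * b) : NoSub M 1 := by
  intro ρ hρ W hW h1
  have hp : p.Prime := Fact.out
  have hpp : IsPrimePow (p ^ b) := hp.isPrimePow.pow (by omega)
  have h2 := h.count_sub hρ hW h1 le_rfl (by norm_num)
  rw [card_map_Gs hpp hL hf hqq, Nat.card_eq_fintype_card (α := L), hL] at h2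
  have h3 := card_tw_ge hpp hL
  have h5 := card_aut_le' ha hb hK h4 hab
  have hq : 2 ≤ p ^ b := hpp.two_le
  simp only [Finset.univ_unique, Fin.default_eq_zero, Fin.val_zero, Finset.prod_singleton, pow_one, pow_zero, mul_one]
    at h2
  set! q := p ^ b with hset8; rewrite [← hset8] at h2 hq h5 h3 hpp hL hqq hf; clear hset8
  set! N := Nat.card ↥(Cfsg.Lie.twistedE6 L q) with hset8; rewrite [← hset8] at h2 h3; clear hset8
  set! X := Nat.card (MulAut (ProjectiveSpecialLinearGroup (Fin 2) K)) with hset8; rewrite [← hset8] at h2 h5; clear hset8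
  have h6 : N * q ≤ N * (q ^ 2 - 1) := Nat.mul_le_mul_left _ (by
    have : q + 1 ≤ q ^ 2 := by nlinarith only [hq]
    omega)
  have h7 : 5 * q ^ 79 ≤ 72 * q ^ 73 := by
    calc 5 * q ^ 79 = 5 * q ^ 78 * q := by ring
      _ ≤ 24 * N * q := Nat.mul_le_mul_right _ h3
      _ = 24 * (N * q) := by ring
      _ ≤ 24 * (X * (q ^ 2) ^ 27) := by omega
      _ = 12 * (2 * X) * q ^ 54 := by ring
      _ ≤ 12 * (6 * q ^ (3 * 6 + 1)) * q ^ 54 := by gcongr
      _ = 72 * q ^ 73 := by ring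
  have h8 : 5 * q ^ 79 = (5 * q ^ 6) * q ^ 73 := by ring
  rw [h8] at h7
  have h9 : 0 < q ^ 73 := by positivity
  have h10 := Nat.le_of_mul_le_mul_right h7 h9
  have h11 : 2 ^ 6 ≤ q ^ 6 := Nat.pow_le_pow_left hq 6
  norm_num at h11
  omega

end Cfsg.Agent.R2.H9.E6
end

-- part: R2/H9/E6/NumTw
section
/-!
# S5749, S5750: `a ≤ 6 b` (helper9)
-/

set_option autoImplicit false

namespace Cfsg.Agent.R2.H9.E6

open Cfsg Matrix

universe u v

theorem le_e6 {F : Type u} [Field F] [Fintype F] {p b : ℕ} (hp : p.Prime) (hb : 1 ≤ b) (hF : Fintype.card F = p ^ b)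
    {K : Type v} [Field K] [Fintype K] {a : ℕ} (ha : 1 ≤ a) (hK : Fintype.card K = p ^ a)
    {φ : ProjectiveSpecialLinearGroup (Fin 2) K →* ↥(Cfsg.Lie.chevE6.group F)} (hφ : Function.Injective φ) :
    a ≤ 6 * b := by
  rcases bound_e6 hp hF ha hK hφ with rfl | ⟨-, rfl⟩ | ⟨d, hd, h⟩
  · omega
  · omega
  · have h1 : d ≤ 12 ∧ 0 < d := by
      simp only [List.mem_cons, List.not_mem_nil, or_false] at hd
      omega
    have h2 := Nat.le_of_dvd (Nat.mul_pos hb h1.2) h
    have h3 : b * d ≤ b * 12 := Nat.mul_le_mul_left _ h1.1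
    omega

/-- `a ≠ 9 b` in `²E₆(p^b)` -/
theorem ne_nine {L : Type u} [Field L] [Fintype L] {p b : ℕ} (hp : p.Prime) (hb : 1 ≤ b)
    (hL : Fintype.card L = (p ^ b) ^ 2)
    {K : Type v} [Field K] [Fintype K] {a : ℕ} (hK : Fintype.card K = p ^ a)
    {φ : ProjectiveSpecialLinearGroup (Fin 2) K →* ↥(Cfsg.Lie.twistedE6 L (p ^ b))} (hφ : Function.Injective φ) :
    a ≠ 9 * b := by
  rintro rfl
  obtain ⟨r, hr, hr1, hr2⟩ := S2904.result p (9 * b) hp.one_lt (by omega) (by
    rintro ⟨-, h5⟩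
    omega) (by
    rintro ⟨h4, -⟩
    omega)
  have hrp : r ≠ p := by
    rintro rfl
    have h4 : r ∣ r ^ (9 * b) := dvd_pow_self r (by omega)
    have h5 : 1 ≤ r ^ (9 * b) := Nat.one_le_pow _ _ hr.pos
    have h6 := (Nat.dvd_sub h4 hr1)
    rw [show r ^ (9 * b) - (r ^ (9 * b) - 1) = 1 by omega] at h6
    exact hr.one_lt.ne' (Nat.dvd_one.1 h6)
  have hr20 : r ≠ 2 := by
    rintro rfl
    have h4 : Odd p := hp.odd_of_ne_two (Ne.symm hrp)
    refine hr2 1 one_pos (by omega) ?_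
    rw [pow_one]
    obtain ⟨k, hk⟩ := h4
    exact ⟨k, by omega⟩
  have hra : r ∣ (p ^ (9 * b)) ^ 2 - 1 := by
    have h7 : (p ^ (9 * b)) ^ 2 - 1 = (p ^ (9 * b) + 1) * (p ^ (9 * b) - 1) := by
      rw [← Nat.sq_sub_sq, one_pow]
    rw [h7]
    exact Dvd.dvd.mul_left hr1 _
  have h4 := (prime_dvd_psl hK hr hr20 hra).trans (Subgroup.card_dvd_of_injective φ hφ)
  have h5 := S1066.result (K := L) (hp.isPrimePow.pow (by omega)) hL
  have h6 := h4.trans (Dvd.intro_left _ h5)
  have key : ∀ d, r ∣ (p ^ b) ^ d - 1 → 9 * b ∣ b * d := by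
    intro d hd
    rw [← pow_mul] at hd
    exact dvd_of_primitive hp.one_lt hr hr1 hr2 (by omega) hd
  have key' : ∀ d, r ∣ (p ^ b) ^ d - 1 → 9 ∣ d := by
    intro d hd
    have h8 := key d hd
    rw [mul_comm 9 b] at h8
    exact Nat.dvd_of_mul_dvd_mul_left hb h8
  have hq : ¬ r ∣ (p ^ b) ^ 36 := by
    intro h
    exact hrp ((Nat.prime_dvd_prime_iff_eq hr hp).1 (hr.dvd_of_dvd_pow (hr.dvd_of_dvd_pow h)))
  have hsq : ∀ m : ℕ, r ∣ (p ^ b) ^ m + 1 → r ∣ (p ^ b) ^ (2 * m) - 1 := by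
    intro m h
    have h7 : (p ^ b) ^ (2 * m) - 1 = ((p ^ b) ^ m + 1) * ((p ^ b) ^ m - 1) := by
      rw [mul_comm 2 m, pow_mul, ← Nat.sq_sub_sq, one_pow]
    rw [h7]
    exact Dvd.dvd.mul_right h _
  simp only [Nat.Prime.dvd_mul hr] at h6
  rcases h6 with (((((h | h) | h) | h) | h) | h) | h
  · exact absurd h hq
  · exact absurd (key' 2 h) (by norm_num)
  · exact absurd (key' 10 (hsq 5 h)) (by norm_num)
  · exact absurd (key' 6 h) (by norm_num)
  · exact absurd (key' 8 h) (by norm_num)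
  · -- `r` divides `q^9 + 1` and `q^9 - 1`
    have h8 : r ∣ (p ^ b) ^ 9 - 1 := by rwa [← pow_mul, mul_comm b 9]
    have h9 : 1 ≤ (p ^ b) ^ 9 := Nat.one_le_pow _ _ (Nat.pow_pos hp.pos)
    have h10 := Nat.dvd_sub h h8
    rw [show (p ^ b) ^ 9 + 1 - ((p ^ b) ^ 9 - 1) = 2 by omega] at h10
    exact hr20 ((Nat.prime_dvd_prime_iff_eq hr Nat.prime_two).1 h10)
  · exact absurd (key' 12 h) (by norm_num)

theorem le_tw {L : Type u} [Field L] [Fintype L] {p b : ℕ} (hp : p.Prime) (hb : 1 ≤ b)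
    (hL : Fintype.card L = (p ^ b) ^ 2)
    {K : Type v} [Field K] [Fintype K] {a : ℕ} (ha : 1 ≤ a) (hK : Fintype.card K = p ^ a)
    {φ : ProjectiveSpecialLinearGroup (Fin 2) K →* ↥(Cfsg.Lie.twistedE6 L (p ^ b))} (hφ : Function.Injective φ) :
    a ≤ 6 * b := by
  have h9 := ne_nine hp hb hL hK hφ
  rcases bound_tw hp hb hL ha hK hφ with rfl | ⟨-, rfl⟩ | ⟨d, hd, h⟩
  · omega
  · omega
  · have h18 : d ≠ 18 → a ≤ 6 * b := by
      intro h18
      have h1 : d ≤ 12 ∧ 0 < d := by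
        simp only [List.mem_cons, List.not_mem_nil, or_false] at hd
        omega
      have h2 := Nat.le_of_dvd (Nat.mul_pos hb h1.2) h
      have h3 : b * d ≤ b * 12 := Nat.mul_le_mul_left _ h1.1
      omega
    by_cases h1 : d = 18
    · subst h1
      obtain ⟨k, hk⟩ := h
      have hk0 : k ≠ 0 := by rintro rfl; omega
      have hk1 : k ≠ 1 := by rintro rfl; omega
      have hk2 : 2 ≤ k := by omega
      have : 2 * a * 2 ≤ 2 * a * k := Nat.mul_le_mul_left _ hk2
      omega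
    · exact h18 h1

end Cfsg.Agent.R2.H9.E6
end

-- part: R2/H9/E6/Cfg
section
/-!
# S5749, S5750: the configuration (helper9)

`Cfg p a b Γ M ψ` : the configuration to be excluded, for both families. `cfg_e6`, `cfg_tw` : its existence for a maximal
subgroup with generalized Fitting subgroup `PSL₂(p^a)`, `p^a ≥ 7`, `p^a ≠ 9`.
-/

set_option autoImplicit false

namespace Cfsg.Agent.R2.H9.E6

open Cfsg Cfsg.Lie Module Matrix
open Cfsg.Agent.ChevalleyStructure
open Cfsg.Agent.ChevalleyStructure.E6Min.Basic Cfsg.Agent.ChevalleyStructure.E6Min.Adjoint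
open Cfsg.Agent.H163.E6 Cfsg.Agent.H944.E6Tw Cfsg.Agent.H163.E6.Tw
open Cfsg.Agent.H952.F4 (ev sh cr tf)

universe u v w

/-- the configuration to be excluded -/
structure Cfg {F : Type u} [Field F] [Fintype F] {K : Type v} [Field K] [Fintype K] (p a b : ℕ)
    (Γ M : Subgroup ↥(Zgrp F)) (ψ : ProjectiveSpecialLinearGroup (Fin 2) K →* ↥(Zgrp F)) : Prop where
  set : Setup Γ M ψ
  prime : p.Prime
  ha : 1 ≤ a
  hb : 1 ≤ b
  charF : CharP F p
  charK : CharP K p
  cardK : Fintype.card K = p ^ a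
  seven : 7 ≤ Fintype.card K
  nine : Fintype.card K ≠ 9
  le : a ≤ 6 * b
  noLine : NoSub M 1
  fam : (Γ = ⊤ ∧ Fintype.card F = p ^ b ∧ NoSub M 2) ∨
    (Fintype.card F = (p ^ b) ^ 2 ∧ ∃ f : F →+* F, (∀ t, f t = t ^ (p ^ b)) ∧ (∀ t : F, (t ^ (p ^ b)) ^ (p ^ b) = t) ∧
      Γ = Gs f)

theorem charP_of_card {F : Type u} [Field F] [Fintype F] {p n : ℕ} (hp : p.Prime) (h : Fintype.card F = p ^ n) :
    CharP F p := by
  have : Fact p.Prime := ⟨hp⟩
  exact charP_of_card_eq_prime_pow h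

/-- **`E₆(q)`** -/
theorem cfg_e6 {F : Type u} [Field F] [Fintype F] {p : ℕ} (hp : p.Prime) (hF : CharP F p)
    {H : Subgroup ↥(chevE6.group F)} (hH : IsCoatom H) {K : Type v} [Field K] [Fintype K] {a : ℕ} (ha : 1 ≤ a)
    (hK : Fintype.card K = p ^ a) (h7 : 7 ≤ Fintype.card K) (h9 : Fintype.card K ≠ 9)
    (e : Nonempty (↥(generalizedFittingSubgroup ↥H) ≃* ProjectiveSpecialLinearGroup (Fin 2) K)) :
    ∃ (b : ℕ) (M : Subgroup ↥(Zgrp F)) (ψ : ProjectiveSpecialLinearGroup (Fin 2) K →* ↥(Zgrp F)),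
      Cfg p a b ⊤ M ψ ∧ Fintype.card F = p ^ b := by
  have hfp : Fact p.Prime := ⟨hp⟩
  obtain ⟨n, -, hn⟩ := FiniteField.card F p
  have hb : 1 ≤ (n : ℕ) := n.2
  have hs : IsSimpleGroup ↥(chevE6.group F) := (S1054.result chevE6 (by simp)).1
  have hsA := psl_simple (K := K) (by omega)
  obtain ⟨φ, hM⟩ := exists_maxSimp hH (psl_noncomm (by omega)) e
  obtain ⟨ψ, hψ⟩ := exists_lift_psl (by omega) h9 (psl_perfect (by omega)) hM.inj
  have hS := Setup.of_e6 hM (psl_perfect (by omega)) hψ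
  have hle := le_e6 hp hb hn ha hK hM.inj
  have hF' : Nat.card F = p ^ (n : ℕ) := by rw [Nat.card_eq_fintype_card, hn]
  refine ⟨n, _, ψ, ⟨hS, hp, ha, hb, hF, charP_of_card hp hK, hK, h7, h9, hle, ?_, Or.inl ⟨rfl, hn, ?_⟩⟩, hn⟩
  · exact noLine_e6 hS hF' ha hb hK (by omega) hle
  · exact noTwo_e6 hS hF' ha hb hK (by omega) hle

/-- **`²E₆(q)`** -/
theorem cfg_tw {L : Type u} [Field L] [Fintype L] {p b : ℕ} (hp : p.Prime) (hb : 1 ≤ b)
    (hL : Fintype.card L = (p ^ b) ^ 2)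
    {H : Subgroup ↥(Cfsg.Lie.twistedE6 L (p ^ b))} (hH : IsCoatom H) {K : Type v} [Field K] [Fintype K] {a : ℕ}
    (ha : 1 ≤ a) (hK : Fintype.card K = p ^ a) (h7 : 7 ≤ Fintype.card K) (h9 : Fintype.card K ≠ 9)
    (e : Nonempty (↥(generalizedFittingSubgroup ↥H) ≃* ProjectiveSpecialLinearGroup (Fin 2) K)) :
    ∃ (Γ M : Subgroup ↥(Zgrp L)) (ψ : ProjectiveSpecialLinearGroup (Fin 2) K →* ↥(Zgrp L)),
      Cfg p a b Γ M ψ ∧ SemiG (p ^ b) Γ := by
  have hfp : Fact p.Prime := ⟨hp⟩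
  have hq : IsPrimePow (p ^ b) := hp.isPrimePow.pow (by omega)
  have hs : IsSimpleGroup ↥(Cfsg.Lie.twistedE6 L (p ^ b)) := (S1070.result hq hL).1
  have hsA := psl_simple (K := K) (by omega)
  obtain ⟨φ, hM⟩ := exists_maxSimp hH (psl_noncomm (by omega)) e
  obtain ⟨ψ, hψ⟩ := exists_lift_psl (by omega) h9 (psl_perfect (by omega))
    (φ := (incl L (p ^ b)).comp φ) ((incl_injective L (p ^ b)).comp hM.inj)
  obtain ⟨f, hf, hqq⟩ := TwE6Basic.exists_frob hq hL
  have hS := Setup.of_tw hq hL hf hqq hM (psl_perfect (by omega)) hψ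
  have hle := le_tw hp hb hL ha hK hM.inj
  have hL' : Fintype.card L = p ^ (b * 2) := by rw [hL, ← pow_mul]
  refine ⟨_, _, ψ, ⟨hS, hp, ha, hb, charP_of_card hp hL', charP_of_card hp hK, hK, h7, h9, hle, ?_,
    Or.inr ⟨hL, f, hf, hqq, rfl⟩⟩, semi_of_tw hf hqq⟩
  exact noLine_tw hf hqq hL hS ha hb hK (by omega) hle

end Cfsg.Agent.R2.H9.E6
end

private theorem dce_8f47608e8d55 : _root_.True := by
  try have : _root_.True := by simp only [_root_.Cfsg.Agent.R2.H9.E6.TwIrr.L12.eq_1]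
  try have : _root_.True := by simp only [_root_.Cfsg.Agent.R2.H9.E6.twM.eq_1]
  exact _root_.True.intro
end

-- part: R2/H22/NR
section
prune_inst 0xa1004040512200000000258463001c229c000092004c00004080004005096c400002002004000110180800000004000000000000024000000e000000000001208000100480080008040001000100000000000000000000000000000000000004000000000
set_option linter.all false
open scoped Cfsg.Agent.FastGrp

-- part: R2/H22/Norm
section
/-!
# Norm maps of endomorphisms of finite groups with few fixed points (helper22)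

* `nrm σ n x = x σ(x) … σ^(n-1)(x)`;
* `exists_many` : if `σ^m = 1` and `σ` has at most `e` fixed points, then for every `z : T → C` there is `g` such that
  `nrm σ m (g z(t)) = 1` for at least `|T| / e` values of `t`;
* `coeff_zero_of_many` : the polynomial identity.
-/

set_option autoImplicit false
set_option linter.unusedSectionVars false
set_option linter.deprecated false

namespace Cfsg.Agent.R2.H22.Norm

open Finset

universe u v

section grp

variable {G : Type u} [Group G]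

/-- the norm -/
def nrm (σ : G →* G) : ℕ → G → G
  | 0, _ => 1
  | n + 1, x => x * σ (nrm σ n x)

theorem nrm_zero (σ : G →* G) (x : G) : nrm σ 0 x = 1 := rfl

theorem nrm_succ (σ : G →* G) (n : ℕ) (x : G) : nrm σ (n + 1) x = x * σ (nrm σ n x) := rfl

theorem nrm_succ' (σ : G →* G) (n : ℕ) (x : G) : nrm σ (n + 1) x = nrm σ n x * σ^[n] x := by
  induction n with
  | zero => rw [nrm_succ, nrm_zero, map_one, mul_one, one_mul]; rfl
  | succ n ih =>
    rw [nrm_succ, ih, map_mul, ← mul_assoc, ← nrm_succ, ih, Function.iterate_succ_apply']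

theorem nrm_coboundary (σ : G →* G) (n : ℕ) (y : G) : nrm σ n (y⁻¹ * σ y) = y⁻¹ * σ^[n] y := by
  induction n with
  | zero => rw [nrm_zero]; exact (inv_mul_cancel y).symm
  | succ n ih =>
    rw [nrm_succ, ih, map_mul, map_inv, Function.iterate_succ_apply']
    group

theorem exists_many [Fintype G] [DecidableEq G] (σ : G →* G) (m : ℕ) (hm : ∀ x, σ^[m] x = x) (e : ℕ)
    (he : (univ.filter fun x => σ x = x).card ≤ e) {T : Type v} [Fintype T] [Nonempty T] (z : T → G) :
    ∃ g, Fintype.card T ≤ e * (univ.filter fun t => nrm σ m (g * z t) = 1).card := by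
  classical
  by_contra hcon
  push Not at hcon
  set S : Finset G := univ.filter fun x => nrm σ m x = 1 with hS
  -- the image of the Lang map
  have h1 : Fintype.card G ≤ e * S.card := by
    have h2 : ∀ y ∈ (univ : Finset G), y⁻¹ * σ y ∈ S := by
      intro y _
      rw [hS, mem_filter]
      exact ⟨mem_univ _, by rw [nrm_coboundary, hm, inv_mul_cancel]⟩
    have h3 := Finset.card_le_mul_card_image_of_maps_to h2 e (by
      intro x _
      rcases Finset.eq_empty_or_nonempty ((univ : Finset G).filter fun y => y⁻¹ * σ y = x) with h0 | ⟨y0, hy0⟩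
      · rw [h0]; simp
      · refine le_trans (Finset.card_le_card_of_injOn (fun y => y * y0⁻¹) ?_ ?_) he
        · intro y hy
          have hy' := (mem_filter.1 (Finset.mem_coe.1 hy)).2
          have hy0' := (mem_filter.1 hy0).2
          rw [Finset.mem_coe, mem_filter]
          refine ⟨mem_univ _, ?_⟩
          have e1 : σ y = y * x := by rw [← hy']; group
          have e2 : σ y0 = y0 * x := by rw [← hy0']; group
          rw [map_mul, map_inv, e1, e2]
          group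
        · intro y _ y' _ h
          exact mul_right_cancel h)
    rwa [Finset.card_univ] at h3
  -- double counting
  have h4 : ∑ g : G, (univ.filter fun t => nrm σ m (g * z t) = 1).card = Fintype.card T * S.card := by
    have h5 : ∀ t : T, (univ.filter fun g => nrm σ m (g * z t) = 1).card = S.card := by
      intro t
      refine Finset.card_bij (fun g _ => g * z t) ?_ ?_ ?_
      · intro g hg
        rw [hS, mem_filter]
        exact ⟨mem_univ _, (mem_filter.1 hg).2⟩
      · intro g _ g' _ h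
        exact mul_right_cancel h
      · intro x hx
        refine ⟨x * (z t)⁻¹, ?_, by group⟩
        rw [mem_filter]
        refine ⟨mem_univ _, ?_⟩
        rw [inv_mul_cancel_right]
        exact (mem_filter.1 hx).2
    have h6 : ∀ g : G, (univ.filter fun t => nrm σ m (g * z t) = 1).card =
        ∑ t : T, if nrm σ m (g * z t) = 1 then 1 else 0 := fun g => by rw [Finset.card_filter]
    simp only [h6]
    rw [Finset.sum_comm]
    have h7 : ∀ t : T, ∑ g : G, (if nrm σ m (g * z t) = 1 then 1 else 0) = S.card := fun t => by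
      rw [← h5 t, Finset.card_filter]
    simp only [h7]
    rw [Finset.sum_const, Finset.card_univ, smul_eq_mul]
  have h8 : ∑ g : G, e * (univ.filter fun t => nrm σ m (g * z t) = 1).card < ∑ _g : G, Fintype.card T := by
    refine Finset.sum_lt_sum_of_nonempty ⟨1, mem_univ _⟩ fun g _ => hcon g
  rw [← Finset.mul_sum, h4, Finset.sum_const, Finset.card_univ, smul_eq_mul] at h8
  have h9 : Fintype.card G * Fintype.card T ≤ e * S.card * Fintype.card T := Nat.mul_le_mul_right _ h1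
  nlinarith

end grp

/-! ### polynomial matrices -/

section pol

open Polynomial

variable {E : Type u} [Field E] {n : Type v} [Fintype n] [DecidableEq n]

/-- entrywise degree bound -/
def Bd (d : ℕ) (P : Matrix n n E[X]) : Prop := ∀ i j, (P i j).natDegree ≤ d

theorem Bd.mul {d d' : ℕ} {P P' : Matrix n n E[X]} (h : Bd d P) (h' : Bd d' P') : Bd (d + d') (P * P') := by
  intro i j
  rw [Matrix.mul_apply]
  refine Polynomial.natDegree_sum_le_of_forall_le _ _ fun k _ => ?_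
  exact (Polynomial.natDegree_mul_le).trans (Nat.add_le_add (h i k) (h' k j))

theorem Bd.one : Bd 0 (1 : Matrix n n E[X]) := by
  intro i j
  rw [Matrix.one_apply]
  split_ifs
  · exact natDegree_one.le
  · exact natDegree_zero.le

theorem Bd.const (A : Matrix n n E) : Bd 0 (A.map C) := by
  intro i j
  rw [Matrix.map_apply]
  exact (natDegree_C _).le

/-- the elementary factor -/
noncomputable def fac (A N : Matrix n n E) (k : ℕ) : Matrix n n E[X] := A.map C * (1 + (X ^ k : E[X]) • N.map C)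

theorem Bd.fac (A N : Matrix n n E) (k : ℕ) : Bd k (fac A N k) := by
  have h1 : Bd k (1 + (X ^ k : E[X]) • N.map C) := by
    intro i j
    rw [Matrix.add_apply, Matrix.smul_apply, smul_eq_mul, Matrix.map_apply]
    refine (natDegree_add_le _ _).trans (max_le ((Bd.one i j).trans (Nat.zero_le _)) ?_)
    refine natDegree_mul_le.trans ?_
    rw [natDegree_C, add_zero, natDegree_X_pow]
  have h2 := (Bd.const A).mul h1
  rwa [zero_add] at h2

theorem eval_fac (A N : Matrix n n E) (k : ℕ) (t : E) :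
    (fac A N k).map (eval t) = A * (1 + t ^ k • N) := by
  ext i j
  rw [Matrix.map_apply, Norm.fac, Matrix.mul_apply, Matrix.mul_apply, eval_finset_sum]
  refine Finset.sum_congr rfl fun l _ => ?_
  rw [eval_mul, Matrix.map_apply, eval_C, Matrix.add_apply, Matrix.smul_apply, smul_eq_mul, Matrix.map_apply,
    eval_add, eval_mul, eval_pow, eval_X, eval_C, Matrix.add_apply, Matrix.smul_apply, smul_eq_mul, Matrix.one_apply,
    Matrix.one_apply]
  split_ifs
  · rw [eval_one]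
  · rw [eval_zero]

theorem eval_mul_mat (P Q : Matrix n n E[X]) (t : E) : (P * Q).map (eval t) = P.map (eval t) * Q.map (eval t) := by
  ext i j
  rw [Matrix.map_apply, Matrix.mul_apply, Matrix.mul_apply, eval_finset_sum]
  exact Finset.sum_congr rfl fun l _ => eval_mul

theorem coeff_zero_mul (P Q : Matrix n n E[X]) : (P * Q).map (coeff · 0) = P.map (coeff · 0) * Q.map (coeff · 0) := by
  ext i j
  rw [Matrix.map_apply, Matrix.mul_apply, Matrix.mul_apply, finset_sum_coeff]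
  exact Finset.sum_congr rfl fun l _ => mul_coeff_zero _ _

theorem coeff_one_mul (P Q : Matrix n n E[X]) : (P * Q).map (coeff · 1) =
    P.map (coeff · 0) * Q.map (coeff · 1) + P.map (coeff · 1) * Q.map (coeff · 0) := by
  ext i j
  rw [Matrix.map_apply, Matrix.mul_apply, Matrix.add_apply, Matrix.mul_apply, Matrix.mul_apply, finset_sum_coeff,
    ← Finset.sum_add_distrib]
  exact Finset.sum_congr rfl fun l _ => mul_coeff_one _ _

theorem coeff_zero_fac (A N : Matrix n n E) {k : ℕ} (hk : 1 ≤ k) : (fac A N k).map (coeff · 0) = A := by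
  unfold Norm.fac
  rw [coeff_zero_mul]
  have h1 : (A.map C : Matrix n n E[X]).map (coeff · 0) = A := by
    ext i j
    simp
  have h2 : (1 + (X ^ k : E[X]) • N.map C : Matrix n n E[X]).map (coeff · 0) = 1 := by
    ext i j
    rw [Matrix.map_apply, Matrix.add_apply, coeff_add, Matrix.smul_apply, smul_eq_mul, Matrix.map_apply,
      coeff_X_pow_mul', if_neg (by omega), add_zero, Matrix.one_apply, Matrix.one_apply]
    split_ifs <;> simp
  rw [h1, h2, mul_one]

theorem coeff_one_fac (A N : Matrix n n E) {k : ℕ} (hk : 1 ≤ k) :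
    (fac A N k).map (coeff · 1) = if k = 1 then A * N else 0 := by
  unfold Norm.fac
  rw [coeff_one_mul]
  have h1 : (A.map C : Matrix n n E[X]).map (coeff · 0) = A := by
    ext i j
    simp
  have h1' : (A.map C : Matrix n n E[X]).map (coeff · 1) = 0 := by
    ext i j
    rw [Matrix.map_apply, Matrix.map_apply, coeff_C]
    rfl
  have h2 : (1 + (X ^ k : E[X]) • N.map C : Matrix n n E[X]).map (coeff · 1) = if k = 1 then N else 0 := by
    ext i j
    rw [Matrix.map_apply, Matrix.add_apply, coeff_add, Matrix.smul_apply, smul_eq_mul, Matrix.map_apply,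
      coeff_X_pow_mul', Matrix.one_apply]
    have h3 : (if i = j then (1 : E[X]) else 0).coeff 1 = 0 := by
      split_ifs
      · rw [coeff_one, if_neg one_ne_zero]
      · exact coeff_zero 1
    rw [h3, zero_add]
    by_cases hk1 : k = 1
    · rw [if_pos hk1, if_pos (by omega), hk1, Nat.sub_self, coeff_C_zero]
    · rw [if_neg hk1, if_neg (by omega)]
      rfl
  rw [h1, h1', h2, zero_mul, add_zero]
  split_ifs
  · rfl
  · rw [mul_zero]

/-- the product -/
noncomputable def prd (A N : ℕ → Matrix n n E) (r : ℕ) : ℕ → Matrix n n E[X]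
  | 0 => 1
  | k + 1 => prd A N r k * fac (A k) (N k) (r ^ k)

theorem Bd.prd (A N : ℕ → Matrix n n E) (r k : ℕ) : Bd (∑ i ∈ range k, r ^ i) (prd A N r k) := by
  induction k with
  | zero => exact Bd.one
  | succ k ih =>
    rw [Finset.sum_range_succ]
    exact ih.mul (Bd.fac _ _ _)

theorem coeff_one_prd (A N : ℕ → Matrix n n E) {r : ℕ} (hr : 2 ≤ r) (hA : ∀ k, IsUnit (A k)) (k : ℕ) :
    ∃ B : Matrix n n E, IsUnit B ∧ (prd A N r (k + 1)).map (coeff · 1) = A 0 * N 0 * B := by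
  induction k with
  | zero =>
    refine ⟨1, isUnit_one, ?_⟩
    show ((1 : Matrix n n E[X]) * fac (A 0) (N 0) (r ^ 0)).map (coeff · 1) = _
    rw [one_mul, pow_zero, coeff_one_fac _ _ le_rfl, if_pos rfl, mul_one]
  | succ k ih =>
    obtain ⟨B, hB, e⟩ := ih
    refine ⟨B * A (k + 1), hB.mul (hA _), ?_⟩
    show (prd A N r (k + 1) * fac (A (k + 1)) (N (k + 1)) (r ^ (k + 1))).map (coeff · 1) = _
    have h1 : 2 ≤ r ^ (k + 1) := by
      calc 2 ≤ r := hr
        _ = r ^ 1 := (pow_one r).symm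
        _ ≤ r ^ (k + 1) := Nat.pow_le_pow_right (by omega) (by omega)
    rw [coeff_one_mul, e, coeff_zero_fac _ _ (by omega), coeff_one_fac _ _ (by omega), if_neg (by omega), mul_zero,
      zero_add, mul_assoc]

theorem eval_prd (A N : ℕ → Matrix n n E) (r k : ℕ) (t : E) :
    (prd A N r (k + 1)).map (eval t) = (prd A N r k).map (eval t) * (A k * (1 + t ^ (r ^ k) • N k)) := by
  show (prd A N r k * fac (A k) (N k) (r ^ k)).map (eval t) = _
  rw [eval_mul_mat, eval_fac]

/-- **the polynomial identity** -/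
theorem eq_zero_of_many {A N : ℕ → Matrix n n E} {r m : ℕ} (hr : 2 ≤ r) (hm : 1 ≤ m) (hA : ∀ k, IsUnit (A k))
    (T : Finset E) (hT : ∑ i ∈ range m, r ^ i < T.card) (h : ∀ t ∈ T, (prd A N r m).map (eval t) = 1) : N 0 = 0 := by
  obtain ⟨m, rfl⟩ : ∃ k, m = k + 1 := ⟨m - 1, by omega⟩
  have h1 : prd A N r (m + 1) = 1 := by
    ext1 i j
    refine Polynomial.eq_of_degree_sub_lt_of_eval_finset_eq T ?_ fun t ht => ?_
    · refine lt_of_le_of_lt (Polynomial.degree_le_of_natDegree_le (n := ∑ i ∈ range (m + 1), r ^ i) ?_) (by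
        exact_mod_cast hT)
      refine (natDegree_sub_le _ _).trans (max_le (Bd.prd A N r _ i j) ((Bd.one i j).trans (Nat.zero_le _)))
    · have h2 := congrFun (congrFun (h t ht) i) j
      rw [Matrix.map_apply] at h2
      rw [h2, Matrix.one_apply, Matrix.one_apply]
      split_ifs
      · rw [eval_one]
      · rw [eval_zero]
  obtain ⟨B, hB, e⟩ := coeff_one_prd A N hr hA m
  rw [h1] at e
  have h3 : ((1 : Matrix n n E[X]).map (coeff · 1)) = 0 := by
    ext i j
    rw [Matrix.map_apply, Matrix.one_apply]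
    split_ifs
    · rw [coeff_one, if_neg one_ne_zero]
      rfl
    · exact coeff_zero 1
  rw [h3] at e
  have h4 : A 0 * N 0 = 0 := (hB.mul_left_eq_zero).1 e.symm
  exact ((hA 0).mul_right_eq_zero).1 h4

end pol

end Cfsg.Agent.R2.H22.Norm
end

-- part: R2/H22/Root
section
/-!
# No root elements over extension fields commute with `A` (helper22)

* `core` : a finite group `C ≤ Zgrp E` with an endomorphism of Steinberg type with few fixed points contains no
  one-parameter group `1 + t N`, `N² = 0`, `N ≠ 0`.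
-/

set_option autoImplicit false
set_option linter.unusedSectionVars false

namespace Cfsg.Agent.R2.H22.Root

open Cfsg Cfsg.Lie Module
open Cfsg.Agent.ChevalleyStructure
open Cfsg.Agent.ChevalleyStructure.E6Min.Basic Cfsg.Agent.ChevalleyStructure.E6Min.Adjoint
open Cfsg.Agent.H163.E6 Cfsg.Agent.H65.E6Emb Cfsg.Agent.R2.H22.Norm
open Cfsg.Agent.H163.E6.Act
open Finset
open scoped Matrix

universe u v w

section core

variable {E : Type u} [Field E]

/-- the matrix of an element -/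
abbrev mt (g : ↥(Zgrp E)) : Matrix I27 I27 E := ((g : GL I27 E) : Matrix I27 I27 E)

theorem mt_mul (g h : ↥(Zgrp E)) : mt (g * h) = mt g * mt h := rfl

theorem mt_unit (g : ↥(Zgrp E)) : IsUnit (mt g) := (g : GL I27 E).isUnit

theorem mt_inj {g h : ↥(Zgrp E)} (e : mt g = mt h) : g = h := Subtype.ext (Units.ext e)

theorem core [Fintype E] [DecidableEq E] (C : Subgroup ↥(Zgrp E)) (σ : ↥(Zgrp E) →* ↥(Zgrp E))
    (hC : ∀ x ∈ C, σ x ∈ C) (m r e : ℕ) (hm : 1 ≤ m) (hr : 2 ≤ r) (hσm : ∀ x, σ^[m] x = x)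
    (he : {x : ↥(Zgrp E) | x ∈ C ∧ σ x = x}.ncard ≤ e) (hcard : e * ∑ i ∈ range m, r ^ i < Fintype.card E)
    (hσ : ∀ N : Matrix I27 I27 E, N * N = 0 → ∃ N', N' * N' = 0 ∧ ∀ (x : ↥(Zgrp E)) (t : E), mt x = 1 + t • N →
      mt (σ x) = 1 + t ^ r • N') {N : Matrix I27 I27 E} (hN : N * N = 0) (z : E → ↥(Zgrp E))
    (hz : ∀ t, mt (z t) = 1 + t • N) (hzC : ∀ t, z t ∈ C) : N = 0 := by
  classical
  have hfin : Finite ↥(Zgrp E) := inferInstance
  have hfC : Fintype C := Fintype.ofFinite _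
  -- the iterates
  have hit : ∀ k : ℕ, ∃ Nk : Matrix I27 I27 E, Nk * Nk = 0 ∧ ∀ t, mt (σ^[k] (z t)) = 1 + t ^ (r ^ k) • Nk := by
    intro k
    induction k with
    | zero => exact ⟨N, hN, fun t => by rw [pow_zero, pow_one]; exact hz t⟩
    | succ k ih =>
      obtain ⟨Nk, h1, h2⟩ := ih
      obtain ⟨N', h3, h4⟩ := hσ Nk h1
      refine ⟨N', h3, fun t => ?_⟩
      rw [Function.iterate_succ_apply', h4 _ _ (h2 t), ← pow_mul, ← pow_succ]
  choose Ns hNs1 hNs2 using hit
  have hN0 : Ns 0 = N := by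
    have h1 := hNs2 0 1
    have h2 := hz 1
    rw [pow_zero, pow_one, one_smul] at h1
    rw [one_smul] at h2
    have h3 : mt (σ^[0] (z 1)) = mt (z 1) := rfl
    rw [h3, h2] at h1
    exact (add_left_cancel h1).symm
  -- the restriction of `σ`
  let τ : C →* C := (σ.comp C.subtype).codRestrict C fun x => hC x x.2
  have hτ : ∀ (k : ℕ) (x : C), ((τ^[k] x : C) : ↥(Zgrp E)) = σ^[k] x := by
    intro k x
    induction k with
    | zero => rfl
    | succ k ih => rw [Function.iterate_succ_apply', Function.iterate_succ_apply', ← ih]; rfl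
  have hτm : ∀ x, τ^[m] x = x := fun x => Subtype.ext (by rw [hτ, hσm])
  have hτe : (univ.filter fun x : C => τ x = x).card ≤ e := by
    refine le_trans ?_ he
    rw [← Set.ncard_coe_finset]
    refine Set.ncard_le_ncard_of_injOn (fun x : C => (x : ↥(Zgrp E))) ?_ (fun x _ y _ h => Subtype.ext h)
      (Set.toFinite _)
    intro x hx
    rw [Finset.mem_coe, mem_filter] at hx
    exact ⟨x.2, congrArg Subtype.val hx.2⟩
  obtain ⟨g, hg⟩ := exists_many τ m hτm e hτe (fun t : E => (⟨z t, hzC t⟩ : C))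
  set T : Finset E := univ.filter fun t => nrm τ m (g * ⟨z t, hzC t⟩) = 1 with hT
  have hcard' : ∑ i ∈ range m, r ^ i < T.card := by
    by_contra hcon
    have h1 : e * T.card ≤ e * ∑ i ∈ range m, r ^ i := Nat.mul_le_mul_left _ (not_lt.1 hcon)
    omega
  -- the product
  have hval : ∀ (k : ℕ) (t : E), mt ((nrm τ k (g * ⟨z t, hzC t⟩) : C) : ↥(Zgrp E)) =
      (prd (fun k => mt (σ^[k] (g : ↥(Zgrp E)))) Ns r k).map (Polynomial.eval t) := by
    intro k t
    induction k with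
    | zero =>
      rw [nrm_zero]
      show (1 : Matrix I27 I27 E) = (1 : Matrix I27 I27 (Polynomial E)).map (Polynomial.eval t)
      ext i j
      rw [Matrix.map_apply, Matrix.one_apply, Matrix.one_apply]
      split_ifs
      · rw [Polynomial.eval_one]
      · rw [Polynomial.eval_zero]
    | succ k ih =>
      rw [nrm_succ', eval_prd, ← ih, Subgroup.coe_mul, mt_mul, hτ]
      congr 1
      have h1 : σ^[k] ((g * ⟨z t, hzC t⟩ : C) : ↥(Zgrp E)) = σ^[k] (g : ↥(Zgrp E)) * σ^[k] (z t) := by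
        rw [Subgroup.coe_mul]
        exact iterate_map_mul σ k _ _
      rw [h1, mt_mul, hNs2]
  have hfinal := eq_zero_of_many (A := fun k => mt (σ^[k] (g : ↥(Zgrp E)))) (N := Ns) hr hm (fun k => mt_unit _) T hcard'
    (fun t ht => by
      rw [← hval, (mem_filter.1 ht).2]
      rfl)
  rw [← hN0, hfinal]

end core

/-! ### the two Steinberg maps -/

section maps

variable {E : Type u} [Field E]

theorem emb_root (s : E →+* E) {r : ℕ} (hs : ∀ x, s x = x ^ r) (N : Matrix I27 I27 E) (hN : N * N = 0) :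
    ∃ N', N' * N' = 0 ∧ ∀ (x : ↥(Zgrp E)) (t : E), mt x = 1 + t • N → mt (emb s x) = 1 + t ^ r • N' := by
  refine ⟨N.map s, ?_, fun x t h => ?_⟩
  · rw [← Matrix.map_mul, hN]
    ext i j
    simp
  · show ((emb s x : GL I27 E) : Matrix I27 I27 E) = _
    rw [coe_emb]
    change (mt x).map s = _
    rw [h, ← hs t]
    ext i j
    simp only [Matrix.map_apply, Matrix.add_apply, Matrix.smul_apply, smul_eq_mul, map_add, map_mul,
      Matrix.one_apply, apply_ite s, map_one, map_zero]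

open Cfsg.Agent.H944.E6Tw Cfsg.Agent.H184.GraphE6 in
theorem sE_root (φ : E →+* E) {r : ℕ} (hφ : ∀ x, φ x = x ^ r) (N : Matrix I27 I27 E) (hN : N * N = 0) :
    ∃ N', N' * N' = 0 ∧ ∀ (x : ↥(Zgrp E)) (t : E), mt x = 1 + t • N → mt (sE φ x) = 1 + t ^ r • N' := by
  have hNφ : N.map φ * N.map φ = 0 := by
    rw [← Matrix.map_mul, hN]
    ext i j
    simp
  refine ⟨-(QM E * (PM E * (N.map φ)ᵀ * PM E) * QM E), ?_, fun x t h => ?_⟩
  · have h1 : (N.map φ)ᵀ * (N.map φ)ᵀ = 0 := by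
      rw [← Matrix.transpose_mul, hNφ, Matrix.transpose_zero]
    calc -(QM E * (PM E * (N.map φ)ᵀ * PM E) * QM E) * -(QM E * (PM E * (N.map φ)ᵀ * PM E) * QM E) =
        QM E * (PM E * (N.map φ)ᵀ * (PM E * (QM E * QM E) * PM E) * (N.map φ)ᵀ * PM E) * QM E := by
          simp only [neg_mul, mul_neg, neg_neg, mul_assoc]
      _ = 0 := by
          rw [QM_sq, mul_one, PM_sq, mul_one, mul_assoc (PM E), h1]
          simp
  · have h1 : mt (sE φ x) = QM E * ((gU (H944.E6T.gm φ (x : GL I27 E)) : GL I27 E) : Matrix I27 I27 E) * QM E := rfl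
    have h2 : ((H944.E6T.gm φ (x : GL I27 E) : GL I27 E) : Matrix I27 I27 E) = 1 + t ^ r • N.map φ := by
      rw [H944.E6T.coe_gm]
      change (mt x).map φ = _
      rw [h, ← hφ t]
      ext i j
      simp only [Matrix.map_apply, Matrix.add_apply, Matrix.smul_apply, smul_eq_mul, map_add, map_mul,
        Matrix.one_apply, apply_ite φ, map_one, map_zero]
    have h3 : ((((H944.E6T.gm φ (x : GL I27 E))⁻¹ : GL I27 E)) : Matrix I27 I27 E) = 1 - t ^ r • N.map φ := by
      rw [Matrix.coe_units_inv, h2]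
      refine Matrix.inv_eq_right_inv ?_
      rw [add_mul, one_mul, mul_sub, mul_one, smul_mul_smul_comm, hNφ, smul_zero]
      abel
    rw [h1, coe_gU, h3, Matrix.transpose_sub, Matrix.transpose_one, Matrix.transpose_smul]
    have h4 : PM E * (1 - t ^ r • (N.map φ)ᵀ) * PM E = 1 - t ^ r • (PM E * (N.map φ)ᵀ * PM E) := by
      rw [mul_sub, sub_mul, mul_one, PM_sq, mul_smul_comm, smul_mul_assoc]
    rw [h4, mul_sub, sub_mul, mul_one, QM_sq, mul_smul_comm, smul_mul_assoc, smul_neg, sub_eq_add_neg]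

end maps

end Cfsg.Agent.R2.H22.Root
end

-- part: R2/H22/NR
section
/-!
# No root elements over extension fields commute with `A`; no totally singular subspaces (helper22)

* `Cfg.nr` : over a finite extension field;
* `Cfg.nr_closed` : over an algebraic extension field;
* `Cfg.no_ts` : no stable totally singular subspaces over an algebraic extension field (`p` odd).
-/

set_option autoImplicit false
set_option linter.unusedSectionVars false

namespace Cfsg.Agent.R2.H22.Root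

open Cfsg Cfsg.Lie Module Matrix
open Cfsg.Agent.ChevalleyStructure
open Cfsg.Agent.H184.GraphE6
open Cfsg.Agent.ChevalleyStructure.E6Min.Basic Cfsg.Agent.ChevalleyStructure.E6Min.Adjoint
open Cfsg.Agent.H163.E6 Cfsg.Agent.H65.E6Emb Cfsg.Agent.R2.H22.Norm Cfsg.Agent.H163.E6.Act
open Cfsg.Agent.H944.E6Tw Cfsg.Agent.H944.E6T
open Cfsg.Agent.R2.H9.E6
open Finset
open scoped Matrix

universe u v w

section steinberg

variable {F : Type u} [Field F] {E : Type v} [Field E]

theorem map_QU (i : F →+* E) : Matrix.GeneralLinearGroup.map i (QU F) = QU E := by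
  apply Units.ext
  show (QM F).map i = QM E
  unfold QM
  rw [Matrix.diagonal_map (map_zero i)]
  congr 1
  funext x
  exact map_intCast i _

theorem sE_emb (i : F →+* E) (f : F →+* F) (φ : E →+* E) (h : ∀ x, φ (i x) = i (f x)) (g : ↥(Zgrp F)) :
    sE φ (emb i g) = emb i (sE f g) := by
  apply Subtype.ext
  rw [coe_sE, coe_emb', coe_emb', coe_sE, sZ_apply, sZ_apply, map_mul, map_mul, map_QU, ← gU_map]
  congr 3
  apply Units.ext
  show (((g : GL I27 F) : Matrix I27 I27 F).map i).map φ = (((g : GL I27 F) : Matrix I27 I27 F).map f).map i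
  ext a b
  exact h _

theorem sE_twice (φ : E →+* E) (g : ↥(Zgrp E)) : sE φ (sE φ g) = emb (φ.comp φ) g := by
  apply Subtype.ext
  rw [coe_sE, coe_sE, coe_emb', sZ_apply, sZ_apply, map_mul, map_mul, gm_QU, gm_gU, gU_mul, gU_mul, gU_gU, gU_QU]
  calc QU E * (QU E * gm φ (gm φ (g : GL I27 E)) * QU E) * QU E =
      (QU E * QU E) * gm φ (gm φ (g : GL I27 E)) * (QU E * QU E) := by group
    _ = gm φ (gm φ (g : GL I27 E)) := by rw [QU_sq, one_mul, mul_one]
    _ = _ := by
      apply Units.ext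
      ext a b
      rfl

theorem emb_iter (s : E →+* E) (n : ℕ) (g : ↥(Zgrp E)) : (emb s)^[n] g = emb (s ^ n) g := by
  induction n with
  | zero =>
    rw [pow_zero]
    exact (emb_id g).symm
  | succ n ih =>
    rw [Function.iterate_succ_apply', ih, emb_emb]
    congr 2
    rw [pow_succ']
    rfl

end steinberg

/-! ### counting -/

section count

variable {F : Type u} [Field F] {E : Type v} [Field E]

theorem ncard_scalar {S : Set ↥(Zgrp E)} (i : F →+* E) (T : Finset F)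
    (h : ∀ x ∈ S, ∃ c ∈ T, mt x = (i c) • 1) : S.ncard ≤ T.card := by
  classical
  rw [← Set.ncard_coe_finset T]
  have hex : ∀ x : ↥(Zgrp E), ∃ c : F, x ∈ S → c ∈ T ∧ mt x = (i c) • 1 := by
    intro x
    by_cases hx : x ∈ S
    · obtain ⟨c, hc, hc'⟩ := h x hx
      exact ⟨c, fun _ => ⟨hc, hc'⟩⟩
    · exact ⟨0, fun h => absurd h hx⟩
  choose c hc using hex
  refine Set.ncard_le_ncard_of_injOn c (fun x hx => (hc x hx).1) ?_ (Set.toFinite _)
  intro x hx y hy hxy
  apply mt_inj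
  rw [(hc x hx).2, (hc y hy).2, hxy]

theorem geom_le {r : ℕ} (hr : 2 ≤ r) (m : ℕ) : ∑ i ∈ range m, r ^ i + 1 ≤ r ^ m := by
  induction m with
  | zero => simp
  | succ m ih =>
    rw [Finset.sum_range_succ, pow_succ]
    have h1 : r ^ m * 2 ≤ r ^ m * r := Nat.mul_le_mul_left _ hr
    omega

theorem geom_le' {r : ℕ} (hr : 4 ≤ r) (m : ℕ) : 3 * ∑ i ∈ range m, r ^ i + 1 ≤ r ^ m := by
  induction m with
  | zero => simp
  | succ m ih =>
    rw [Finset.sum_range_succ, pow_succ]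
    have h1 : r ^ m * 4 ≤ r ^ m * r := Nat.mul_le_mul_left _ hr
    omega

/-- the cube roots of unity -/
noncomputable def cub (F : Type u) [Field F] [Fintype F] : Finset F := by
  classical exact univ.filter fun c : F => c ^ 3 = 1

theorem mem_cub [Fintype F] {c : F} : c ∈ cub F ↔ c ^ 3 = 1 := by
  classical
  unfold cub
  rw [mem_filter]
  exact ⟨fun h => h.2, fun h => ⟨mem_univ _, h⟩⟩

theorem card_cub [Fintype F] : (cub F).card ≤ 3 := by
  classical
  have h1 : cub F ⊆ (Polynomial.nthRoots 3 (1 : F)).toFinset := by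
    intro c hc
    rw [Multiset.mem_toFinset, Polynomial.mem_nthRoots (by norm_num)]
    exact mem_cub.1 hc
  exact (Finset.card_le_card h1).trans ((Multiset.toFinset_card_le _).trans (Polynomial.card_nthRoots 3 1))

theorem card_cub_three [Fintype F] [CharP F 3] : (cub F).card ≤ 1 := by
  rw [Finset.card_le_one]
  have h1 : ∀ c : F, c ^ 3 = 1 → c = 1 := by
    intro c hc
    have h3 : (3 : F) = 0 := by
      have := CharP.cast_eq_zero F 3
      exact_mod_cast this
    have h2 : (c - 1) ^ 3 = 0 := by linear_combination hc - (c ^ 2 - c) * h3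
    exact sub_eq_zero.1 (pow_eq_zero_iff (by norm_num) |>.1 h2)
  intro a ha b hb
  rw [h1 a (mem_cub.1 ha), h1 b (mem_cub.1 hb)]

theorem card_cub_two [Fintype F] (h2 : Fintype.card F = 2) : (cub F).card ≤ 1 := by
  rw [Finset.card_le_one]
  have h1 : ∀ c : F, c ^ 3 = 1 → c = 1 := by
    intro c hc
    have h3 : c ^ 2 = c := by
      have := FiniteField.pow_card c
      rwa [h2] at this
    have h4 : c ^ 3 = c := by
      calc c ^ 3 = c ^ 2 * c := by ring
        _ = c * c := by rw [h3]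
        _ = c ^ 2 := (sq c).symm
        _ = c := h3
    rw [← h4, hc]
  intro a ha b hb
  rw [h1 a (mem_cub.1 ha), h1 b (mem_cub.1 hb)]

end count

/-! ### the theorem over finite fields -/

section finite

variable {F : Type u} [Field F] [Fintype F] {K : Type w} [Field K] [Fintype K] {p a b : ℕ}
  {Γ M : Subgroup ↥(Zgrp F)} {ψ : ProjectiveSpecialLinearGroup (Fin 2) K →* ↥(Zgrp F)}

/-- the two families; the exception -/
def Exc (F : Type u) [Field F] [Fintype F] (p b : ℕ) : Prop := p ^ b = 2 ∧ Fintype.card F = 4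

theorem card_bound (h : Cfg p a b Γ M ψ) (hex : ¬ Exc F p b) (m : ℕ) :
    (cub F).card * ∑ i ∈ range m, (p ^ b) ^ i < (p ^ b) ^ m := by
  have hp := h.prime
  have h2 : 2 ≤ p ^ b := by
    calc 2 ≤ p := hp.two_le
      _ = p ^ 1 := (pow_one p).symm
      _ ≤ p ^ b := Nat.pow_le_pow_right hp.pos h.hb
  rcases Nat.lt_or_ge (p ^ b) 4 with h4 | h4
  · have h5 : (cub F).card ≤ 1 := by
      rcases Nat.lt_or_ge (p ^ b) 3 with h3 | h3
      · have h6 : p ^ b = 2 := by omega
        refine card_cub_two ?_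
        rcases h.fam with ⟨-, h7, -⟩ | ⟨h7, -⟩
        · rw [h7, h6]
        · exact absurd ⟨h6, by rw [h7, h6]; norm_num⟩ hex
      · have h6 : p ^ b = 3 := by omega
        have h7 : p = 3 := by
          have h8 : p ∣ 3 := by
            rw [← h6]
            exact dvd_pow_self p (by have := h.hb; omega)
          exact (Nat.prime_dvd_prime_iff_eq hp Nat.prime_three).1 h8
        have h8 : CharP F 3 := h7 ▸ h.charF
        exact card_cub_three
    have h6 := geom_le h2 m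
    have h7 := Nat.mul_le_mul_right (∑ i ∈ range m, (p ^ b) ^ i) h5
    omega
  · have h5 := card_cub (F := F)
    have h6 := geom_le' h4 m
    have h7 := Nat.mul_le_mul_right (∑ i ∈ range m, (p ^ b) ^ i) h5
    omega

/-- **no root elements commute with `A`**, over every finite extension field -/
theorem nr (h : Cfg p a b Γ M ψ) (hex : ¬ Exc F p b) {E : Type v} [Field E] [Finite E] (i : F →+* E)
    {N : Matrix I27 I27 E} (hN : N * N = 0) (z : E → ↥(Zgrp E)) (hz : ∀ t, mt (z t) = 1 + t • N)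
    (hc : ∀ t x, emb i (ψ x) * z t = z t * emb i (ψ x)) : N = 0 := by
  classical
  have hfE : Fintype E := Fintype.ofFinite E
  have hp := h.prime
  have hfp : Fact p.Prime := ⟨hp⟩
  have hcF := h.charF
  have hcE : CharP E p := charP_of_injective_ringHom i.injective p
  have h2 : 2 ≤ p ^ b := by
    calc 2 ≤ p := hp.two_le
      _ = p ^ 1 := (pow_one p).symm
      _ ≤ p ^ b := Nat.pow_le_pow_right hp.pos h.hb
  obtain ⟨d, hd0, hd⟩ : ∃ d, 1 ≤ d ∧ Fintype.card E = Fintype.card F ^ d := by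
    let _ := i.toAlgebra
    have hfin : Module.Finite F E := Module.Finite.of_finite
    exact ⟨Module.finrank F E, Module.finrank_pos, Module.card_eq_pow_finrank⟩
  let s : E →+* E := iterateFrobenius E p b
  have hs : ∀ x, s x = x ^ (p ^ b) := fun x => iterateFrobenius_def p b x
  have hspow : ∀ (n : ℕ) (x : E), (s ^ n) x = x ^ ((p ^ b) ^ n) := by
    intro n x
    induction n with
    | zero => rw [pow_zero, pow_zero, pow_one]; rfl
    | succ n ih =>
      rw [pow_succ']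
      show s ((s ^ n) x) = _
      rw [ih, hs, ← pow_mul, ← pow_succ]
  let C : Subgroup ↥(Zgrp E) := Subgroup.centralizer (Set.range fun x => emb i (ψ x))
  have hmem : ∀ y, y ∈ C ↔ ∀ x, emb i (ψ x) * y = y * emb i (ψ x) := by
    intro y
    rw [Subgroup.mem_centralizer_iff]
    constructor
    · intro h x
      exact h _ ⟨x, rfl⟩
    · rintro h _ ⟨x, rfl⟩
      exact h x
  have hzC : ∀ t, z t ∈ C := fun t => (hmem _).2 (hc t)
  have hb1 := card_bound h hex
  have hscal : ∀ z0 : ↥(Zgrp F), z0 ∈ Γ → emb i z0 ∈ C → ∃ c ∈ cub F, mt (emb i z0) = (i c) • 1 := by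
    intro z0 hz0 h1
    have h2 : ad F z0 = 1 := by
      refine h.set.cent z0 hz0 fun x => ?_
      apply emb_injective i
      rw [map_mul, map_mul]
      exact (hmem _).1 h1 x
    obtain ⟨c, hc3, hc⟩ := Cfsg.Agent.H65.E6Ext.ker_scalar h2
    refine ⟨c, mem_cub.2 hc3, ?_⟩
    show ((emb i z0 : GL I27 E) : Matrix I27 I27 E) = _
    rw [coe_emb, hc]
    ext j l
    rw [Matrix.map_apply, Matrix.smul_apply, Matrix.smul_apply, smul_eq_mul, smul_eq_mul, map_mul, Matrix.one_apply,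
      Matrix.one_apply, apply_ite i, map_one, map_zero]
  rcases h.fam with ⟨hΓ, hF, -⟩ | ⟨hF, f, hf, hqq, hΓ⟩
  · -- untwisted
    refine core C (emb s) ?_ d (p ^ b) (cub F).card hd0 h2 ?_ ?_ ?_ (emb_root s hs) hN z hz hzC
    · intro y hy
      rw [hmem] at hy ⊢
      intro x
      have h3 : emb s (emb i (ψ x)) = emb i (ψ x) := emb_frob i s (fun t => by rw [hs, hF]) _
      rw [← h3, ← map_mul, hy, map_mul]
    · intro x
      rw [emb_iter]
      have h3 : s ^ d = RingHom.id E := by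
        ext y
        rw [hspow, ← hF, ← hd, FiniteField.pow_card]
        rfl
      rw [h3, emb_id]
    · refine ncard_scalar i (cub F) ?_
      rintro x ⟨hxC, hx⟩
      obtain ⟨z0, rfl⟩ := Cfsg.Agent.H65.E6Full.exists_of_emb_eq_all i s (fun t => by rw [hs, hF]) x hx
      exact hscal z0 (by rw [hΓ]; trivial) hxC
    · rw [hd, hF]
      exact hb1 d
  · -- twisted
    have hs2 : ∀ x, (s.comp s) x = x ^ Fintype.card F := by
      intro x
      rw [hF, RingHom.comp_apply, hs, hs, ← pow_mul, sq]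
    have hsi : ∀ x, s (i x) = i (f x) := fun x => by rw [hs, hf, map_pow]
    refine core C (sE s) ?_ (2 * d) (p ^ b) (cub F).card (by omega) h2 ?_ ?_ ?_ (sE_root s hs) hN z hz hzC
    · intro y hy
      rw [hmem] at hy ⊢
      intro x
      have h3 : sE s (emb i (ψ x)) = emb i (ψ x) := by
        rw [sE_emb i f s hsi]
        have h4 : ψ x ∈ Γ := h.set.hle (h.set.le ⟨x, rfl⟩)
        rw [hΓ, mem_Gs] at h4
        rw [h4]
      rw [← h3, ← map_mul, hy, map_mul]
    · intro x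
      rw [Function.iterate_mul]
      have h3 : (sE s)^[2] = emb (s.comp s) := by
        funext y
        exact sE_twice s y
      rw [h3, emb_iter]
      have h4 : (s.comp s) ^ d = RingHom.id E := by
        have h5 : s.comp s = s ^ 2 := (sq s).symm
        ext y
        rw [h5, ← pow_mul, hspow, pow_mul, ← hF, ← hd, FiniteField.pow_card]
        rfl
      rw [h4, emb_id]
    · refine ncard_scalar i (cub F) ?_
      rintro x ⟨hxC, hx⟩
      have hx2 : emb (s.comp s) x = x := by rw [← sE_twice, hx, hx]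
      obtain ⟨z0, rfl⟩ := Cfsg.Agent.H65.E6Full.exists_of_emb_eq_all i (s.comp s) hs2 x hx2
      refine hscal z0 ?_ hxC
      rw [hΓ, mem_Gs]
      apply emb_injective i
      rw [← sE_emb i f s hsi, hx]
    · rw [hd, hF, ← pow_mul]
      exact hb1 (2 * d)

end finite

/-! ### the theorem over algebraic extension fields -/

section closed

theorem ts_of {k : Type u} [Field k] {W : Submodule k (I27 → k)} (hW : ∀ x ∈ W, Cfsg.Agent.H952.F4.sh x = 0) :
    TS W := by
  refine ⟨hW, fun x hx y hy => ?_⟩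
  have h := Cfsg.Agent.H952.F4.Jord.sh_add x y
  rw [hW _ (W.add_mem hx hy), hW x hx, hW y hy] at h
  simpa using h.symm

variable {F : Type u} [Field F] [Fintype F] {K : Type w} [Field K] [Fintype K] {p a b : ℕ}
  {Γ M : Subgroup ↥(Zgrp F)} {ψ : ProjectiveSpecialLinearGroup (Fin 2) K →* ↥(Zgrp F)}

/-- **no root elements commute with `A`**, over every algebraic extension field -/
theorem nr_closed (h : Cfg p a b Γ M ψ) (hex : ¬ Exc F p b) {k : Type v} [Field k] [Algebra F k]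
    [Algebra.IsAlgebraic F k] {N : Matrix I27 I27 k} (hN : N * N = 0)
    (hz : ∀ t : k, ∃ z : ↥(Zgrp k), mt z = 1 + t • N)
    (hc : ∀ x, mt (emb (algebraMap F k) (ψ x)) * N = N * mt (emb (algebraMap F k) (ψ x))) : N = 0 := by
  classical
  choose z hz using hz
  let S : Set k := Set.range fun q : I27 × I27 => N q.1 q.2
  have hS : S.Finite := Set.finite_range _
  let L : IntermediateField F k := IntermediateField.adjoin F S
  have hfd : FiniteDimensional F L := by
    have : Finite S := hS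
    exact IntermediateField.finiteDimensional_adjoin fun x _ => (Algebra.IsAlgebraic.isAlgebraic x).isIntegral
  have hfin : Finite L := Module.finite_of_finite F
  have hmem : ∀ i j, N i j ∈ L := fun i j => IntermediateField.subset_adjoin F S ⟨(i, j), rfl⟩
  let N0 : Matrix I27 I27 L := Matrix.of fun i j => ⟨N i j, hmem i j⟩
  let j : L →+* k := algebraMap L k
  have hj : N0.map j = N := by
    ext i l
    rfl
  have hN0 : N0 * N0 = 0 := by
    apply Matrix.map_injective j.injective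
    show (N0 * N0).map j = (0 : Matrix I27 I27 L).map j
    rw [Matrix.map_mul, hj, hN, Matrix.map_zero j (map_zero j)]
  have hz0 : ∀ t : L, ∃ z0 : ↥(Zgrp L), emb j z0 = z (j t) ∧ mt z0 = 1 + t • N0 := by
    intro t
    refine Cfsg.Agent.H65.E6Full.exists_of_map_all j (z (j t)) (1 + t • N0) ?_
    change mt (z (j t)) = _
    rw [hz, ← hj]
    ext i l
    simp only [Matrix.map_apply, Matrix.add_apply, Matrix.smul_apply, smul_eq_mul, map_add, map_mul,
      Matrix.one_apply, apply_ite j, map_one, map_zero]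
  choose z0 hz0 hz0' using hz0
  have h0 : N0 = 0 := by
    refine nr h hex (algebraMap F L) hN0 z0 hz0' fun t x => ?_
    apply emb_injective j
    rw [map_mul, map_mul, hz0, emb_emb]
    have h1 : j.comp (algebraMap F L) = algebraMap F k := rfl
    rw [h1]
    apply mt_inj
    rw [mt_mul, mt_mul, hz, mul_add, add_mul, mul_one, one_mul, mul_smul_comm, smul_mul_assoc, hc]
  rw [← hj, h0, Matrix.map_zero j (map_zero j)]

/-- **no stable totally singular subspaces of dimension 3 or 6** over algebraic extension fields, `p` odd -/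
theorem no_ts_three (h : Cfg p a b Γ M ψ) (hp : p ≠ 2) {k : Type u} [Field k] [Algebra F k]
    [Algebra.IsAlgebraic F k] (ρ : Representation k ↥(Zgrp k) (I27 → k)) (hρ : ρ = V k ∨ ρ = V' k)
    {W : Submodule k (I27 → k)} (h3 : finrank k W = 3) (hW : ∀ x ∈ W, Cfsg.Agent.H952.F4.sh x = 0)
    (hst : ∀ x, ∀ w ∈ W, ρ (emb (algebraMap F k) (ψ x)) w ∈ W) : False := by
  have hcF := h.charF
  have hck : CharP k p := charP_of_injective_ringHom (algebraMap F k).injective p
  have hcK := h.charK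
  have h2 : (2 : K) ≠ 0 := by
    intro h0
    have h1 : ((2 : ℕ) : K) = 0 := by exact_mod_cast h0
    rw [CharP.cast_eq_zero_iff K p] at h1
    exact hp ((Nat.prime_dvd_prime_iff_eq h.prime Nat.prime_two).1 h1)
  have h2' : (2 : k) ≠ 0 := by
    intro h0
    have h1 : ((2 : ℕ) : k) = 0 := by exact_mod_cast h0
    rw [CharP.cast_eq_zero_iff k p] at h1
    exact hp ((Nat.prime_dvd_prime_iff_eq h.prime Nat.prime_two).1 h1)
  have hex : ¬ Exc F p b := by
    rintro ⟨h1, -⟩
    have h3 : p ∣ 2 := by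
      rw [← h1]
      exact dvd_pow_self p (by have := h.hb; omega)
    exact hp ((Nat.prime_dvd_prime_iff_eq h.prime Nat.prime_two).1 h3)
  obtain ⟨N, hN, hNc⟩ := Cfsg.Agent.H65.E6Root.root3 ρ hρ (B := ((emb (algebraMap F k)).comp ψ).range) (by
      rintro θ ⟨_, x, rfl⟩
      exact psl_no_two (by have := h.seven; omega) h2 h2' (θ.comp ((emb (algebraMap F k)).comp ψ).rangeRestrict) x)
    h3 (ts_of hW) (by
      rintro _ ⟨x, rfl⟩ w hw
      exact hst x w hw)
  refine hN.ne (nr_closed h hex hN.sq (fun t => ?_) fun x => hNc _ ⟨x, rfl⟩)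
  obtain ⟨g, hg, e⟩ := hN.mem t
  exact ⟨⟨g, hg⟩, e⟩

theorem no_ts_six (h : Cfg p a b Γ M ψ) (hex : ¬ Exc F p b) {k : Type u} [Field k] [Algebra F k]
    [Algebra.IsAlgebraic F k] (ρ : Representation k ↥(Zgrp k) (I27 → k)) (hρ : ρ = V k ∨ ρ = V' k)
    {W : Submodule k (I27 → k)} (h6 : finrank k W = 6) (hW : ∀ x ∈ W, Cfsg.Agent.H952.F4.sh x = 0)
    (hst : ∀ x, ∀ w ∈ W, ρ (emb (algebraMap F k) (ψ x)) w ∈ W) : False := by
  obtain ⟨N, hN, hNc⟩ := Cfsg.Agent.H65.E6Root.root6 ρ hρ (B := ((emb (algebraMap F k)).comp ψ).range) (by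
      have h1 := psl_perfect (K := K) (by have := h.seven; omega)
      rw [commutator_def] at h1
      rw [MonoidHom.range_eq_map, ← Subgroup.map_commutator, h1])
    h6 (ts_of hW) (by
      rintro _ ⟨x, rfl⟩ w hw
      exact hst x w hw)
  refine hN.ne (nr_closed h hex hN.sq (fun t => ?_) fun x => hNc _ ⟨x, rfl⟩)
  obtain ⟨g, hg, e⟩ := hN.mem t
  exact ⟨⟨g, hg⟩, e⟩

end closed

end Cfsg.Agent.R2.H22.Root
end

private theorem dce_31d0e953dfee : _root_.True := by
  try have : _root_.True := by simp only [_root_.Cfsg.Agent.R2.H22.Norm.fac.eq_1]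
  exact _root_.True.intro
end

-- part: R2/H8/NoFix/Aut
section
set_option linter.all false
open scoped Cfsg.Agent.FastGrp

/-!
# S5749, S5750, box NOFIX: the outer automorphisms of `PSL₂(K)` (helper8)

* `fa : Aut PSL₂(K) →* Aut K`, `ds : Aut PSL₂(K) →* Kˣ / squares`; `inner_of` : the intersection of the kernels consists of
  inner automorphisms;
* `comm_inner`, `pow_inner`.
-/

set_option autoImplicit false

namespace Cfsg.Agent.R2.H8.NoFix.Aut

open Matrix Cfsg.Agent.H199.PslAut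
open Cfsg.Agent.ClassicalGeometry.AutPSL.Root
open Cfsg.Agent.ClassicalGeometry.AutPSL.Auto

variable {K : Type*} [Field K]

theorem ind_unique {g h : GL (Fin 2) K} {σ τ : K ≃+* K} (e : Psi 2 K g * phi 2 K σ = Psi 2 K h * phi 2 K τ) :
    (∃ u : Kˣ, g = h * scal 2 K u) ∧ σ = τ := by
  have h1 : Psi 2 K (h⁻¹ * g) * phi 2 K σ = phi 2 K τ := by
    rw [map_mul, map_inv, mul_assoc, e, ← mul_assoc, inv_mul_cancel, one_mul]
  obtain ⟨⟨u, hu⟩, h2⟩ := Psi_phi_eq le_rfl h1
  exact ⟨⟨u, by rw [← hu, mul_inv_cancel_left]⟩, h2⟩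

theorem det_scal (u : Kˣ) : Matrix.GeneralLinearGroup.det (scal 2 K u) = u ^ 2 := by
  apply Units.ext
  rw [Matrix.GeneralLinearGroup.val_det_apply, coe_scal, Matrix.scalar_apply, Matrix.det_diagonal, Finset.prod_const,
    Finset.card_univ, Fintype.card_fin, Units.val_pow_eq_pow_val]

theorem det_mapGL (σ : K ≃+* K) (g : GL (Fin 2) K) : Matrix.GeneralLinearGroup.det (mapGL σ g) =
    Units.map (σ : K →* K) (Matrix.GeneralLinearGroup.det g) := by
  apply Units.ext
  rw [Matrix.GeneralLinearGroup.val_det_apply, coe_mapGL]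
  show _ = σ _
  rw [Matrix.GeneralLinearGroup.val_det_apply]
  exact (RingHom.map_det (σ : K →+* K) _).symm

/-- the group `Kˣ / squares` -/
abbrev Sq (K : Type*) [Field K] : Type _ := Kˣ ⧸ (powMonoidHom 2 : Kˣ →* Kˣ).range

theorem mk_sq (u : Kˣ) : (QuotientGroup.mk (u ^ 2) : Sq K) = 1 := by
  rw [QuotientGroup.eq_one_iff]
  exact ⟨u, rfl⟩

section fin

variable [Fintype K]

theorem exists_ind (α : MulAut (ProjectiveSpecialLinearGroup (Fin 2) K)) :
    ∃ z : GL (Fin 2) K × (K ≃+* K), α = Psi 2 K z.1 * phi 2 K z.2 := by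
  rcases exists_form le_rfl α with ⟨g, σ, h⟩ | ⟨h, -⟩
  · exact ⟨(g, σ), h⟩
  · omega

/-- powers of the Frobenius automorphism -/
theorem exists_pow (p : ℕ) [Fact p.Prime] [CharP K p] (σ : K ≃+* K) : ∃ n : ℕ, ∀ x, σ x = x ^ p ^ n := by
  let _ : Algebra (ZMod p) K := ZMod.algebra K p
  let s : K ≃ₐ[ZMod p] K := AlgEquiv.ofRingEquiv (f := σ) (fun x => by
    have h1 : (σ : K →+* K).comp (algebraMap (ZMod p) K) = algebraMap (ZMod p) K := Subsingleton.elim _ _
    exact RingHom.congr_fun h1 x)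
  obtain ⟨n, hn⟩ := (FiniteField.bijective_frobeniusAlgEquivOfAlgebraic_pow (ZMod p) K).2 s
  refine ⟨n.1, fun x => ?_⟩
  have h1 : s x = σ x := rfl
  rw [← h1, ← hn]
  show (FiniteField.frobeniusAlgEquivOfAlgebraic (ZMod p) K ^ (n : ℕ)) x = _
  have h2 : ∀ m : ℕ, (FiniteField.frobeniusAlgEquivOfAlgebraic (ZMod p) K ^ m) x = x ^ p ^ m := by
    intro m
    induction m with
    | zero => rw [pow_zero, pow_zero, pow_one]; rfl
    | succ m ih =>
      rw [pow_succ', AlgEquiv.mul_apply, ih, pow_succ, pow_mul]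
      show (x ^ p ^ m) ^ (Fintype.card (ZMod p)) = _
      rw [ZMod.card]
  exact h2 n

/-- field automorphisms act trivially on `Kˣ / squares` -/
theorem mk_map (σ : K ≃+* K) (u : Kˣ) : (QuotientGroup.mk (Units.map (σ : K →* K) u) : Sq K) = QuotientGroup.mk u := by
  obtain ⟨p, hp⟩ := CharP.exists K
  have hprime : Fact p.Prime := ⟨CharP.char_is_prime K p⟩
  obtain ⟨n, hn⟩ := exists_pow p σ
  have h1 : Units.map (σ : K →* K) u = u ^ p ^ n := Units.ext (by
    rw [Units.val_pow_eq_pow_val]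
    exact hn _)
  rw [h1]
  rcases hprime.out.eq_two_or_odd' with h2 | h2
  · -- every element is a square
    have h3 : ∀ v : Kˣ, (QuotientGroup.mk v : Sq K) = 1 := by
      intro v
      obtain ⟨w, hw⟩ := FiniteField.isSquare_of_char_two (F := K) (ringChar.eq K p ▸ h2) (v : K)
      have hw0 : w ≠ 0 := by
        rintro rfl
        exact v.ne_zero (by rw [hw, mul_zero])
      have h4 : v = (Units.mk0 w hw0) ^ 2 := Units.ext (by
        rw [Units.val_pow_eq_pow_val, hw, sq]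
        rfl)
      rw [h4, mk_sq]
    rw [h3, h3]
  · obtain ⟨m, hm⟩ := h2.pow (n := n)
    rw [hm, pow_add, pow_one, pow_mul, QuotientGroup.mk_mul, QuotientGroup.mk_pow, mk_sq, one_pow, one_mul]

/-- the field part -/
noncomputable def fa (K : Type*) [Field K] [Fintype K] :
    MulAut (ProjectiveSpecialLinearGroup (Fin 2) K) →* (K ≃+* K) :=
  MonoidHom.mk' (fun α => (exists_ind α).choose.2) (by
    intro α β
    have h1 := (exists_ind α).choose_spec
    have h2 := (exists_ind β).choose_spec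
    have h3 := (exists_ind (α * β)).choose_spec
    refine (ind_unique (h := (exists_ind α).choose.1 * mapGL (exists_ind α).choose.2 (exists_ind β).choose.1)
      (h3.symm.trans ?_)).2
    conv_lhs => rw [h1, h2]
    rw [map_mul, map_mul, mul_assoc, ← mul_assoc (phi 2 K _) (Psi 2 K _), phi_mul_Psi]
    simp only [mul_assoc])

theorem fa_spec (α : MulAut (ProjectiveSpecialLinearGroup (Fin 2) K)) : ∃ g, α = Psi 2 K g * phi 2 K (fa K α) :=
  ⟨_, (exists_ind α).choose_spec⟩

theorem mk_det_eq {g h : GL (Fin 2) K} {u : Kˣ} (e : g = h * scal 2 K u) :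
    (QuotientGroup.mk (Matrix.GeneralLinearGroup.det g) : Sq K) = QuotientGroup.mk (Matrix.GeneralLinearGroup.det h) := by
  rw [e, map_mul, QuotientGroup.mk_mul, det_scal, mk_sq, mul_one]

/-- the diagonal part -/
noncomputable def ds (K : Type*) [Field K] [Fintype K] : MulAut (ProjectiveSpecialLinearGroup (Fin 2) K) →* Sq K :=
  MonoidHom.mk' (fun α => QuotientGroup.mk (Matrix.GeneralLinearGroup.det (exists_ind α).choose.1)) (by
    intro α β
    have h1 := (exists_ind α).choose_spec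
    have h2 := (exists_ind β).choose_spec
    have h3 := (exists_ind (α * β)).choose_spec
    obtain ⟨u, hu⟩ := (ind_unique (h := (exists_ind α).choose.1 * mapGL (exists_ind α).choose.2 (exists_ind β).choose.1)
      (τ := (exists_ind α).choose.2 * (exists_ind β).choose.2)
      (h3.symm.trans (by
        conv_lhs => rw [h1, h2]
        rw [map_mul, map_mul, mul_assoc, ← mul_assoc (phi 2 K _) (Psi 2 K _), phi_mul_Psi]
        simp only [mul_assoc]))).1
    rw [mk_det_eq hu, map_mul, QuotientGroup.mk_mul, det_mapGL, mk_map])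

theorem ds_of {α : MulAut (ProjectiveSpecialLinearGroup (Fin 2) K)} {g : GL (Fin 2) K} {σ : K ≃+* K}
    (h : α = Psi 2 K g * phi 2 K σ) : ds K α = QuotientGroup.mk (Matrix.GeneralLinearGroup.det g) := by
  obtain ⟨u, hu⟩ := (ind_unique ((exists_ind α).choose_spec.symm.trans h)).1
  exact mk_det_eq hu

/-- **the kernel of `(fa, ds)`** -/
theorem inner_of {α : MulAut (ProjectiveSpecialLinearGroup (Fin 2) K)} (h1 : fa K α = 1) (h2 : ds K α = 1) :
    ∃ a, α = MulAut.conj a := by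
  obtain ⟨g, hg⟩ := fa_spec α
  rw [ds_of hg, QuotientGroup.eq_one_iff] at h2
  obtain ⟨u, hu⟩ := h2
  have hu' : u ^ 2 = Matrix.GeneralLinearGroup.det g := hu
  rw [h1, map_one, mul_one] at hg
  have h3 : Matrix.GeneralLinearGroup.det ((scal 2 K u)⁻¹ * g) = 1 := by
    rw [map_mul, map_inv, det_scal, hu', inv_mul_cancel]
  have h4 : (((scal 2 K u)⁻¹ * g : GL (Fin 2) K) : Matrix (Fin 2) (Fin 2) K).det = 1 := by
    have h5 := congrArg Units.val h3
    rwa [Matrix.GeneralLinearGroup.val_det_apply, Units.val_one] at h5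
  let s : SpecialLinearGroup (Fin 2) K := ⟨_, h4⟩
  have h5 : (s : GL (Fin 2) K) = (scal 2 K u)⁻¹ * g := Units.ext rfl
  refine ⟨pr s, ?_⟩
  rw [← Psi_coe s, hg, h5, map_mul, map_inv, Psi_scal, inv_one, one_mul]

theorem comm_inner (α β : MulAut (ProjectiveSpecialLinearGroup (Fin 2) K)) :
    ∃ a, α * β * α⁻¹ * β⁻¹ = MulAut.conj a := by
  apply inner_of
  · rw [map_mul, map_mul, map_mul, map_inv, map_inv, Cfsg.Agent.Schreier.ClassBase.ringAut_comm (fa K α) (fa K β),
      mul_inv_cancel_right, mul_inv_cancel]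
  · rw [map_mul, map_mul, map_mul, map_inv, map_inv, mul_comm (ds K α) (ds K β), mul_inv_cancel_right, mul_inv_cancel]

theorem ds_sq (α : MulAut (ProjectiveSpecialLinearGroup (Fin 2) K)) : ds K α ^ 2 = 1 := by
  obtain ⟨g, hg⟩ := fa_spec α
  rw [ds_of hg, ← QuotientGroup.mk_pow, mk_sq]

theorem ds_two [CharP K 2] (α : MulAut (ProjectiveSpecialLinearGroup (Fin 2) K)) : ds K α = 1 := by
  obtain ⟨g, hg⟩ := fa_spec α
  rw [ds_of hg]
  obtain ⟨w, hw⟩ := FiniteField.isSquare_of_char_two (F := K) (ringChar.eq K 2)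
    (Matrix.GeneralLinearGroup.det g : K)
  have hw0 : w ≠ 0 := by
    rintro rfl
    exact (Matrix.GeneralLinearGroup.det g).ne_zero (by rw [hw, mul_zero])
  have h4 : Matrix.GeneralLinearGroup.det g = (Units.mk0 w hw0) ^ 2 := Units.ext (by
    rw [Units.val_pow_eq_pow_val, hw, sq]
    rfl)
  rw [h4, mk_sq]

theorem pow_inner {α : MulAut (ProjectiveSpecialLinearGroup (Fin 2) K)} {N : ℕ} (h : fa K α ^ N = 1)
    (hN : Even N ∨ CharP K 2) : ∃ a, α ^ N = MulAut.conj a := by
  apply inner_of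
  · rw [map_pow, h]
  · rcases hN with ⟨m, hm⟩ | hN
    · rw [map_pow, hm, ← two_mul, pow_mul, ds_sq, one_pow]
    · rw [map_pow, ds_two, one_pow]

end fin

end Cfsg.Agent.R2.H8.NoFix.Aut
end

-- part: R2/H6P2/Two
section
prune_inst 0xa4206044712200000000201072001c66fa000402000f0400e5a00f020fc9ec0389420e20be90061358a29084583d000000100010020000000a203000411a01a0800352061210ac08140087000100000000000000000000000000000000000000000000000
set_option linter.all false
open scoped Cfsg.Agent.FastGrp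

/-!
# S5749, S5750, box P2: twisted natural modules and their tensor products inside a module (helper6)

`Two τ κ x y` : `x, y` span a submodule isomorphic to the natural module twisted by `κ`; `Four τ κ κ' a b c d` : the same for
the tensor product of two such modules (quotients allowed); `Two.isV`, `Four.isV` : the labels of these submodules;
`two_of_isV` : every module `V_b` of dimension 2 is of this form.
-/

set_option autoImplicit false
set_option linter.unusedSectionVars false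

namespace Cfsg.Agent.R2.H6P2

open Module Matrix
open Cfsg.Agent.H943.SL2Rel Cfsg.Agent.H943.SL2Mod Cfsg.Agent.H943.RepAdd
open Cfsg.Agent.R2.H28.SL2 Cfsg.Agent.R2.SL2

universe u v w

variable {k : Type u} [Field k] {K : Type w} [Field K]
variable {V : Type v} [AddCommGroup V] [Module k V]

/-- `x, y` span a twisted natural module -/
structure Two (τ : Representation k (SpecialLinearGroup (Fin 2) K) V) (κ : K →+* k) (x y : V) : Prop where
  act₀ : ∀ g : SpecialLinearGroup (Fin 2) K, τ g x = κ (g.1 0 0) • x + κ (g.1 1 0) • y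
  act₁ : ∀ g : SpecialLinearGroup (Fin 2) K, τ g y = κ (g.1 0 1) • x + κ (g.1 1 1) • y
  ne : x ≠ 0

/-- `a, b, c, d` are the images of `x ⊗ x'`, `x ⊗ y'`, `y ⊗ x'`, `y ⊗ y'` -/
structure Four (τ : Representation k (SpecialLinearGroup (Fin 2) K) V) (κ κ' : K →+* k) (a b c d : V) : Prop where
  act₀ : ∀ g : SpecialLinearGroup (Fin 2) K, τ g a =
    κ (g.1 0 0) • (κ' (g.1 0 0) • a + κ' (g.1 1 0) • b) + κ (g.1 1 0) • (κ' (g.1 0 0) • c + κ' (g.1 1 0) • d)
  act₁ : ∀ g : SpecialLinearGroup (Fin 2) K, τ g b =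
    κ (g.1 0 0) • (κ' (g.1 0 1) • a + κ' (g.1 1 1) • b) + κ (g.1 1 0) • (κ' (g.1 0 1) • c + κ' (g.1 1 1) • d)
  act₂ : ∀ g : SpecialLinearGroup (Fin 2) K, τ g c =
    κ (g.1 0 1) • (κ' (g.1 0 0) • a + κ' (g.1 1 0) • b) + κ (g.1 1 1) • (κ' (g.1 0 0) • c + κ' (g.1 1 0) • d)
  act₃ : ∀ g : SpecialLinearGroup (Fin 2) K, τ g d =
    κ (g.1 0 1) • (κ' (g.1 0 1) • a + κ' (g.1 1 1) • b) + κ (g.1 1 1) • (κ' (g.1 0 1) • c + κ' (g.1 1 1) • d)

theorem stb_span {τ : Representation k (SpecialLinearGroup (Fin 2) K) V} {s : Set V}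
    (h : ∀ g, ∀ x ∈ s, τ g x ∈ Submodule.span k s) : Stb τ (Submodule.span k s) := by
  intro g w hw
  have h1 : Submodule.span k s ≤ (Submodule.span k s).comap (τ g) := Submodule.span_le.2 fun x hx => h g x hx
  exact h1 hw

theorem Two.stb {τ : Representation k (SpecialLinearGroup (Fin 2) K) V} {κ : K →+* k} {x y : V} (h : Two τ κ x y) :
    Stb τ (Submodule.span k {x, y}) := by
  have hx : x ∈ Submodule.span k {x, y} := Submodule.subset_span (Or.inl rfl)
  have hy : y ∈ Submodule.span k {x, y} := Submodule.subset_span (Or.inr rfl)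
  refine stb_span fun g z hz => ?_
  rcases hz with rfl | hz
  · rw [h.act₀]
    exact Submodule.add_mem _ (Submodule.smul_mem _ _ hx) (Submodule.smul_mem _ _ hy)
  · rw [Set.mem_singleton_iff.1 hz, h.act₁]
    exact Submodule.add_mem _ (Submodule.smul_mem _ _ hx) (Submodule.smul_mem _ _ hy)

theorem Four.stb {τ : Representation k (SpecialLinearGroup (Fin 2) K) V} {κ κ' : K →+* k} {a b c d : V}
    (h : Four τ κ κ' a b c d) : Stb τ (Submodule.span k {a, b, c, d}) := by
  have ha : a ∈ Submodule.span k {a, b, c, d} := Submodule.subset_span (by simp)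
  have hb : b ∈ Submodule.span k {a, b, c, d} := Submodule.subset_span (by simp)
  have hc : c ∈ Submodule.span k {a, b, c, d} := Submodule.subset_span (by simp)
  have hd : d ∈ Submodule.span k {a, b, c, d} := Submodule.subset_span (by simp)
  have key : ∀ (s₀ s₁ t₀ t₁ u₀ u₁ : k), u₀ • (s₀ • a + s₁ • b) + u₁ • (t₀ • c + t₁ • d) ∈
      Submodule.span k {a, b, c, d} := fun s₀ s₁ t₀ t₁ u₀ u₁ =>
    Submodule.add_mem _
      (Submodule.smul_mem _ _ (Submodule.add_mem _ (Submodule.smul_mem _ _ ha) (Submodule.smul_mem _ _ hb)))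
      (Submodule.smul_mem _ _ (Submodule.add_mem _ (Submodule.smul_mem _ _ hc) (Submodule.smul_mem _ _ hd)))
  refine stb_span fun g z hz => ?_
  rcases hz with rfl | rfl | rfl | hz
  · rw [h.act₀]; exact key _ _ _ _ _ _
  · rw [h.act₁]; exact key _ _ _ _ _ _
  · rw [h.act₂]; exact key _ _ _ _ _ _
  · rw [Set.mem_singleton_iff.1 hz, h.act₃]; exact key _ _ _ _ _ _

section lift

variable [CharP k 2] [DecidableEq k] [Fintype K] [DecidableEq K] [CharP K 2] (ι : K →+* k)

/-- lifting of linear maps to the tensor product -/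
theorem exists_lift {n : ℕ} {l : List ℕ} (hl : (n :: l).Nodup) (hb : psm (n :: l) ≤ Fintype.card K - 1)
    (θ₀ θ₁ : FS ι l →ₗ[k] V) : ∃ θ : FS ι (n :: l) →ₗ[k] V, ∀ r r', θ (jx ι n l r + jy ι n l r') = θ₀ r + θ₁ r' := by
  have := finite_FS ι l
  have := finite_FS ι (n :: l)
  have hl' : l.Nodup := (List.nodup_cons.1 hl).2
  have hb' : psm l ≤ Fintype.card K - 1 := by
    rw [psm_cons] at hb
    exact (Nat.le_add_left _ _).trans hb
  let m : (FS ι l × FS ι l) →ₗ[k] FS ι (n :: l) := (jx ι n l).coprod (jy ι n l)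
  have hs : Function.Surjective m := by
    intro e
    obtain ⟨r, r', rfl⟩ := (tens_FS ι n l).span e
    exact ⟨(r, r'), LinearMap.coprod_apply _ _ _⟩
  have hi : Function.Injective m := by
    rw [LinearMap.injective_iff_surjective_of_finrank_eq_finrank]
    · exact hs
    · rw [finrank_prod, finrank_FS ι hl' hb', finrank_FS ι hl hb, List.length_cons, pow_succ]
      ring
  let e : (FS ι l × FS ι l) ≃ₗ[k] FS ι (n :: l) := LinearEquiv.ofBijective m ⟨hi, hs⟩
  refine ⟨(θ₀.coprod θ₁) ∘ₗ (e.symm : FS ι (n :: l) →ₗ[k] (FS ι l × FS ι l)), fun r r' => ?_⟩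
  have h1 : jx ι n l r + jy ι n l r' = e (r, r') := (LinearMap.coprod_apply (jx ι n l) (jy ι n l) (r, r')).symm
  rw [h1]
  show (θ₀.coprod θ₁) (e.symm (e (r, r'))) = _
  rw [e.symm_apply_apply, LinearMap.coprod_apply]

/-- lifting of equivariant maps -/
theorem equiv_of {τ : Representation k (SpecialLinearGroup (Fin 2) K) V} {n : ℕ} {l : List ℕ}
    {θ₀ θ₁ : FS ι l →ₗ[k] V} {θ : FS ι (n :: l) →ₗ[k] V} (h : ∀ r r', θ (jx ι n l r + jy ι n l r') = θ₀ r + θ₁ r')
    (h₀ : ∀ (g : SpecialLinearGroup (Fin 2) K) r, τ g (θ₀ r) = ka ι n (g.1 0 0) • θ₀ (fs ι l g r) +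
      ka ι n (g.1 1 0) • θ₁ (fs ι l g r))
    (h₁ : ∀ (g : SpecialLinearGroup (Fin 2) K) r, τ g (θ₁ r) = ka ι n (g.1 0 1) • θ₀ (fs ι l g r) +
      ka ι n (g.1 1 1) • θ₁ (fs ι l g r)) (g : SpecialLinearGroup (Fin 2) K) (e : FS ι (n :: l)) :
    θ (fs ι (n :: l) g e) = τ g (θ e) := by
  have hT := tens_FS ι n l
  obtain ⟨r, r', rfl⟩ := hT.span e
  have e0 : fs ι (n :: l) g (jx ι n l r + jy ι n l r') =
      jx ι n l (ka ι n (g.1 0 0) • fs ι l g r + ka ι n (g.1 0 1) • fs ι l g r') +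
      jy ι n l (ka ι n (g.1 1 0) • fs ι l g r + ka ι n (g.1 1 1) • fs ι l g r') := by
    rw [map_add, hT.act₀, hT.act₁]
    simp only [Matrix.map_apply, map_add, map_smul]
    abel
  rw [e0, h, h, map_add (τ g), h₀, h₁]
  simp only [map_add, map_smul]
  abel

/-- the constant function -/
noncomputable def on1 : FS ι [] := ⟨fun _ => 1, Submodule.mem_span_singleton_self _⟩

/-- the coordinate of a constant function -/
noncomputable def co1 : FS ι [] →ₗ[k] k := (LinearMap.proj ((0, 0) : K × K)) ∘ₗ (FS ι []).subtype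

theorem co1_on1 : co1 ι (on1 ι) = 1 := rfl

theorem co1_fs (g : SpecialLinearGroup (Fin 2) K) (r : FS ι []) : co1 ι (fs ι [] g r) = co1 ι r := by
  show (r : K × K → k) (0 * g.1 0 0 + 0 * g.1 1 0, 0 * g.1 0 1 + 0 * g.1 1 1) = (r : K × K → k) (0, 0)
  simp

theorem eq_co1 (r : FS ι []) : r = co1 ι r • on1 ι := by
  obtain ⟨c, hc⟩ := Submodule.mem_span_singleton.1 r.2
  have h1 : r = c • on1 ι := Subtype.ext hc.symm
  rw [h1, map_smul, co1_on1, smul_eq_mul, mul_one]

/-- the image of an irreducible module -/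
theorem isV_range {τ : Representation k (SpecialLinearGroup (Fin 2) K) V} {l : List ℕ} (hl : l.Nodup)
    (hb : psm l ≤ Fintype.card K - 1) {θ : FS ι l →ₗ[k] V} (hθ : ∀ g e, θ (fs ι l g e) = τ g (θ e)) (h0 : θ ≠ 0)
    (hs : Stb τ (LinearMap.range θ)) :
    IsV ι 2 (subRep τ (LinearMap.range θ) hs) (psm l) ∧ finrank k (LinearMap.range θ) = 2 ^ l.length := by
  have hV := isV_FS ι hl hb
  have hinj : Function.Injective θ := by
    rcases (IsV.irr ι 2 hV).2 (LinearMap.ker θ) (fun g x hx => by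
      rw [LinearMap.mem_ker] at hx ⊢
      rw [hθ, hx, map_zero]) with h1 | h1
    · exact LinearMap.ker_eq_bot.1 h1
    · exact absurd (LinearMap.ker_eq_top.1 h1) h0
  refine ⟨IsV.iso ι 2 (LinearEquiv.ofInjective θ hinj) (fun g x => Subtype.ext (hθ g x)) hV, ?_⟩
  rw [LinearMap.finrank_range_of_inj hinj, finrank_FS ι hl hb]

variable {a : ℕ} (hK : Fintype.card K = 2 ^ a)

include hK

theorem psm_one_le {n : ℕ} (hn : n < a) : psm [n] ≤ Fintype.card K - 1 := by
  have h1 : psm [n] = 2 ^ n := by rw [psm_cons, psm_nil, add_zero]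
  have h2 : 2 ^ n < 2 ^ a := Nat.pow_lt_pow_right (by norm_num) hn
  rw [h1, hK]
  omega

theorem psm_two_le {n m : ℕ} (hn : n < a) (hm : m < a) (h : n ≠ m) : psm [n, m] ≤ Fintype.card K - 1 := by
  have h1 : psm [n, m] = 2 ^ n + 2 ^ m := by rw [psm_cons, psm_cons, psm_nil, add_zero]
  have key : ∀ i j : ℕ, i < j → j < a → 2 ^ i + 2 ^ j ≤ 2 ^ a - 1 := by
    intro i j hij hj
    have h2 : 2 ^ i < 2 ^ j := Nat.pow_lt_pow_right (by norm_num) hij
    have h3 : 2 ^ (j + 1) ≤ 2 ^ a := Nat.pow_le_pow_right (by norm_num) hj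
    rw [pow_succ] at h3
    omega
  rw [h1, hK]
  rcases lt_or_gt_of_ne h with h2 | h2
  · exact key n m h2 hm
  · rw [add_comm]
    exact key m n h2 hn

/-- **the label of a twisted natural module** -/
theorem Two.isV {τ : Representation k (SpecialLinearGroup (Fin 2) K) V} {n : ℕ} (hn : n < a) {x y : V}
    (h : Two τ (ka ι n) x y) : finrank k (Submodule.span k {x, y}) = 2 ∧
      ∀ hs, IsV ι 2 (subRep τ (Submodule.span k {x, y}) hs) (2 ^ n) := by
  obtain ⟨θ, hθ⟩ := exists_lift ι (n := n) (l := []) (List.nodup_singleton n) (psm_one_le hK hn)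
    ((co1 ι).smulRight x) ((co1 ι).smulRight y)
  have hθe := equiv_of ι (τ := τ) hθ (fun g r => by
    rw [LinearMap.smulRight_apply, LinearMap.smulRight_apply, LinearMap.smulRight_apply, co1_fs, map_smul, h.act₀]
    module) (fun g r => by
    rw [LinearMap.smulRight_apply, LinearMap.smulRight_apply, LinearMap.smulRight_apply, co1_fs, map_smul, h.act₁]
    module)
  have hx : θ (jx ι n [] (on1 ι) + jy ι n [] 0) = x := by
    rw [hθ, map_zero, add_zero, LinearMap.smulRight_apply, co1_on1, one_smul]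
  have hy : θ (jx ι n [] 0 + jy ι n [] (on1 ι)) = y := by
    rw [hθ, map_zero, zero_add, LinearMap.smulRight_apply, co1_on1, one_smul]
  have h0 : θ ≠ 0 := by
    intro h0
    rw [h0, LinearMap.zero_apply] at hx
    exact h.ne hx.symm
  have hr : LinearMap.range θ = Submodule.span k {x, y} := by
    apply le_antisymm
    · rintro _ ⟨e, rfl⟩
      obtain ⟨r, r', rfl⟩ := (tens_FS ι n []).span e
      rw [hθ, LinearMap.smulRight_apply, LinearMap.smulRight_apply]
      exact Submodule.add_mem _ (Submodule.smul_mem _ _ (Submodule.subset_span (Or.inl rfl)))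
        (Submodule.smul_mem _ _ (Submodule.subset_span (Or.inr rfl)))
    · rw [Submodule.span_le]
      rintro z (rfl | hz)
      · exact ⟨_, hx⟩
      · rw [Set.mem_singleton_iff.1 hz]
        exact ⟨_, hy⟩
  have hpsm : psm [n] = 2 ^ n := by rw [psm_cons, psm_nil, add_zero]
  have key : ∀ W : Submodule k V, W = LinearMap.range θ → finrank k W = 2 ∧
      ∀ hs, IsV ι 2 (subRep τ W hs) (2 ^ n) := by
    rintro _ rfl
    have hs : Stb τ (LinearMap.range θ) := by
      rintro g _ ⟨e, rfl⟩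
      exact ⟨_, hθe g e⟩
    obtain ⟨h1, h2⟩ := isV_range ι (τ := τ) (List.nodup_singleton n) (psm_one_le hK hn) hθe h0 hs
    rw [hpsm] at h1
    exact ⟨h2, fun _ => h1⟩
  exact key _ hr.symm

/-- **the label of a tensor product of two twisted natural modules** -/
theorem Four.isV {τ : Representation k (SpecialLinearGroup (Fin 2) K) V} {n m : ℕ} (hn : n < a) (hm : m < a)
    (hnm : n ≠ m) {x y z t : V} (h : Four τ (ka ι n) (ka ι m) x y z t) (hne : ¬ (x = 0 ∧ y = 0 ∧ z = 0 ∧ t = 0)) :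
    finrank k (Submodule.span k {x, y, z, t}) = 4 ∧
      ∀ hs, IsV ι 2 (subRep τ (Submodule.span k {x, y, z, t}) hs) (2 ^ n + 2 ^ m) := by
  have hnd : [n, m].Nodup := by simp [hnm]
  obtain ⟨θ₀, hθ₀⟩ := exists_lift ι (n := m) (l := []) (List.nodup_singleton m) (psm_one_le hK hm)
    ((co1 ι).smulRight x) ((co1 ι).smulRight y)
  obtain ⟨θ₁, hθ₁⟩ := exists_lift ι (n := m) (l := []) (List.nodup_singleton m) (psm_one_le hK hm)
    ((co1 ι).smulRight z) ((co1 ι).smulRight t)
  obtain ⟨θ, hθ⟩ := exists_lift ι (n := n) (l := [m]) hnd (psm_two_le hK hn hm hnm) θ₀ θ₁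
  have hT := tens_FS ι m []
  have hact : ∀ (g : SpecialLinearGroup (Fin 2) K) (r r' : FS ι []), fs ι [m] g (jx ι m [] r + jy ι m [] r') =
      jx ι m [] (ka ι m (g.1 0 0) • fs ι [] g r + ka ι m (g.1 0 1) • fs ι [] g r') +
      jy ι m [] (ka ι m (g.1 1 0) • fs ι [] g r + ka ι m (g.1 1 1) • fs ι [] g r') := by
    intro g r r'
    rw [map_add, hT.act₀, hT.act₁]
    simp only [Matrix.map_apply, map_add, map_smul]
    abel
  have hθe := equiv_of ι (τ := τ) hθ (fun g e => by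
    obtain ⟨r, r', rfl⟩ := hT.span e
    rw [hact, hθ₀, hθ₀, hθ₁]
    simp only [LinearMap.smulRight_apply, map_add, map_smul, co1_fs]
    rw [h.act₀, h.act₁]
    module) (fun g e => by
    obtain ⟨r, r', rfl⟩ := hT.span e
    rw [hact, hθ₁, hθ₀, hθ₁]
    simp only [LinearMap.smulRight_apply, map_add, map_smul, co1_fs]
    rw [h.act₂, h.act₃]
    module)
  have hval : ∀ r₀ r₁ s₀ s₁ : FS ι [], θ (jx ι n [m] (jx ι m [] r₀ + jy ι m [] r₁) +
      jy ι n [m] (jx ι m [] s₀ + jy ι m [] s₁)) =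
      (co1 ι r₀ • x + co1 ι r₁ • y) + (co1 ι s₀ • z + co1 ι s₁ • t) := by
    intro r₀ r₁ s₀ s₁
    rw [hθ, hθ₀, hθ₁]
    rfl
  have hx := hval (on1 ι) 0 0 0
  have hy := hval 0 (on1 ι) 0 0
  have hz := hval 0 0 (on1 ι) 0
  have ht := hval 0 0 0 (on1 ι)
  rw [co1_on1, map_zero (co1 ι), one_smul, zero_smul, zero_smul, zero_smul, add_zero, add_zero, add_zero] at hx
  rw [co1_on1, map_zero (co1 ι), one_smul, zero_smul, zero_smul, zero_smul, zero_add, add_zero, add_zero] at hy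
  rw [co1_on1, map_zero (co1 ι), one_smul, zero_smul, zero_smul, zero_smul, zero_add, zero_add, add_zero] at hz
  rw [co1_on1, map_zero (co1 ι), one_smul, zero_smul, zero_smul, zero_smul, zero_add, zero_add, zero_add] at ht
  have h0 : θ ≠ 0 := by
    intro h0
    rw [h0, LinearMap.zero_apply] at hx hy hz ht
    exact hne ⟨hx.symm, hy.symm, hz.symm, ht.symm⟩
  have hr : LinearMap.range θ = Submodule.span k {x, y, z, t} := by
    apply le_antisymm
    · rintro _ ⟨e, rfl⟩
      obtain ⟨r, s, rfl⟩ := (tens_FS ι n [m]).span e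
      obtain ⟨r₀, r₁, rfl⟩ := hT.span r
      obtain ⟨s₀, s₁, rfl⟩ := hT.span s
      rw [hval]
      exact Submodule.add_mem _
        (Submodule.add_mem _ (Submodule.smul_mem _ _ (Submodule.subset_span (by simp)))
          (Submodule.smul_mem _ _ (Submodule.subset_span (by simp))))
        (Submodule.add_mem _ (Submodule.smul_mem _ _ (Submodule.subset_span (by simp)))
          (Submodule.smul_mem _ _ (Submodule.subset_span (by simp))))
    · rw [Submodule.span_le]
      rintro v (rfl | rfl | rfl | hv)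
      · exact ⟨_, hx⟩
      · exact ⟨_, hy⟩
      · exact ⟨_, hz⟩
      · rw [Set.mem_singleton_iff.1 hv]
        exact ⟨_, ht⟩
  have hpsm : psm [n, m] = 2 ^ n + 2 ^ m := by rw [psm_cons, psm_cons, psm_nil, add_zero]
  have key : ∀ W : Submodule k V, W = LinearMap.range θ → finrank k W = 4 ∧
      ∀ hs, IsV ι 2 (subRep τ W hs) (2 ^ n + 2 ^ m) := by
    rintro _ rfl
    have hs : Stb τ (LinearMap.range θ) := by
      rintro g _ ⟨e, rfl⟩
      exact ⟨_, hθe g e⟩
    obtain ⟨h1, h2⟩ := isV_range ι (τ := τ) hnd (psm_two_le hK hn hm hnm) hθe h0 hs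
    rw [hpsm] at h1
    exact ⟨h2, fun _ => h1⟩
  exact key _ hr.symm

/-- **modules of dimension 2** -/
theorem two_of_isV {τ : Representation k (SpecialLinearGroup (Fin 2) K) V} {b : ℕ} (h : IsV ι 2 τ b)
    (h2 : finrank k V = 2) : ∃ n < a, b = 2 ^ n ∧ ∃ x y, Two τ (ka ι n) x y ∧ Submodule.span k {x, y} = ⊤ := by
  obtain ⟨l, hl, rfl, hb, hd, φ, hφ⟩ := exists_iso_FS ι h
  rw [h2] at hd
  have hlen : l.length = 1 := by
    have e1 : l.length ≠ 0 := by
      intro h0
      rw [h0] at hd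
      norm_num at hd
    by_contra hne
    have e2 : 2 ^ 2 ≤ 2 ^ l.length := Nat.pow_le_pow_right (by norm_num) (by omega)
    omega
  obtain ⟨n, rfl⟩ := List.length_eq_one_iff.1 hlen
  have hpsm : psm [n] = 2 ^ n := by rw [psm_cons, psm_nil, add_zero]
  have hn : n < a := by
    rw [hpsm, hK] at hb
    by_contra hcon
    have e1 : 2 ^ a ≤ 2 ^ n := Nat.pow_le_pow_right (by norm_num) (by omega)
    have e2 : 0 < 2 ^ a := by positivity
    omega
  have hT := tens_FS ι n []
  refine ⟨n, hn, hpsm, φ (jx ι n [] (on1 ι)), φ (jy ι n [] (on1 ι)), ⟨fun g => ?_, fun g => ?_, fun h0 => ?_⟩, ?_⟩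
  · have e1 : fs ι [] g (on1 ι) = on1 ι := Subtype.ext rfl
    rw [← hφ, hT.act₀, e1, map_add, map_smul, map_smul]
    rfl
  · have e1 : fs ι [] g (on1 ι) = on1 ι := Subtype.ext rfl
    rw [← hφ, hT.act₁, e1, map_add, map_smul, map_smul]
    rfl
  · have e1 : jx ι n [] (on1 ι) = 0 := φ.map_eq_zero_iff.1 h0
    have e2 : (jx ι n [] (on1 ι) : K × K → k) (1, 0) = 0 := by rw [e1]; rfl
    have e3 : ka ι n (1 : K) * 1 = 0 := e2
    rw [map_one, mul_one] at e3
    exact one_ne_zero e3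
  · rw [eq_top_iff]
    intro v _
    obtain ⟨r, r', h3⟩ := hT.span (φ.symm v)
    have h4 : v = co1 ι r • φ (jx ι n [] (on1 ι)) + co1 ι r' • φ (jy ι n [] (on1 ι)) := by
      rw [← φ.apply_symm_apply v, h3, map_add]
      congr 1
      · conv_lhs => rw [eq_co1 ι r]
        rw [map_smul, map_smul]
      · conv_lhs => rw [eq_co1 ι r']
        rw [map_smul, map_smul]
    rw [h4]
    exact Submodule.add_mem _ (Submodule.smul_mem _ _ (Submodule.subset_span (Or.inl rfl)))
      (Submodule.smul_mem _ _ (Submodule.subset_span (Or.inr rfl)))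

omit hK in
theorem ka_add_card {a : ℕ} (hK : Fintype.card K = 2 ^ a) (n : ℕ) : ka ι (n + a) = ka ι n := by
  ext t
  rw [ka_apply, ka_apply, pow_add, mul_comm, pow_mul, ← hK, ← map_pow, FiniteField.pow_card]

omit hK in
theorem ka_mod {a : ℕ} (hK : Fintype.card K = 2 ^ a) (n : ℕ) : ka ι (n % a) = ka ι n := by
  conv_rhs => rw [← Nat.mod_add_div n a]
  generalize n / a = m
  generalize n % a = r
  induction m with
  | zero => rw [Nat.mul_zero, Nat.add_zero]
  | succ m ih => rw [Nat.mul_succ, ← Nat.add_assoc, ka_add_card ι hK, ← ih]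

end lift

end Cfsg.Agent.R2.H6P2
end
end

-- part: R2/H6P2/Inn
section
set_option linter.all false
open scoped Cfsg.Agent.FastGrp

-- part: R2/H6P2/Desc
section
/-!
# S5749, S5750, box P2: Galois descent (helper6)

`s : k →+* k`; a non-zero subspace of `n → k` stable under `s` contains a non-zero vector fixed by `s` (`exists_fixed`); if the
fixed field of `s` is `f (F)`, it is the extension of a subspace over `F` (`exists_ext`).
-/

set_option autoImplicit false
set_option linter.unusedSectionVars false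

namespace Cfsg.Agent.R2.H6P2

open Module Cfsg.Agent.H65.E6Emb

universe u v w

variable {k : Type u} [Field k] (s : k →+* k) {n : Type w} [Fintype n]

theorem exists_fixed_aux {U : Submodule k (n → k)} (hU : ∀ u ∈ U, (fun i => s (u i)) ∈ U) (N : ℕ) :
    ∀ u ∈ U, u ≠ 0 → {i | u i ≠ 0}.ncard ≤ N → ∃ v ∈ U, v ≠ 0 ∧ (fun i => s (v i)) = v := by
  induction N with
  | zero =>
    intro u _ hu0 hc
    exfalso
    apply hu0
    have h1 : {i | u i ≠ 0} = ∅ := (Set.ncard_eq_zero (Set.toFinite _)).1 (Nat.le_zero.1 hc)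
    funext i
    by_contra h
    have h2 : i ∈ ({i | u i ≠ 0} : Set n) := h
    rw [h1] at h2
    exact h2
  | succ N ih =>
    intro u hu hu0 hc
    obtain ⟨i, hi⟩ := Function.ne_iff.1 hu0
    have hi' : u i ≠ 0 := hi
    set v : n → k := (u i)⁻¹ • u with hv
    have hvU : v ∈ U := U.smul_mem _ hu
    have hvi : v i = 1 := by
      rw [hv, Pi.smul_apply, smul_eq_mul, inv_mul_cancel₀ hi']
    set w : n → k := (fun j => s (v j)) - v with hw
    have hwU : w ∈ U := U.sub_mem (hU v hvU) hvU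
    by_cases hw0 : w = 0
    · refine ⟨v, hvU, fun h => ?_, sub_eq_zero.1 hw0⟩
      have h1 := congrFun h i
      rw [hvi] at h1
      exact one_ne_zero h1
    · refine ih w hwU hw0 ?_
      have h1 : {j | w j ≠ 0} ⊆ {j | u j ≠ 0} \ {i} := by
        intro j hj
        have hj' : w j ≠ 0 := hj
        refine ⟨fun h => hj' ?_, fun h => hj' ?_⟩
        · have h2 : v j = 0 := by
            rw [hv, Pi.smul_apply, smul_eq_mul, h, mul_zero]
          show s (v j) - v j = 0
          rw [h2, map_zero, sub_zero]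
        · rw [Set.mem_singleton_iff.1 h]
          show s (v i) - v i = 0
          rw [hvi, map_one, sub_self]
      have h2 := Set.ncard_le_ncard h1 (Set.toFinite _)
      have h3 := Set.ncard_diff_singleton_lt_of_mem (s := {j | u j ≠ 0}) (a := i) hi' (Set.toFinite _)
      omega

/-- a stable subspace contains a fixed vector -/
theorem exists_fixed {U : Submodule k (n → k)} (hU : ∀ u ∈ U, (fun i => s (u i)) ∈ U) (h0 : U ≠ ⊥) :
    ∃ v ∈ U, v ≠ 0 ∧ (fun i => s (v i)) = v := by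
  obtain ⟨u, hu, hu0⟩ := (Submodule.ne_bot_iff U).1 h0
  exact exists_fixed_aux s hU _ u hu hu0 le_rfl

variable {F : Type v} [Field F] (f : F →+* k)

/-- the vectors over `F` -/
def rat (U : Submodule k (n → k)) : Submodule F (n → F) where
  carrier := {x | (fun i => f (x i)) ∈ U}
  add_mem' {x y} hx hy := by
    have h : (fun i => f ((x + y) i)) = (fun i => f (x i)) + fun i => f (y i) := by
      funext i
      simp
    show (fun i => f ((x + y) i)) ∈ U
    rw [h]
    exact U.add_mem hx hy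
  zero_mem' := by
    have h : (fun i => f ((0 : n → F) i)) = 0 := by
      funext i
      simp
    show (fun i => f ((0 : n → F) i)) ∈ U
    rw [h]
    exact U.zero_mem
  smul_mem' c x hx := by
    have h : (fun i => f ((c • x) i)) = f c • fun i => f (x i) := by
      funext i
      simp
    show (fun i => f ((c • x) i)) ∈ U
    rw [h]
    exact U.smul_mem _ hx

theorem mem_rat {U : Submodule k (n → k)} {x : n → F} : x ∈ rat f U ↔ (fun i => f (x i)) ∈ U := Iff.rfl

theorem ext_rat_le (U : Submodule k (n → k)) : ext f (rat f U) ≤ U := ext_le fun _ hx => hx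

theorem le_ext_rat (hs : ∀ x, s x = x → ∃ y, f y = x) (N : ℕ) : ∀ U : Submodule k (n → k),
    (∀ u ∈ U, (fun i => s (u i)) ∈ U) → finrank k U ≤ N → U ≤ ext f (rat f U) := by
  induction N with
  | zero =>
    intro U _ hN
    rw [Submodule.finrank_eq_zero.1 (Nat.le_zero.1 hN)]
    exact bot_le
  | succ N ih =>
    intro U hU hN
    by_cases h0 : U = ⊥
    · rw [h0]
      exact bot_le
    obtain ⟨v, hv, hv0, hvs⟩ := exists_fixed s hU h0
    obtain ⟨i, hi⟩ := Function.ne_iff.1 hv0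
    have hi' : v i ≠ 0 := hi
    choose x hx using fun j => hs (v j) (congrFun hvs j)
    have hxv : (fun j => f (x j)) = v := funext hx
    have hvE : v ∈ ext f (rat f U) := by
      rw [← hxv]
      exact mem_ext_of_mem (by rw [mem_rat, hxv]; exact hv)
    set U' : Submodule k (n → k) := U ⊓ LinearMap.ker (LinearMap.proj (R := k) (φ := fun _ => k) i) with hU'
    have hU's : ∀ u ∈ U', (fun j => s (u j)) ∈ U' := by
      intro u hu
      refine ⟨hU u hu.1, ?_⟩
      have h1 : u i = 0 := hu.2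
      show s (u i) = 0
      rw [h1, map_zero]
    have hlt : finrank k U' < finrank k U := by
      apply Submodule.finrank_lt_finrank_of_lt
      refine lt_of_le_of_ne inf_le_left fun h => ?_
      rw [← h] at hv
      exact hi' hv.2
    have h1 := ih U' hU's (by omega)
    have h2 : ext f (rat f U') ≤ ext f (rat f U) := ext_mono fun y hy => hy.1
    intro u hu
    have h3 : u = (u i * (v i)⁻¹) • v + (u - (u i * (v i)⁻¹) • v) := by abel
    rw [h3]
    refine Submodule.add_mem _ (Submodule.smul_mem _ _ hvE) (h2 (h1 ⟨U.sub_mem hu (U.smul_mem _ hv), ?_⟩))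
    show u i - (u i * (v i)⁻¹) * v i = 0
    rw [mul_assoc, inv_mul_cancel₀ hi', mul_one, sub_self]

/-- **Galois descent** -/
theorem exists_ext (hs : ∀ x, s x = x → ∃ y, f y = x) {U : Submodule k (n → k)}
    (hU : ∀ u ∈ U, (fun i => s (u i)) ∈ U) : ∃ W : Submodule F (n → F), ext f W = U :=
  ⟨rat f U, le_antisymm (ext_rat_le f U) (le_ext_rat s f hs _ U hU le_rfl)⟩

end Cfsg.Agent.R2.H6P2
end

-- part: R2/H6P2/Geo
section
/-!
# S5749, S5750, box P2: totally singular 2- and 4-spaces over an algebraically closed field of characteristic 2 (helper6)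

`χ : SL₂(K) →* Zgrp k`, `NoFx χ` : no fixed vectors; `TTwo ρ χ κ x y` : a totally singular twisted natural submodule.
* `Two.ts_or` : `x, y` or `sh x, sh y` is totally singular;
* `TTwo.four` : `cr X X'` is a quotient of `X ⊗ X'`, `TTwo.four_ts` : it is totally singular;
* `hull_count` : a stable totally singular 4-space has its composition factors twice in the module.
-/

set_option autoImplicit false
set_option linter.unusedSectionVars false

namespace Cfsg.Agent.R2.H6P2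

open Module Matrix
open Cfsg.Lie
open Cfsg.Agent.ChevalleyStructure.E6Min.Basic (Zgrp)
open Cfsg.Agent.H943.SL2Rel Cfsg.Agent.H943.SL2Mod Cfsg.Agent.H943.RepAdd
open Cfsg.Agent.R2.H28.SL2 Cfsg.Agent.R2.SL2 Cfsg.Agent.R2.GEO
open Cfsg.Agent.H952.F4 (sh cr tf)
open Cfsg.Agent.H952.F4.Jord
open Cfsg.Agent.H163.E6 (V V' TS)
open Cfsg.Agent.H905.E6T (sh_zero cr_zero_left cr_zero_right tf_zero_right ts_span)

universe u v w

variable {k : Type u} [Field k] {K : Type w} [Field K]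

section pair

variable {ρ ρ' : Representation k ↥(Zgrp k) (I27 → k)}

theorem pair_sh (h : Pair ρ ρ') (g : ↥(Zgrp k)) (x : I27 → k) : sh (ρ g x) = ρ' g (sh x) := by
  rcases h with ⟨rfl, rfl⟩ | ⟨rfl, rfl⟩
  · exact Cfsg.Agent.H163.E6.Act.sh_act g x
  · exact Cfsg.Agent.H163.E6.Act.sh_act' g x

theorem pair_cr (h : Pair ρ ρ') (g : ↥(Zgrp k)) (x y : I27 → k) : cr (ρ g x) (ρ g y) = ρ' g (cr x y) := by
  rcases h with ⟨rfl, rfl⟩ | ⟨rfl, rfl⟩
  · exact Cfsg.Agent.H163.E6.Act.cr_act g x y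
  · exact Cfsg.Agent.H163.E6.Act.cr_act' g x y

theorem pair_tf (h : Pair ρ ρ') (g : ↥(Zgrp k)) (x y : I27 → k) : tf (ρ g x) (ρ' g y) = tf x y := by
  rcases h with ⟨rfl, rfl⟩ | ⟨rfl, rfl⟩
  · exact Cfsg.Agent.H163.E6.Act.tf_act g x y
  · rw [tf_comm, Cfsg.Agent.H163.E6.Act.tf_act, tf_comm]

theorem pair_left (h : Pair ρ ρ') : ρ = V k ∨ ρ = V' k := by
  rcases h with ⟨rfl, -⟩ | ⟨rfl, -⟩
  · exact Or.inl rfl
  · exact Or.inr rfl

theorem exists_pair (h : ρ = V k ∨ ρ = V' k) : ∃ ρ', Pair ρ ρ' := by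
  rcases h with rfl | rfl
  · exact ⟨V' k, Or.inl ⟨rfl, rfl⟩⟩
  · exact ⟨V k, Or.inr ⟨rfl, rfl⟩⟩

end pair

theorem ts_set {S : Set (I27 → k)} (h1 : ∀ x ∈ S, sh x = 0) (h2 : ∀ x ∈ S, ∀ y ∈ S, cr x y = 0) :
    TS (Submodule.span k S) := by
  have h := ts_span (F := k) (f := fun x : S => (x : I27 → k)) (fun x => h1 x x.2) (fun x y => h2 x x.2 y y.2)
  rwa [Subtype.range_coe] at h

/-- the restriction to `SL₂(K)` -/
abbrev rp (ρ : Representation k ↥(Zgrp k) (I27 → k)) (χ : _root_.Matrix.SpecialLinearGroup (Fin 2) K →* ↥(Zgrp k)) :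
    Representation k (_root_.Matrix.SpecialLinearGroup (Fin 2) K) (I27 → k) := MonoidHom.comp ρ χ

theorem rp_apply (ρ : Representation k ↥(Zgrp k) (I27 → k)) (χ : _root_.Matrix.SpecialLinearGroup (Fin 2) K →* ↥(Zgrp k))
    (g : _root_.Matrix.SpecialLinearGroup (Fin 2) K) (x : I27 → k) : rp ρ χ g x = ρ (χ g) x := rfl

/-- no fixed vectors -/
def NoFx (χ : _root_.Matrix.SpecialLinearGroup (Fin 2) K →* ↥(Zgrp k)) : Prop :=
  ∀ ρ : Representation k ↥(Zgrp k) (I27 → k), (ρ = V k ∨ ρ = V' k) → ∀ v, (∀ g, ρ (χ g) v = v) → v = 0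

/-- a totally singular twisted natural submodule -/
structure TTwo (ρ : Representation k ↥(Zgrp k) (I27 → k)) (χ : _root_.Matrix.SpecialLinearGroup (Fin 2) K →* ↥(Zgrp k))
    (κ : K →+* k) (x y : I27 → k) : Prop extends Two (rp ρ χ) κ x y where
  shx : sh x = 0
  shy : sh y = 0
  crxy : cr x y = 0

theorem kdet (κ : K →+* k) (g : _root_.Matrix.SpecialLinearGroup (Fin 2) K) :
    κ (g.1 0 0) * κ (g.1 1 1) - κ (g.1 0 1) * κ (g.1 1 0) = 1 := by
  have h := g.2
  rw [Matrix.det_fin_two] at h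
  rw [← map_mul, ← map_mul, ← map_sub, h, map_one]

variable {ρ ρ' : Representation k ↥(Zgrp k) (I27 → k)} {χ : _root_.Matrix.SpecialLinearGroup (Fin 2) K →* ↥(Zgrp k)}

theorem Two.wact {τ : Representation k (_root_.Matrix.SpecialLinearGroup (Fin 2) K) (I27 → k)} {κ : K →+* k} {x y : I27 → k}
    (h : Two τ κ x y) : τ w x = -y ∧ τ w y = x := by
  constructor
  · rw [h.act₀]
    show κ 0 • x + κ (-1) • y = -y
    rw [map_zero, zero_smul, zero_add, map_neg, map_one, neg_one_smul]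
  · rw [h.act₁]
    show κ 1 • x + κ 0 • y = x
    rw [map_zero, zero_smul, add_zero, map_one, one_smul]

/-- `x` and `y` are linearly independent -/
theorem Two.indep {τ : Representation k (_root_.Matrix.SpecialLinearGroup (Fin 2) K) (I27 → k)} {κ : K →+* k} {x y : I27 → k}
    (h : Two τ κ x y) {α β : k} (h0 : α • x + β • y = 0) : α = 0 ∧ β = 0 := by
  have hu1 : τ (u 1) x = x := by
    rw [h.act₀]
    show κ 1 • x + κ 0 • y = x
    rw [map_zero, zero_smul, add_zero, map_one, one_smul]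
  have hu2 : τ (u 1) y = x + y := by
    rw [h.act₁]
    show κ 1 • x + κ 1 • y = x + y
    rw [map_one, one_smul, one_smul]
  have h1 := congrArg (τ (u 1)) h0
  rw [map_add, map_smul, map_smul, hu1, hu2, map_zero] at h1
  have h2 : β • x = 0 := by
    have e : β • x = (α • x + β • (x + y)) - (α • x + β • y) := by module
    rw [e, h1, h0, sub_zero]
  have h3 : β = 0 := (smul_eq_zero.1 h2).resolve_right h.ne
  rw [h3, zero_smul, add_zero] at h0
  exact ⟨(smul_eq_zero.1 h0).resolve_right h.ne, h3⟩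

section char2

variable [CharP k 2]

theorem cr_self0 (x : I27 → k) : cr x x = 0 := by
  rw [cr_self, CharTwo.two_eq_zero, zero_smul]

theorem ts_four {a b c d : I27 → k} (s1 : sh a = 0) (s2 : sh b = 0) (s3 : sh c = 0) (s4 : sh d = 0)
    (h12 : cr a b = 0) (h13 : cr a c = 0) (h14 : cr a d = 0) (h23 : cr b c = 0) (h24 : cr b d = 0)
    (h34 : cr c d = 0) : TS (Submodule.span k {a, b, c, d}) := by
  have h21 : cr b a = 0 := (cr_comm b a).trans h12
  have h31 : cr c a = 0 := (cr_comm c a).trans h13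
  have h41 : cr d a = 0 := (cr_comm d a).trans h14
  have h32 : cr c b = 0 := (cr_comm c b).trans h23
  have h42 : cr d b = 0 := (cr_comm d b).trans h24
  have h43 : cr d c = 0 := (cr_comm d c).trans h34
  have h11 : cr a a = 0 := cr_self0 a
  have h22 : cr b b = 0 := cr_self0 b
  have h33 : cr c c = 0 := cr_self0 c
  have h44 : cr d d = 0 := cr_self0 d
  refine ts_set (fun x hx => ?_) fun x hx y hy => ?_
  · simp only [Set.mem_insert_iff, Set.mem_singleton_iff] at hx
    rcases hx with hx | hx | hx | hx <;> rw [hx]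
    exacts [s1, s2, s3, s4]
  · simp only [Set.mem_insert_iff, Set.mem_singleton_iff] at hx hy
    rcases hx with hx | hx | hx | hx <;> rcases hy with hy | hy | hy | hy <;> rw [hx, hy]
    exacts [h11, h12, h13, h14, h21, h22, h23, h24, h31, h32, h33, h34, h41, h42, h43, h44]

theorem Two.cr_zero (hρ : Pair ρ ρ') (hnf : NoFx χ) {κ : K →+* k} {x y : I27 → k} (h : Two (rp ρ χ) κ x y) :
    cr x y = 0 := by
  refine hnf ρ' (pair_left hρ.swap) _ fun g => ?_
  have h20 : (2 : k) = 0 := CharTwo.two_eq_zero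
  have e0 : ρ (χ g) x = _ := h.act₀ g
  have e1 : ρ (χ g) y = _ := h.act₁ g
  rw [← pair_cr hρ, e0, e1, cr_add_left, cr_add_right, cr_add_right, cr_smul_left, cr_smul_left, cr_smul_left,
    cr_smul_left, cr_smul_right, cr_smul_right, cr_smul_right, cr_smul_right, cr_self0, cr_self0, smul_zero, smul_zero,
    smul_zero, smul_zero, zero_add, add_zero, cr_comm y x, smul_smul, smul_smul, ← add_smul]
  have e2 : κ (g.1 0 0) * κ (g.1 1 1) + κ (g.1 1 0) * κ (g.1 0 1) = 1 := by
    linear_combination kdet κ g + (κ (g.1 0 1) * κ (g.1 1 0)) * h20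
  rw [e2, one_smul]

theorem ka_succ (ι : K →+* k) (n : ℕ) (t : K) : ka ι (n + 1) t = ka ι n t ^ 2 := by
  rw [ka_apply, ka_apply, pow_succ, pow_mul]

/-- the image under `sh` -/
theorem Two.shr (hρ : Pair ρ ρ') (hnf : NoFx χ) {ι : K →+* k} {n : ℕ} {x y : I27 → k}
    (h : Two (rp ρ χ) (ka ι n) x y) (hx : sh x ≠ 0) : TTwo ρ' χ (ka ι (n + 1)) (sh x) (sh y) := by
  have hcr := h.cr_zero hρ hnf
  have hsm : ∀ a b : k, sh (a • x + b • y) = a ^ 2 • sh x + b ^ 2 • sh y := by
    intro a b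
    rw [sh_add, sh_smul, sh_smul, cr_smul_left, cr_smul_right, hcr, smul_zero, smul_zero, add_zero]
  have hxy := h.indep (α := cubicT x) (β := tf (sh x) y)
  have h1 := cr_sh_cr x y
  rw [hcr, cr_zero_right] at h1
  have h2 : tf (sh x) y = 0 ∧ cubicT x = 0 := h.indep (by rw [add_comm]; exact h1.symm)
  have h3 := cr_sh_cr y x
  rw [cr_comm y x, hcr, cr_zero_right] at h3
  have h4 : cubicT y = 0 ∧ tf (sh y) x = 0 := h.indep h3.symm
  refine ⟨⟨fun g => ?_, fun g => ?_, hx⟩, ?_, ?_, ?_⟩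
  · rw [rp_apply, ← pair_sh hρ, show ρ (χ g) x = _ from h.act₀ g, hsm, ka_succ, ka_succ]
  · rw [rp_apply, ← pair_sh hρ, show ρ (χ g) y = _ from h.act₁ g, hsm, ka_succ, ka_succ]
  · rw [sh_sh, h2.2, zero_smul]
  · rw [sh_sh, h4.1, zero_smul]
  · have h5 := sh_cr x y
    rw [hcr, sh_zero, zero_add, h2.1, tf_comm, h4.2, zero_smul, zero_smul, add_zero] at h5
    exact h5

/-- **`x, y` or `sh x, sh y` is totally singular** -/
theorem Two.ts_or (hρ : Pair ρ ρ') (hnf : NoFx χ) {ι : K →+* k} {n : ℕ} {x y : I27 → k}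
    (h : Two (rp ρ χ) (ka ι n) x y) : TTwo ρ χ (ka ι n) x y ∨ TTwo ρ' χ (ka ι (n + 1)) (sh x) (sh y) := by
  by_cases hx : sh x = 0
  · left
    refine ⟨h, hx, ?_, h.cr_zero hρ hnf⟩
    have h1 : y = ρ (χ (-w)) x := by
      have e1 : rp ρ χ (-w) x = _ := h.act₀ (-w)
      have e2 : ρ (χ (-w)) x = ka ι n ((-w : _root_.Matrix.SpecialLinearGroup (Fin 2) K).1 0 0) • x +
        ka ι n ((-w : _root_.Matrix.SpecialLinearGroup (Fin 2) K).1 1 0) • y := e1
      have e3 : (-w : _root_.Matrix.SpecialLinearGroup (Fin 2) K).1 0 0 = 0 := by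
        show -(0 : K) = 0
        rw [neg_zero]
      have e4 : (-w : _root_.Matrix.SpecialLinearGroup (Fin 2) K).1 1 0 = 1 := by
        show -(-1 : K) = 1
        rw [neg_neg]
      rw [e2, e3, e4, map_zero, map_one, zero_smul, one_smul, zero_add]
    rw [h1, pair_sh hρ, hx, map_zero]
  · exact Or.inr (h.shr hρ hnf hx)

end char2

theorem TTwo.ts {κ : K →+* k} {x y : I27 → k} (h : TTwo ρ χ κ x y) :
    ∀ w ∈ Submodule.span k {x, y}, sh w = 0 := by
  intro w hw
  obtain ⟨a, b, rfl⟩ := Submodule.mem_span_pair.1 hw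
  rw [sh_add, sh_smul, sh_smul, cr_smul_left, cr_smul_right, h.shx, h.shy, h.crxy]
  simp

/-- **the product of two totally singular twisted natural modules** -/
theorem TTwo.four (hρ : Pair ρ ρ') {κ κ' : K →+* k} {x y x' y' : I27 → k} (h : TTwo ρ χ κ x y)
    (h' : TTwo ρ χ κ' x' y') : Four (rp ρ' χ) κ κ' (cr x x') (cr x y') (cr y x') (cr y y') := by
  have e0 : ∀ g, ρ (χ g) x = _ := h.act₀
  have e1 : ∀ g, ρ (χ g) y = _ := h.act₁
  have e0' : ∀ g, ρ (χ g) x' = _ := h'.act₀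
  have e1' : ∀ g, ρ (χ g) y' = _ := h'.act₁
  refine ⟨fun g => ?_, fun g => ?_, fun g => ?_, fun g => ?_⟩
  · rw [rp_apply, ← pair_cr hρ, e0, e0', cr_add_left, cr_smul_left, cr_smul_left, cr_add_right, cr_add_right,
      cr_smul_right, cr_smul_right, cr_smul_right, cr_smul_right]
  · rw [rp_apply, ← pair_cr hρ, e0, e1', cr_add_left, cr_smul_left, cr_smul_left, cr_add_right, cr_add_right,
      cr_smul_right, cr_smul_right, cr_smul_right, cr_smul_right]
  · rw [rp_apply, ← pair_cr hρ, e1, e0', cr_add_left, cr_smul_left, cr_smul_left, cr_add_right, cr_add_right,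
      cr_smul_right, cr_smul_right, cr_smul_right, cr_smul_right]
  · rw [rp_apply, ← pair_cr hρ, e1, e1', cr_add_left, cr_smul_left, cr_smul_left, cr_add_right, cr_add_right,
      cr_smul_right, cr_smul_right, cr_smul_right, cr_smul_right]

/-- **it is totally singular** -/
theorem TTwo.four_ts [CharP k 2] (hρ : Pair ρ ρ') (hnf : NoFx χ) {κ κ' : K →+* k} {x y x' y' : I27 → k}
    (h : TTwo ρ χ κ x y) (h' : TTwo ρ χ κ' x' y') :
    TS (Submodule.span k {cr x x', cr x y', cr y x', cr y y'}) := by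
  have hF := h.four hρ h'
  -- the pure products are singular
  have hsh : ∀ a b : I27 → k, sh a = 0 → sh b = 0 → sh (cr a b) = 0 := by
    intro a b ha hb
    have h1 := sh_cr a b
    rw [ha, hb, cr_zero_right, tf_zero_left, tf_zero_right, zero_smul, zero_smul, add_zero, add_zero] at h1
    exact h1
  have hcc : ∀ a b c : I27 → k, sh a = 0 → cr b c = 0 → cr (cr a b) (cr a c) = 0 := by
    intro a b c ha hbc
    have h1 := cr_cr a b c
    rw [ha, hbc, cr_zero_left, tf_zero_left, tf_zero_left, tf_zero_right, zero_smul, zero_smul, zero_smul, add_zero,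
      add_zero, add_zero] at h1
    exact h1
  have s1 := hsh x x' h.shx h'.shx
  have s2 := hsh x y' h.shx h'.shy
  have s3 := hsh y x' h.shy h'.shx
  have s4 := hsh y y' h.shy h'.shy
  have c12 := hcc x x' y' h.shx h'.crxy
  have c34 := hcc y x' y' h.shy h'.crxy
  have c13 : cr (cr x x') (cr y x') = 0 := by
    rw [cr_comm x x', cr_comm y x']
    exact hcc x' x y h'.shx h.crxy
  have c24 : cr (cr x y') (cr y y') = 0 := by
    rw [cr_comm x y', cr_comm y y']
    exact hcc y' x y h'.shy h.crxy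
  have hxy : sh (x + y) = 0 := by rw [sh_add, h.shx, h.shy, h.crxy, add_zero, add_zero]
  have hxy' : sh (x' + y') = 0 := by rw [sh_add, h'.shx, h'.shy, h'.crxy, add_zero, add_zero]
  have c14 : cr (cr x x') (cr y y') + cr (cr x y') (cr y x') = 0 := by
    have h1 := hsh (x + y) (x' + y') hxy hxy'
    rw [cr_add_left, cr_add_right, cr_add_right, sh_add, sh_add, sh_add, cr_add_left, cr_add_right, cr_add_right,
      s1, s2, s3, s4, c12, c34, c13, c24] at h1
    simpa only [_root_.add_zero, _root_.zero_add] using h1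
  -- the remaining product is fixed
  have hβ : cr (cr x x') (cr y y') = 0 := by
    refine hnf ρ (pair_left hρ) _ fun g => ?_
    have c23 : cr (cr x y') (cr y x') = -cr (cr x x') (cr y y') := by
      rw [eq_neg_iff_add_eq_zero, add_comm]
      exact c14
    have d12 : cr (cr x y') (cr x x') = 0 := by rw [cr_comm, c12]
    have d13 : cr (cr y x') (cr x x') = 0 := by rw [cr_comm, c13]
    have d24 : cr (cr y y') (cr x y') = 0 := by rw [cr_comm, c24]
    have d34 : cr (cr y y') (cr y x') = 0 := by rw [cr_comm, c34]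
    have d14 : cr (cr y y') (cr x x') = cr (cr x x') (cr y y') := cr_comm _ _
    have d23 : cr (cr y x') (cr x y') = -cr (cr x x') (cr y y') := by rw [cr_comm, c23]
    have t1 : cr (cr x x') (cr x x') = 0 := cr_self0 _
    have t2 : cr (cr x y') (cr x y') = 0 := cr_self0 _
    have t3 : cr (cr y x') (cr y x') = 0 := cr_self0 _
    have t4 : cr (cr y y') (cr y y') = 0 := cr_self0 _
    rw [← pair_cr hρ.swap, show ρ' (χ g) (cr x x') = _ from hF.act₀ g, show ρ' (χ g) (cr y y') = _ from hF.act₃ g]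
    simp only [cr_add_left, cr_add_right, cr_smul_left, cr_smul_right, c12, c34, c13, c24, d12, d13, d24, d34, d14, d23,
      c23, t1, t2, t3, t4, smul_zero, add_zero, zero_add, smul_neg]
    have e1 := kdet κ g
    have e2 := kdet κ' g
    have e3 : (κ (g.1 0 0) * κ (g.1 1 1) - κ (g.1 0 1) * κ (g.1 1 0)) *
        (κ' (g.1 0 0) * κ' (g.1 1 1) - κ' (g.1 0 1) * κ' (g.1 1 0)) = 1 := by rw [e1, e2, mul_one]
    calc _ = ((κ (g.1 0 0) * κ (g.1 1 1) - κ (g.1 0 1) * κ (g.1 1 0)) *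
          (κ' (g.1 0 0) * κ' (g.1 1 1) - κ' (g.1 0 1) * κ' (g.1 1 0))) • cr (cr x x') (cr y y') := by module
      _ = _ := by rw [e3, one_smul]
  have hβ' : cr (cr x y') (cr y x') = 0 := by
    rw [hβ, zero_add] at c14
    exact c14
  exact ts_four s1 s2 s3 s4 c12 c13 hβ hβ' c24 c34

/-- the sum of two orthogonal totally singular twisted natural modules -/
theorem TTwo.sum_ts [CharP k 2] {κ κ' : K →+* k} {x y x' y' : I27 → k}
    (h : TTwo ρ χ κ x y) (h' : TTwo ρ χ κ' x' y') (h0 : cr x x' = 0 ∧ cr x y' = 0 ∧ cr y x' = 0 ∧ cr y y' = 0) :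
    TS (Submodule.span k {x, y, x', y'}) := by
  exact ts_four h.shx h.shy h'.shx h'.shy h.crxy h0.1 h0.2.1 h0.2.2.1 h0.2.2.2 h'.crxy

/-! ### multiplicities -/

section cf

variable [CharP k 2] [DecidableEq k] [Fintype K] [DecidableEq K] [CharP K 2] [IsAlgClosed k] (ι : K →+* k)

theorem cf_mono {V : Type v} [AddCommGroup V] [Module k V] [FiniteDimensional k V]
    {τ : Representation k (_root_.Matrix.SpecialLinearGroup (Fin 2) K) V} {W W' : Submodule k V} (h : W ≤ W') (hW : Stb τ W)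
    (hW' : Stb τ W') : cf (Sy.{u, v, w} ι 2) (subRep τ W hW) ≤ cf (Sy.{u, v, w} ι 2) (subRep τ W' hW') := by
  have h1 : ∀ g, ∀ x ∈ W.comap W'.subtype, subRep τ W' hW' g x ∈ W.comap W'.subtype := fun g x hx => hW g _ hx
  have h2 : Eqv (subRep (subRep τ W' hW') (W.comap W'.subtype) h1) (subRep τ W hW) :=
    ⟨Submodule.comapSubtypeEquivOfLe h, fun g x => Subtype.ext rfl⟩
  rw [← cf_iso _ h2]
  exact cf_sub_le _ _ _ _

/-- **duality** -/
theorem cf_pair (hρ : Pair ρ ρ') : cf (Sy.{u, u, w} ι 2) (rp ρ' χ) = cf (Sy.{u, u, w} ι 2) (rp ρ χ) :=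
  cf_dual ι 2 (B := tfB k) ⟨fun g x y => pair_tf hρ (χ g) x y, fun x hx => tf_nondeg hx, fun y hy =>
    tf_nondeg fun x => by rw [tf_comm]; exact hy x⟩

/-- **composition factors of totally singular 4-spaces** -/
theorem hull_cf (hper : commutator (_root_.Matrix.SpecialLinearGroup (Fin 2) K) = ⊤) (hρ : Pair ρ ρ') {Z : Submodule k (I27 → k)}
    (hZ : Stb (rp ρ χ) Z) (h4 : finrank k Z = 4) (hts : ∀ w ∈ Z, sh w = 0) :
    cf (Sy.{u, u, w} ι 2) (subRep (rp ρ χ) Z hZ) + cf (Sy.{u, u, w} ι 2) (subRep (rp ρ χ) Z hZ) ≤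
      cf (Sy.{u, u, w} ι 2) (rp ρ χ) := by
  obtain ⟨Y, n, n', hZY, H⟩ := exists_hull_four hper χ hρ (W := Z) (fun a w hw => hZ a w hw) h4 hts
  obtain ⟨hk, hr, e1, -⟩ := cf_exact (Sy.{u, u, w} ι 2) (rp ρ χ) (rp ρ χ) n (fun g x => (H.comm g x).symm)
  rw [e1]
  have hrn : LinearMap.range n = Y := H.range
  have hZr : Z ≤ LinearMap.range n := by rw [hrn]; exact hZY
  have hrk : LinearMap.range n ≤ LinearMap.ker n := by
    rintro _ ⟨x, rfl⟩
    exact H.sq x
  exact add_le_add (cf_mono ι (hZr.trans hrk) hZ hk) (cf_mono ι hZr hZ hr)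

theorem count_of_isV {τ : Representation k (_root_.Matrix.SpecialLinearGroup (Fin 2) K) (I27 → k)} {W : Submodule k (I27 → k)}
    (hW : Stb τ W) {b : ℕ} (h : IsV ι 2 (subRep τ W hW) b) :
    cf (Sy.{u, u, w} ι 2) (subRep τ W hW) = {b} := cf_irr (Sy.{u, u, w} ι 2) h

end cf

end Cfsg.Agent.R2.H6P2
end

-- part: R2/H6P2/Min
section
/-!
# S5749, S5750, box P2: there is a submodule of dimension 2 (helper6)

`exists_two` : `V` or `V'` has an irreducible submodule of dimension 2.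
-/

set_option autoImplicit false
set_option linter.unusedSectionVars false

namespace Cfsg.Agent.R2.H6P2

open Module Matrix
open Cfsg.Lie
open Cfsg.Agent.ChevalleyStructure.E6Min.Basic (Zgrp)
open Cfsg.Agent.H943.SL2Rel Cfsg.Agent.H943.SL2Mod Cfsg.Agent.H943.RepAdd
open Cfsg.Agent.R2.H28.SL2 Cfsg.Agent.R2.SL2 Cfsg.Agent.R2.GEO
open Cfsg.Agent.H952.F4 (sh cr tf)
open Cfsg.Agent.H952.F4.Jord
open Cfsg.Agent.H163.E6 (V V' TS)
open Cfsg.Agent.H905.E6T (sh_zero cr_zero_left cr_zero_right tf_zero_right ts_span)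

universe u v w

variable {k : Type u} [Field k] {K : Type w} [Field K]
variable {ρ ρ' : Representation k ↥(Zgrp k) (I27 → k)} {χ : _root_.Matrix.SpecialLinearGroup (Fin 2) K →* ↥(Zgrp k)}

/-- the subspace spanned by the `sh w` is totally singular, if `cr = 0` on `W` -/
theorem shW_ts {W : Submodule k (I27 → k)} (h2 : 2 ≤ finrank k W) (hcr : ∀ x ∈ W, ∀ y ∈ W, cr x y = 0) :
    TS (Submodule.span k (sh '' (W : Set (I27 → k)))) := by
  have h1 : ∀ x ∈ W, ∀ y ∈ W, cubicT x • y = (-tf (sh x) y) • x := by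
    intro x hx y hy
    have h2 := cr_sh_cr x y
    rw [hcr x hx y hy, cr_zero_right] at h2
    rw [neg_smul, eq_neg_iff_add_eq_zero, ← h2]
  have hN : ∀ x ∈ W, cubicT x = 0 := by
    intro x hx
    by_contra h0
    have := Cfsg.Agent.H65.SixA.le_one h0 fun y hy => ⟨_, h1 x hx y hy⟩
    omega
  have hT : ∀ x ∈ W, ∀ y ∈ W, tf (sh x) y = 0 := by
    intro x hx y hy
    by_cases h0 : x = 0
    · rw [h0, sh_zero, GEO.tf_zero_left]
    · have h2 := h1 x hx y hy
      rw [hN x hx, zero_smul, eq_comm, smul_eq_zero] at h2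
      exact neg_eq_zero.1 (h2.resolve_right h0)
  refine ts_set ?_ ?_
  · rintro _ ⟨x, hx, rfl⟩
    rw [sh_sh, hN x hx, zero_smul]
  · rintro _ ⟨x, hx, rfl⟩ _ ⟨y, hy, rfl⟩
    have h2 := sh_cr x y
    rw [hcr x hx y hy, sh_zero, zero_add, hT x hx y hy, tf_comm, hT y hy x hx, zero_smul, zero_smul, add_zero] at h2
    exact h2

/-- its dimension is at most that of `W` -/
theorem finrank_shW_le {W : Submodule k (I27 → k)} (hcr : ∀ x ∈ W, ∀ y ∈ W, cr x y = 0) :
    finrank k (Submodule.span k (sh '' (W : Set (I27 → k)))) ≤ finrank k W := by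
  let b := Module.finBasis k W
  have h1 : Submodule.span k (sh '' (W : Set (I27 → k))) ≤
      Submodule.span k (Set.range fun i => sh ((b i : W) : I27 → k)) := by
    rw [Submodule.span_le]
    rintro _ ⟨x, hx, rfl⟩
    have e1 : ∀ (s : Finset (Fin (finrank k W))) (c : Fin (finrank k W) → k),
        sh ((∑ i ∈ s, c i • b i : W) : I27 → k) ∈ Submodule.span k (Set.range fun i => sh ((b i : W) : I27 → k)) := by
      intro s c
      induction s using Finset.induction_on with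
      | empty =>
        rw [Finset.sum_empty]
        show sh (0 : I27 → k) ∈ _
        rw [sh_zero]
        exact Submodule.zero_mem _
      | insert i s his ih =>
        rw [Finset.sum_insert his, Submodule.coe_add, sh_add, hcr _ (Subtype.coe_prop _) _ (Subtype.coe_prop _), add_zero,
          Submodule.coe_smul, sh_smul]
        exact Submodule.add_mem _ (Submodule.smul_mem _ _ (Submodule.subset_span ⟨i, rfl⟩)) ih
    have e2 := e1 Finset.univ (b.repr ⟨x, hx⟩)
    rwa [b.sum_repr] at e2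
  refine (Submodule.finrank_mono h1).trans ?_
  have h2 := finrank_range_le_card (R := k) (fun i => sh ((b i : W) : I27 → k))
  rw [Fintype.card_fin] at h2
  exact h2

theorem stb_shW (hρ : Pair ρ ρ') {W : Submodule k (I27 → k)} (hW : Stb (rp ρ χ) W) :
    Stb (rp ρ' χ) (Submodule.span k (sh '' (W : Set (I27 → k)))) := by
  refine stb_span fun g x hx => ?_
  obtain ⟨y, hy, rfl⟩ := hx
  exact Submodule.subset_span ⟨_, hW g y hy, pair_sh hρ (χ g) y⟩

variable [CharP k 2] [DecidableEq k] [Fintype K] [DecidableEq K] [CharP K 2] [IsAlgClosed k] (ι : K →+* k)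

include ι

/-- `1`-dimensional submodules -/
theorem no_one (hnf : NoFx χ) (hρ : ρ = V k ∨ ρ = V' k)
    {W : Submodule k (I27 → k)} (hW : Stb (rp ρ χ) W) : finrank k W ≠ 1 := by
  intro h1
  have hI : Irrd (subRep (rp ρ χ) W hW) := by
    refine ⟨nontrivial_of_finrank_pos (R := k) (by omega), fun U _ => ?_⟩
    have h2 := Submodule.finrank_le U
    have h3 : finrank k U = 0 ∨ finrank k U = 1 := by omega
    rcases h3 with h3 | h3
    · exact Or.inl (Submodule.finrank_eq_zero.1 h3)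
    · exact Or.inr (Submodule.eq_top_of_finrank_eq (by rw [h3, h1]))
  obtain ⟨b, hb⟩ := (Sy ι 2).ex _ hI
  obtain ⟨l, hl, -, hq, hd, φ, hφ⟩ := exists_iso_FS ι hb
  have hl0 : l = [] := by
    rw [h1] at hd
    by_contra hne
    have h3 : l.length ≠ 0 := fun h => hne (List.length_eq_zero_iff.1 h)
    have h4 : 2 ^ 1 ≤ 2 ^ l.length := Nat.pow_le_pow_right (by norm_num) (by omega)
    omega
  subst hl0
  have h5 : ∀ g, fs ι [] g (on1 ι) = on1 ι := fun g => Subtype.ext rfl
  have h6 : (φ (on1 ι) : I27 → k) = 0 := by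
    refine hnf ρ hρ _ fun g => ?_
    have h7 := hφ g (on1 ι)
    rw [h5] at h7
    exact (congrArg Subtype.val h7).symm
  have h8 : on1 ι = 0 := φ.map_eq_zero_iff.1 (Subtype.ext h6)
  have h9 := congrArg (co1 ι) h8
  rw [co1_on1, map_zero] at h9
  exact one_ne_zero h9

/-- **existence of a submodule of dimension 2** -/
theorem exists_two {a : ℕ} (hK : Fintype.card K = 2 ^ a) (hper : commutator (_root_.Matrix.SpecialLinearGroup (Fin 2) K) = ⊤)
    (hnf : NoFx χ) : ∃ ρ₀ : Representation k ↥(Zgrp k) (I27 → k), (ρ₀ = V k ∨ ρ₀ = V' k) ∧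
      ∃ n < a, ∃ x y, Two (rp ρ₀ χ) (ka ι n) x y := by
  classical
  have h27 : finrank k (I27 → k) = 27 := by rw [finrank_fintype_fun_eq_card]; rfl
  -- the minimal dimension
  let P : ℕ → Prop := fun d => ∃ ρ₀ : Representation k ↥(Zgrp k) (I27 → k), (ρ₀ = V k ∨ ρ₀ = V' k) ∧
    ∃ W : Submodule k (I27 → k), Stb (rp ρ₀ χ) W ∧ W ≠ ⊥ ∧ finrank k W = d
  have hP : ∃ d, P d := by
    refine ⟨27, V k, Or.inl rfl, ⊤, fun _ _ _ => trivial, fun h => ?_, by rw [finrank_top, h27]⟩
    have h1 := finrank_top k (I27 → k)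
    rw [h, finrank_bot, h27] at h1
    omega
  obtain ⟨ρ₀, hρ₀, W, hW, hW0, hd⟩ := Nat.find_spec hP
  have hmin : ∀ ρ₁ : Representation k ↥(Zgrp k) (I27 → k), (ρ₁ = V k ∨ ρ₁ = V' k) →
      ∀ U : Submodule k (I27 → k), Stb (rp ρ₁ χ) U → finrank k U < Nat.find hP → U = ⊥ := by
    intro ρ₁ hρ₁ U hU hlt
    by_contra hU0
    exact Nat.find_min hP hlt ⟨ρ₁, hρ₁, U, hU, hU0, rfl⟩
  obtain ⟨ρ₁, hp⟩ := exists_pair hρ₀
  have hI : Irrd (subRep (rp ρ₀ χ) W hW) := by
    refine irr_of_min (rp ρ₀ χ) hW hW0 fun U hUW hU => ?_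
    by_cases hU0 : U = ⊥
    · exact Or.inl hU0
    · right
      refine Submodule.eq_of_le_of_finrank_le hUW ?_
      by_contra hlt
      exact hU0 (hmin ρ₀ hρ₀ U hU (by omega))
  obtain ⟨hA, n, hn⟩ := altZ_irr.{u, u, w} ι hI
  have hpos : 0 < finrank k W := Nat.pos_of_ne_zero fun h => hW0 (Submodule.finrank_eq_zero.1 h)
  have hne1 := no_one ι hnf hρ₀ hW
  by_cases h2 : finrank k W = 2
  · obtain ⟨b, hb⟩ := (Sy ι 2).ex _ hI
    obtain ⟨n, hna, -, x, y, hxy, -⟩ := two_of_isV ι hK hb h2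
    refine ⟨ρ₀, hρ₀, n, hna, x, y, ⟨fun g => ?_, fun g => ?_, fun h => hxy.ne (Subtype.ext h)⟩⟩
    · exact congrArg Subtype.val (hxy.act₀ g)
    · exact congrArg Subtype.val (hxy.act₁ g)
  exfalso
  have h4 : 4 ≤ finrank k W := by
    have e1 : n ≠ 0 := by
      rintro rfl
      exact hne1 hn
    have e2 : n ≠ 1 := by
      rintro rfl
      exact h2 hn
    have e3 : 2 ^ 2 ≤ 2 ^ n := Nat.pow_le_pow_right (by norm_num) (by omega)
    omega
  have hcr : ∀ x ∈ W, ∀ y ∈ W, cr x y = 0 := by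
    have h5 := hA (I27 → k) (rp ρ₁ χ) (fun U hU hlt => hmin ρ₁ (pair_left hp.swap) U hU (by omega))
      ((crB k).compl₁₂ W.subtype W.subtype) (fun x => cr_self0 _) (fun g x y => pair_cr hp (χ g) _ _)
    intro x hx y hy
    exact h5 ⟨x, hx⟩ ⟨y, hy⟩
  -- a totally singular submodule of the same dimension
  obtain ⟨ρ₂, ρ₃, hp2, U, hU, hUd, hUts⟩ : ∃ ρ₂ ρ₃ : Representation k ↥(Zgrp k) (I27 → k), Pair ρ₂ ρ₃ ∧
      ∃ U : Submodule k (I27 → k), Stb (rp ρ₂ χ) U ∧ finrank k U = finrank k W ∧ ∀ w ∈ U, sh w = 0 := by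
    by_cases hs : ∀ w ∈ W, sh w = 0
    · exact ⟨ρ₀, ρ₁, hp, W, hW, rfl, hs⟩
    · refine ⟨ρ₁, ρ₀, hp.swap, _, stb_shW hp hW, le_antisymm (finrank_shW_le hcr) ?_, (shW_ts (by omega) hcr).1⟩
      by_contra hlt
      have h6 := hmin ρ₁ (pair_left hp.swap) _ (stb_shW hp hW) (by omega)
      apply hs
      intro w hw
      have h7 : sh w ∈ Submodule.span k (sh '' (W : Set (I27 → k))) := Submodule.subset_span ⟨w, hw, rfl⟩
      rw [h6, Submodule.mem_bot] at h7
      exact h7
  have h6 := finrank_le_six hUts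
  have h44 : finrank k W = 4 := by
    have e1 : n < 3 := by
      by_contra hcon
      have e2 : 2 ^ 3 ≤ 2 ^ n := Nat.pow_le_pow_right (by norm_num) (by omega)
      omega
    have e2 : n = 2 := by
      interval_cases n
      · omega
      · omega
      · rfl
    rw [hn, e2]
    norm_num
  obtain ⟨U', hU'd, hU'⟩ := exists_sub_four hper χ hp2 (fun a w hw => hU a w hw) (by rw [hUd, h44]) hUts
  have h7 := hmin ρ₃ (pair_left hp2.swap) U' (fun g w hw => hU' g w hw) (by omega)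
  rw [h7, finrank_bot] at hU'd
  omega

end Cfsg.Agent.R2.H6P2
end

-- part: R2/H6P2/Frame
section
/-!
# S5749, S5750, box P2: the Frobenius map over an algebraically closed field (helper6)

`fr m` : `x ↦ x ^ 2 ^ m`, `Ph m` : the same on vectors; `chi f ψ : SL₂(K) →* Zgrp k`.
* `Two.ph` : the image of a twisted natural module under the Frobenius map;
* `exists_ph` : it can be chosen fixed by the `r`-th power of the Frobenius map;
* `rat_ts` : no stable totally singular subspaces of dimension 4 or 6 which are stable under the Frobenius map.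
-/

set_option autoImplicit false
set_option linter.unusedSectionVars false

namespace Cfsg.Agent.R2.H6P2

open Module Matrix
open Cfsg.Lie
open Cfsg.Agent.ChevalleyStructure.E6Min.Basic (Zgrp)
open Cfsg.Agent.H943.SL2Rel Cfsg.Agent.H943.SL2Mod Cfsg.Agent.H943.RepAdd
open Cfsg.Agent.R2.H28.SL2 Cfsg.Agent.R2.SL2 Cfsg.Agent.R2.GEO
open Cfsg.Agent.H952.F4 (sh cr tf)
open Cfsg.Agent.H952.F4.Jord
open Cfsg.Agent.H163.E6 (V V' TS)
open Cfsg.Agent.H65.E6Emb
open Cfsg.Agent.R2.H9.E6 (Setup pq pq_surjective)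

universe u v w x

variable {k : Type u} [Field k] [CharP k 2]

/-- powers of the Frobenius endomorphism -/
noncomputable def fr (m : ℕ) : k →+* k := iterateFrobenius k 2 m

theorem fr_apply (m : ℕ) (x : k) : fr m x = x ^ 2 ^ m := iterateFrobenius_def _ _ _

/-- the Frobenius map on vectors -/
noncomputable def Ph (m : ℕ) (v : I27 → k) : I27 → k := fun i => fr m (v i)

theorem Ph_add (m : ℕ) (v w : I27 → k) : Ph m (v + w) = Ph m v + Ph m w := by
  funext i
  exact map_add _ _ _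

theorem Ph_smul (m : ℕ) (c : k) (v : I27 → k) : Ph m (c • v) = fr m c • Ph m v := by
  funext i
  exact map_mul _ _ _

theorem Ph_zero (m : ℕ) : Ph m (0 : I27 → k) = 0 := by
  funext i
  exact map_zero _

theorem Ph_inj {m : ℕ} {v w : I27 → k} (h : Ph m v = Ph m w) : v = w := by
  funext i
  exact (fr m).injective (congrFun h i)

theorem Ph_eq_zero {m : ℕ} {v : I27 → k} : Ph m v = 0 ↔ v = 0 :=
  ⟨fun h => Ph_inj (h.trans (Ph_zero m).symm), fun h => by rw [h, Ph_zero]⟩

theorem Ph_sh (m : ℕ) (v : I27 → k) : sh (Ph m v) = Ph m (sh v) := sh_map (fr m) v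

theorem Ph_cr (m : ℕ) (v w : I27 → k) : cr (Ph m v) (Ph m w) = Ph m (cr v w) := cr_map (fr m) v w

theorem Ph_comp (m n : ℕ) (v : I27 → k) : Ph m (Ph n v) = Ph (m + n) v := by
  funext i
  show fr m (fr n (v i)) = fr (m + n) (v i)
  rw [fr_apply, fr_apply, fr_apply, ← pow_mul, ← pow_add, add_comm]

theorem Ph_rho {ρ : Representation k ↥(Zgrp k) (I27 → k)} (hρ : ρ = V k ∨ ρ = V' k) (m : ℕ) (g : ↥(Zgrp k))
    (v : I27 → k) : Ph m (ρ g v) = ρ (emb (fr m) g) (Ph m v) := by
  rcases hρ with rfl | rfl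
  · exact (V_emb (fr m) g v).symm
  · exact (V'_emb (fr m) g v).symm

theorem span_Ph {m : ℕ} {S : Set (I27 → k)} (h : ∀ v ∈ S, Ph m v ∈ Submodule.span k S) :
    ∀ v ∈ Submodule.span k S, Ph m v ∈ Submodule.span k S := by
  intro v hv
  induction hv using Submodule.span_induction with
  | mem x hx => exact h x hx
  | zero => rw [Ph_zero]; exact Submodule.zero_mem _
  | add x y _ _ hx hy => rw [Ph_add]; exact Submodule.add_mem _ hx hy
  | smul c x _ hx => rw [Ph_smul]; exact Submodule.smul_mem _ _ hx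

variable {K : Type w} [Field K] {F : Type v} [Field F] (f : F →+* k)

/-- the homomorphism `SL₂(K) →* Zgrp k` -/
noncomputable def chi (ψ : ProjectiveSpecialLinearGroup (Fin 2) K →* ↥(Zgrp F)) :
    _root_.Matrix.SpecialLinearGroup (Fin 2) K →* ↥(Zgrp k) := (emb f).comp (ψ.comp pq)

theorem chi_apply (ψ : ProjectiveSpecialLinearGroup (Fin 2) K →* ↥(Zgrp F)) (g : _root_.Matrix.SpecialLinearGroup (Fin 2) K) :
    chi f ψ g = emb f (ψ (pq g)) := rfl

section frob

variable [Fintype F] {e : ℕ} (hF : Fintype.card F = 2 ^ e)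

include hF

theorem fr_f (j : ℕ) (c : F) : fr (e * j) (f c) = f c := by
  rw [fr_apply, ← map_pow, pow_mul, ← hF, FiniteField.pow_card_pow]

theorem emb_fr (j : ℕ) (g : ↥(Zgrp F)) : emb (fr (e * j)) (emb f g) = emb f g := by
  rw [emb_emb]
  have h1 : (fr (e * j)).comp f = f := by
    ext c
    exact fr_f f hF j c
  rw [h1]

theorem Ph_emb {ρ : Representation k ↥(Zgrp k) (I27 → k)} (hρ : ρ = V k ∨ ρ = V' k) (j : ℕ) (g : ↥(Zgrp F))
    (v : I27 → k) : Ph (e * j) (ρ (emb f g) v) = ρ (emb f g) (Ph (e * j) v) := by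
  rw [Ph_rho hρ, emb_fr f hF]

variable {ψ : ProjectiveSpecialLinearGroup (Fin 2) K →* ↥(Zgrp F)}
  {ρ ρ' : Representation k ↥(Zgrp k) (I27 → k)} {ι : K →+* k}

theorem Two.ph (hρ : ρ = V k ∨ ρ = V' k) {n : ℕ} {x y : I27 → k} (h : Two (rp ρ (chi f ψ)) (ka ι n) x y) (j : ℕ) :
    Two (rp ρ (chi f ψ)) (ka ι (n + e * j)) (Ph (e * j) x) (Ph (e * j) y) := by
  have hk : ∀ t, ka ι (n + e * j) t = fr (e * j) (ka ι n t) := fun t => by
    rw [ka_apply, fr_apply, ka_apply, ← pow_mul, ← pow_add]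
  refine ⟨fun g => ?_, fun g => ?_, fun h0 => h.ne (Ph_eq_zero.1 h0)⟩
  · have h1 : ρ (emb f (ψ (pq g))) x = _ := h.act₀ g
    rw [rp_apply, chi_apply, ← Ph_emb f hF hρ, h1, Ph_add, Ph_smul, Ph_smul, hk, hk]
  · have h1 : ρ (emb f (ψ (pq g))) y = _ := h.act₁ g
    rw [rp_apply, chi_apply, ← Ph_emb f hF hρ, h1, Ph_add, Ph_smul, Ph_smul, hk, hk]

theorem TTwo.ph (hρ : ρ = V k ∨ ρ = V' k) {n : ℕ} {x y : I27 → k} (h : TTwo ρ (chi f ψ) (ka ι n) x y) (j : ℕ) :
    TTwo ρ (chi f ψ) (ka ι (n + e * j)) (Ph (e * j) x) (Ph (e * j) y) :=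
  ⟨h.toTwo.ph f hF hρ j, by rw [Ph_sh, h.shx, Ph_zero], by rw [Ph_sh, h.shy, Ph_zero],
    by rw [Ph_cr, h.crxy, Ph_zero]⟩

/-- **choice of a module fixed by a power of the Frobenius map** -/
theorem exists_ph (hρ : ρ = V k ∨ ρ = V' k) {n r : ℕ} {x y : I27 → k} (h : Two (rp ρ (chi f ψ)) (ka ι n) x y)
    (hr : ka ι (n + e * r) = ka ι n) : ∃ x' y', Two (rp ρ (chi f ψ)) (ka ι n) x' y' ∧ Ph (e * r) x' = x' ∧
      Ph (e * r) y' = y' := by
  let U : Submodule k (I27 × Fin 2 → k) :=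
    { carrier := {z | (∀ g : _root_.Matrix.SpecialLinearGroup (Fin 2) K, rp ρ (chi f ψ) g (fun i => z (i, 0)) =
          ka ι n (g.1 0 0) • (fun i => z (i, 0)) + ka ι n (g.1 1 0) • fun i => z (i, 1)) ∧
        ∀ g : _root_.Matrix.SpecialLinearGroup (Fin 2) K, rp ρ (chi f ψ) g (fun i => z (i, 1)) =
          ka ι n (g.1 0 1) • (fun i => z (i, 0)) + ka ι n (g.1 1 1) • fun i => z (i, 1)}
      add_mem' := by
        rintro z z' ⟨h1, h2⟩ ⟨h1', h2'⟩
        have e0 : ∀ l : Fin 2, (fun i => (z + z') (i, l)) = (fun i => z (i, l)) + fun i => z' (i, l) := fun l => rfl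
        refine ⟨fun g => ?_, fun g => ?_⟩
        · rw [e0, e0, map_add, h1, h1']
          module
        · rw [e0, e0, map_add, h2, h2']
          module
      zero_mem' := by
        have e0 : ∀ l : Fin 2, (fun i => (0 : I27 × Fin 2 → k) (i, l)) = (0 : I27 → k) := fun l => rfl
        refine ⟨fun g => ?_, fun g => ?_⟩
        · rw [e0, e0, map_zero, smul_zero, smul_zero, add_zero]
        · rw [e0, e0, map_zero, smul_zero, smul_zero, add_zero]
      smul_mem' := by
        rintro c z ⟨h1, h2⟩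
        have e0 : ∀ l : Fin 2, (fun i => (c • z) (i, l)) = c • fun i => z (i, l) := fun l => rfl
        refine ⟨fun g => ?_, fun g => ?_⟩
        · rw [e0, e0, map_smul, h1]
          module
        · rw [e0, e0, map_smul, h2]
          module }
  have hk : ∀ t, ka ι n t = fr (e * r) (ka ι n t) := fun t => by
    have h1 : ka ι (n + e * r) t = fr (e * r) (ka ι n t) := by
      rw [ka_apply, fr_apply, ka_apply, ← pow_mul, ← pow_add]
    rw [← h1, hr]
  have hU : ∀ u ∈ U, (fun i => fr (e * r) (u i)) ∈ U := by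
    rintro z ⟨h1, h2⟩
    refine ⟨fun g => ?_, fun g => ?_⟩
    · have e1 : ρ (emb f (ψ (pq g))) (fun i => z (i, 0)) = _ := h1 g
      show ρ (emb f (ψ (pq g))) (Ph (e * r) (fun i => z (i, 0))) =
        ka ι n (g.1 0 0) • Ph (e * r) (fun i => z (i, 0)) + ka ι n (g.1 1 0) • Ph (e * r) (fun i => z (i, 1))
      rw [← Ph_emb f hF hρ, e1, Ph_add, Ph_smul, Ph_smul, ← hk, ← hk]
    · have e1 : ρ (emb f (ψ (pq g))) (fun i => z (i, 1)) = _ := h2 g
      show ρ (emb f (ψ (pq g))) (Ph (e * r) (fun i => z (i, 1))) =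
        ka ι n (g.1 0 1) • Ph (e * r) (fun i => z (i, 0)) + ka ι n (g.1 1 1) • Ph (e * r) (fun i => z (i, 1))
      rw [← Ph_emb f hF hρ, e1, Ph_add, Ph_smul, Ph_smul, ← hk, ← hk]
  have hU0 : U ≠ ⊥ := by
    intro h0
    let z : I27 × Fin 2 → k := fun p => if p.2 = 0 then x p.1 else y p.1
    have e0 : (fun i => z (i, 0)) = x := rfl
    have e1 : (fun i => z (i, 1)) = y := rfl
    have hz : z ∈ U := ⟨fun g => by rw [e0, e1]; exact h.act₀ g, fun g => by rw [e0, e1]; exact h.act₁ g⟩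
    rw [h0, Submodule.mem_bot] at hz
    apply h.ne
    rw [← e0, hz]
    rfl
  obtain ⟨z, ⟨hz1, hz2⟩, hz0, hzf⟩ := exists_fixed (fr (e * r)) hU hU0
  refine ⟨fun i => z (i, 0), fun i => z (i, 1), ⟨hz1, hz2, fun h0 => hz0 ?_⟩, ?_, ?_⟩
  · have h1 := hz1 w
    have h2 : ka ι n ((w : _root_.Matrix.SpecialLinearGroup (Fin 2) K).1 1 0) = -1 := by
      show ka ι n (-1) = -1
      rw [map_neg, map_one]
    rw [h0, map_zero, smul_zero, zero_add, h2, neg_one_smul, eq_comm, neg_eq_zero] at h1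
    funext p
    obtain ⟨i, l⟩ := p
    fin_cases l
    · exact congrFun h0 i
    · exact congrFun h1 i
  · funext i
    exact congrFun hzf (i, 0)
  · funext i
    exact congrFun hzf (i, 1)

/-- **descent of stable totally singular subspaces** -/
theorem rat_ts {Γ M : Subgroup ↥(Zgrp F)} (hS : Setup Γ M ψ) (hρ : ρ = V k ∨ ρ = V' k) {U : Submodule k (I27 → k)}
    (hU : Stb (rp ρ (chi f ψ)) U) (hfix : ∀ u ∈ U, Ph e u ∈ U) (hts : ∀ w ∈ U, sh w = 0)
    (hd : finrank k U = 4 ∨ finrank k U = 6) : False := by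
  obtain ⟨W, hW⟩ := exists_ext (fr e) f (U := U) (fun x hx => mem_range_of_pow f (by rw [hF, ← fr_apply, hx])) hfix
  obtain ⟨ρ₀, hρ₀, hcomp⟩ : ∃ ρ₀ : Representation F ↥(Zgrp F) (I27 → F), (ρ₀ = V F ∨ ρ₀ = V' F) ∧
      ∀ g x, ρ (emb f g) (fun i => f (x i)) = fun i => f (ρ₀ g x i) := by
    rcases hρ with rfl | rfl
    · exact ⟨V F, Or.inl rfl, V_emb f⟩
    · exact ⟨V' F, Or.inr rfl, V'_emb f⟩
  have hWs : ∀ a, ∀ w ∈ W, ρ₀ (ψ a) w ∈ W := by
    intro a w hw
    obtain ⟨g, rfl⟩ := pq_surjective a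
    rw [← mem_ext_iff (f := f), hW, ← hcomp]
    exact hU g _ (by rw [← hW]; exact mem_ext_of_mem hw)
  have hWts : ∀ w ∈ W, sh w = 0 := by
    intro w hw
    have h1 : sh (fun i => f (w i)) = 0 := hts _ (by rw [← hW]; exact mem_ext_of_mem hw)
    rw [sh_map] at h1
    funext i
    have h2 := congrFun h1 i
    exact (map_eq_zero f).1 h2
  have hWd : finrank F W = finrank k U := by rw [← hW, finrank_ext]
  have h6 : ∀ Y : Submodule F (I27 → F), (∀ a, ∀ w ∈ Y, ρ₀ (ψ a) w ∈ Y) → finrank F Y = 6 →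
      (∀ w ∈ Y, sh w = 0) → False := fun Y hY hYd hYts =>
    hS.no_six hρ₀ hY hYd (Cfsg.Agent.H65.SixA.cr_of_sh hYts)
  rcases hd with hd | hd
  · obtain ⟨ρ₁, hp⟩ := exists_pair hρ₀
    obtain ⟨Y, n, n', -, H⟩ := exists_hull_four hS.perf ψ hp hWs (by rw [hWd, hd]) hWts
    exact h6 Y H.stab H.dim H.ts
  · exact h6 W hWs (by rw [hWd, hd]) hWts

omit [CharP k 2] hF [Fintype F] in
/-- no fixed vectors over the extension field -/
theorem noFx {Γ M : Subgroup ↥(Zgrp F)} (_hS : Setup Γ M ψ)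
    (hfix : ∀ ρ : Representation F ↥(Zgrp F) (I27 → F), (ρ = V F ∨ ρ = V' F) → ∀ v, (∀ x, ρ (ψ x) v = v) → v = 0) :
    NoFx (chi f ψ) := by
  intro ρ hρ v hv
  rcases hρ with rfl | rfl
  · have h1 := ext_inv_V (f := f) ψ
    have h2 : Representation.invariants (MonoidHom.comp (V F) ψ) = ⊥ := by
      rw [eq_bot_iff]
      intro z hz
      exact (Submodule.mem_bot F).2 (hfix _ (Or.inl rfl) z ((Representation.mem_invariants _ _).1 hz))
    rw [h2, ext_bot] at h1
    have h3 : v ∈ Representation.invariants (MonoidHom.comp (V k) ((emb f).comp ψ)) := by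
      rw [Representation.mem_invariants]
      intro a
      obtain ⟨g, rfl⟩ := pq_surjective a
      exact hv g
    rw [← h1] at h3
    exact (Submodule.mem_bot k).1 h3
  · have h1 := ext_inv_V' (f := f) ψ
    have h2 : Representation.invariants (MonoidHom.comp (V' F) ψ) = ⊥ := by
      rw [eq_bot_iff]
      intro z hz
      exact (Submodule.mem_bot F).2 (hfix _ (Or.inr rfl) z ((Representation.mem_invariants _ _).1 hz))
    rw [h2, ext_bot] at h1
    have h3 : v ∈ Representation.invariants (MonoidHom.comp (V' k) ((emb f).comp ψ)) := by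
      rw [Representation.mem_invariants]
      intro a
      obtain ⟨g, rfl⟩ := pq_surjective a
      exact hv g
    rw [← h1] at h3
    exact (Submodule.mem_bot k).1 h3

end frob

end Cfsg.Agent.R2.H6P2
end

-- part: R2/H6P2/Cnt
section
/-!
# S5749, S5750, box P2: counting composition factors (helper6)

`finrank_eq_cf`, `sum_le` : the dimension as a sum over the labels; `card_one`, `card_two` : the dimensions of the modules
with the labels `2^n`, `2^n + 2^m`; `N_iff` : the orbits of `n ↦ n + e` modulo `a`.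
-/

set_option autoImplicit false
set_option linter.unusedSectionVars false

namespace Cfsg.Agent.R2.H6P2

open Module Matrix
open Cfsg.Agent.H943.SL2Rel Cfsg.Agent.H943.SL2Mod Cfsg.Agent.H943.RepAdd
open Cfsg.Agent.R2.H28.SL2 Cfsg.Agent.R2.SL2

universe u v w

section cf

variable {k : Type u} [Field k] [CharP k 2] [DecidableEq k] [IsAlgClosed k] {K : Type w} [Field K] [Fintype K]
  [DecidableEq K] [CharP K 2] (ι : K →+* k)
variable {V : Type v} [AddCommGroup V] [Module k V] [FiniteDimensional k V]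

/-- the dimension as a sum over the composition factors -/
theorem finrank_eq_cf {a : ℕ} (hK : Fintype.card K = 2 ^ a) (τ : Representation k (_root_.Matrix.SpecialLinearGroup (Fin 2) K) V) :
    finrank k V = ((cf (Sy.{u, v, w} ι 2) τ).map fun b => (Bp 2 b).card).sum := by
  have h1 := isMult_cf.{u, v, w} ι 2 hK τ
  rw [h1.dim, Finset.sum_multiset_map_count]
  symm
  refine Finset.sum_subset_zero_on_sdiff (fun b hb => ?_) (fun b hb => ?_) (fun b _ => ?_)
  · rw [Multiset.mem_toFinset] at hb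
    exact Finset.mem_range.2 (h1.supp b (Multiset.count_pos.2 hb).ne')
  · have h2 := (Finset.mem_sdiff.1 hb).2
    rw [Multiset.mem_toFinset] at h2
    rw [Multiset.count_eq_zero.2 h2, zero_mul]
  · rw [Bf_eq (p := 2), smul_eq_mul]

theorem sum_le {a : ℕ} (hK : Fintype.card K = 2 ^ a) (τ : Representation k (_root_.Matrix.SpecialLinearGroup (Fin 2) K) V)
    {L : List ℕ} (hL : L.Nodup) :
    (L.map fun b => (cf (Sy.{u, v, w} ι 2) τ).count b * (Bp 2 b).card).sum ≤ finrank k V := by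
  rw [finrank_eq_cf ι hK τ, Finset.sum_multiset_map_count, ← List.sum_toFinset _ hL]
  have h1 : ∀ s : Finset ℕ, ∑ b ∈ s, (cf (Sy.{u, v, w} ι 2) τ).count b * (Bp 2 b).card ≤
      ∑ b ∈ (cf (Sy.{u, v, w} ι 2) τ).toFinset, (cf (Sy.{u, v, w} ι 2) τ).count b • (Bp 2 b).card := by
    intro s
    rw [← Finset.sum_filter_add_sum_filter_not s (fun b => b ∈ (cf (Sy.{u, v, w} ι 2) τ).toFinset)]
    have h2 : ∑ b ∈ s.filter (fun b => ¬ b ∈ (cf (Sy.{u, v, w} ι 2) τ).toFinset),
        (cf (Sy.{u, v, w} ι 2) τ).count b * (Bp 2 b).card = 0 := by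
      refine Finset.sum_eq_zero fun b hb => ?_
      have h3 := (Finset.mem_filter.1 hb).2
      rw [Multiset.mem_toFinset] at h3
      rw [Multiset.count_eq_zero.2 h3, zero_mul]
    rw [h2, add_zero]
    exact Finset.sum_le_sum_of_subset fun b hb => (Finset.mem_filter.1 hb).2
  exact h1 _

end cf

theorem card_one (n : ℕ) : (Bp 2 (2 ^ n)).card = 2 := by
  have h1 := card_Bp_psm (l := [n]) (List.nodup_singleton n)
  rwa [psm_cons, psm_nil, add_zero] at h1

theorem card_two {n m : ℕ} (h : n ≠ m) : (Bp 2 (2 ^ n + 2 ^ m)).card = 4 := by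
  have h1 := card_Bp_psm (l := [n, m]) (by simp [h])
  rwa [psm_cons, psm_cons, psm_nil, add_zero] at h1

theorem lab_inj {n m : ℕ} (h : 2 ^ n = 2 ^ m) : n = m := Nat.pow_right_injective le_rfl h

theorem lab_ne {n m l : ℕ} (h : n ≠ m) : 2 ^ n + 2 ^ m ≠ 2 ^ l := by
  intro h1
  have h2 := card_two h
  rw [h1, card_one] at h2
  omega

theorem lab_two {n m n' m' : ℕ} (h : n ≠ m) (h' : n' ≠ m') (he : 2 ^ n + 2 ^ m = 2 ^ n' + 2 ^ m') :
    n = n' ∧ m = m' ∨ n = m' ∧ m = n' := by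
  have h1 : ([n, m] : List ℕ).Perm [n', m'] := by
    refine psm_inj (by simp [h]) (by simp [h']) ?_
    rw [psm_cons, psm_cons, psm_nil, psm_cons, psm_cons, psm_nil, add_zero, add_zero, he]
  have h2 : n ∈ [n', m'] := h1.subset (by simp)
  have h3 : m ∈ [n', m'] := h1.subset (by simp)
  simp only [List.mem_cons, List.not_mem_nil, or_false] at h2 h3
  rcases h2 with h2 | h2 <;> rcases h3 with h3 | h3
  · exact absurd (h2.trans h3.symm) h
  · exact Or.inl ⟨h2, h3⟩
  · exact Or.inr ⟨h2, h3⟩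
  · exact absurd (h2.trans h3.symm) h

/-- **the orbits of `n ↦ n + e` modulo `a`** -/
theorem N_iff {a e : ℕ} (ha : 0 < a) (n i j : ℕ) :
    (n + e * i) % a = (n + e * j) % a ↔ i ≡ j [MOD a / Nat.gcd a e] := by
  constructor
  · intro h
    have h1 : e * i ≡ e * j [MOD a] := Nat.ModEq.add_left_cancel' n h
    exact Nat.ModEq.cancel_left_div_gcd ha h1
  · intro h
    have h1 : e * i ≡ e * j [MOD e * (a / Nat.gcd a e)] := Nat.ModEq.mul_left' e h
    have h2 : a ∣ e * (a / Nat.gcd a e) := by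
      obtain ⟨e', he'⟩ := Nat.gcd_dvd_right a e
      obtain ⟨a', ha'⟩ := Nat.gcd_dvd_left a e
      have hg : 0 < Nat.gcd a e := Nat.gcd_pos_of_pos_left e ha
      have h3 : a / Nat.gcd a e = a' := Nat.div_eq_of_eq_mul_right hg ha'
      rw [h3]
      refine ⟨e', ?_⟩
      calc e * a' = (Nat.gcd a e * e') * a' := by rw [← he']
        _ = (Nat.gcd a e * a') * e' := by ring
        _ = a * e' := by rw [← ha']
    exact Nat.ModEq.add_left n (h1.of_dvd h2)

end Cfsg.Agent.R2.H6P2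
end

-- part: R2/H6P2/Orbit
section
/-!
# S5749, S5750, box P2: the orbit of the Frobenius map on the twisted natural modules (helper6)

`two_types` : no two totally singular twisted natural modules of different types which are stable (or exchanged) under the
Frobenius map;
`r_one` : there is a totally singular twisted natural module which is fixed by the Frobenius map.
-/

set_option autoImplicit false
set_option linter.unusedSectionVars false

namespace Cfsg.Agent.R2.H6P2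

open Module Matrix
open Cfsg.Lie
open Cfsg.Agent.ChevalleyStructure.E6Min.Basic (Zgrp)
open Cfsg.Agent.H943.SL2Rel Cfsg.Agent.H943.SL2Mod Cfsg.Agent.H943.RepAdd
open Cfsg.Agent.R2.H28.SL2 Cfsg.Agent.R2.SL2 Cfsg.Agent.R2.GEO
open Cfsg.Agent.H952.F4 (sh cr tf)
open Cfsg.Agent.H952.F4.Jord
open Cfsg.Agent.H163.E6 (V V' TS)
open Cfsg.Agent.H65.E6Emb
open Cfsg.Agent.R2.H9.E6 (Setup pq pq_surjective)

universe u v w x

variable {k : Type u} [Field k]

theorem cr_span {x y x' y' u v : I27 → k} (hu : u ∈ Submodule.span k {x, y}) (hv : v ∈ Submodule.span k {x', y'}) :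
    cr u v ∈ Submodule.span k {cr x x', cr x y', cr y x', cr y y'} := by
  obtain ⟨α, β, rfl⟩ := Submodule.mem_span_pair.1 hu
  obtain ⟨α', β', rfl⟩ := Submodule.mem_span_pair.1 hv
  have h1 : cr x x' ∈ Submodule.span k {cr x x', cr x y', cr y x', cr y y'} := Submodule.subset_span (by simp)
  have h2 : cr x y' ∈ Submodule.span k {cr x x', cr x y', cr y x', cr y y'} := Submodule.subset_span (by simp)
  have h3 : cr y x' ∈ Submodule.span k {cr x x', cr x y', cr y x', cr y y'} := Submodule.subset_span (by simp)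
  have h4 : cr y y' ∈ Submodule.span k {cr x x', cr x y', cr y x', cr y y'} := Submodule.subset_span (by simp)
  rw [cr_add_left, cr_add_right, cr_add_right, cr_smul_left, cr_smul_left, cr_smul_left, cr_smul_left, cr_smul_right,
    cr_smul_right, cr_smul_right, cr_smul_right]
  exact Submodule.add_mem _
    (Submodule.add_mem _ (Submodule.smul_mem _ _ (Submodule.smul_mem _ _ h1))
      (Submodule.smul_mem _ _ (Submodule.smul_mem _ _ h2)))
    (Submodule.add_mem _ (Submodule.smul_mem _ _ (Submodule.smul_mem _ _ h3))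
      (Submodule.smul_mem _ _ (Submodule.smul_mem _ _ h4)))

theorem stb_sum {K : Type w} [Field K] {τ : Representation k (_root_.Matrix.SpecialLinearGroup (Fin 2) K) (I27 → k)} {κ κ' : K →+* k}
    {x y x' y' : I27 → k} (h : Two τ κ x y) (h' : Two τ κ' x' y') : Stb τ (Submodule.span k {x, y, x', y'}) := by
  have hx : x ∈ Submodule.span k {x, y, x', y'} := Submodule.subset_span (by simp)
  have hy : y ∈ Submodule.span k {x, y, x', y'} := Submodule.subset_span (by simp)
  have hx' : x' ∈ Submodule.span k {x, y, x', y'} := Submodule.subset_span (by simp)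
  have hy' : y' ∈ Submodule.span k {x, y, x', y'} := Submodule.subset_span (by simp)
  refine stb_span fun g z hz => ?_
  rcases hz with rfl | rfl | rfl | hz
  · rw [h.act₀]
    exact Submodule.add_mem _ (Submodule.smul_mem _ _ hx) (Submodule.smul_mem _ _ hy)
  · rw [h.act₁]
    exact Submodule.add_mem _ (Submodule.smul_mem _ _ hx) (Submodule.smul_mem _ _ hy)
  · rw [h'.act₀]
    exact Submodule.add_mem _ (Submodule.smul_mem _ _ hx') (Submodule.smul_mem _ _ hy')
  · rw [Set.mem_singleton_iff.1 hz, h'.act₁]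
    exact Submodule.add_mem _ (Submodule.smul_mem _ _ hx') (Submodule.smul_mem _ _ hy')

theorem finrank_four_le (x y x' y' : I27 → k) : finrank k (Submodule.span k {x, y, x', y'}) ≤ 4 := by
  have h1 : ({x, y, x', y'} : Set (I27 → k)) = Set.range ![x, y, x', y'] := by
    rw [Matrix.range_cons, Matrix.range_cons, Matrix.range_cons, Matrix.range_cons, Matrix.range_empty]
    ext v
    simp only [Set.mem_insert_iff, Set.mem_singleton_iff, Set.mem_union, Set.mem_empty_iff_false, or_false]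
  rw [h1]
  exact (finrank_range_le_card _).trans (by rw [Fintype.card_fin])

section alg

variable [CharP k 2] {K : Type w} [Field K] [DecidableEq k] [Fintype K] [DecidableEq K] [CharP K 2] [IsAlgClosed k]
  (ι : K →+* k) {a : ℕ} (hK : Fintype.card K = 2 ^ a)
  {ρ ρ' : Representation k ↥(Zgrp k) (I27 → k)} {χ : _root_.Matrix.SpecialLinearGroup (Fin 2) K →* ↥(Zgrp k)}

include hK

theorem cnt_le {U : Submodule k (I27 → k)} (hU : Stb (rp ρ χ) U) {n : ℕ} (hn : n < a) {x y : I27 → k}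
    (h : Two (rp ρ χ) (ka ι n) x y) (hx : x ∈ U) (hy : y ∈ U) :
    1 ≤ (cf (Sy.{u, u, w} ι 2) (subRep (rp ρ χ) U hU)).count (2 ^ n) := by
  have hle : Submodule.span k {x, y} ≤ U := by
    rw [Submodule.span_le]
    rintro z (rfl | hz)
    · exact hx
    · rw [Set.mem_singleton_iff.1 hz]
      exact hy
  have h1 := cf_mono ι hle h.stb hU
  rw [count_of_isV ι h.stb ((h.isV ι hK hn).2 h.stb)] at h1
  have h2 := Multiset.count_le_of_le (2 ^ n) h1
  rwa [Multiset.count_singleton_self] at h2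

theorem cnt_one {n : ℕ} (hn : n < a) {x y : I27 → k} (h : Two (rp ρ χ) (ka ι n) x y) :
    1 ≤ (cf (Sy.{u, u, w} ι 2) (rp ρ χ)).count (2 ^ n) := by
  have h1 := cf_sub_le (Sy.{u, u, w} ι 2) (rp ρ χ) _ h.stb
  rw [count_of_isV ι h.stb ((h.isV ι hK hn).2 h.stb)] at h1
  have h2 := Multiset.count_le_of_le (2 ^ n) h1
  rwa [Multiset.count_singleton_self] at h2

/-- the sum of two modules with different labels -/
theorem finrank_sum {n m : ℕ} (hn : n < a) (hm : m < a) (hnm : n ≠ m) {x y x' y' : I27 → k}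
    (h : Two (rp ρ χ) (ka ι n) x y) (h' : Two (rp ρ χ) (ka ι m) x' y') :
    finrank k (Submodule.span k {x, y, x', y'}) = 4 := by
  refine le_antisymm (finrank_four_le _ _ _ _) ?_
  have hs := stb_sum h h'
  have h1 := cnt_le ι hK hs hn h (Submodule.subset_span (by simp)) (Submodule.subset_span (by simp))
  have h2 := cnt_le ι hK hs hm h' (Submodule.subset_span (by simp)) (Submodule.subset_span (by simp))
  have h3 := sum_le ι hK (subRep (rp ρ χ) _ hs) (L := [2 ^ n, 2 ^ m]) (by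
    simp only [List.nodup_cons, List.mem_singleton, List.not_mem_nil, not_false_eq_true, List.nodup_nil, and_true]
    exact fun h0 => hnm (lab_inj h0))
  simp only [List.map_cons, List.map_nil, List.sum_cons, List.sum_nil, card_one] at h3
  omega

/-- the multiplicities of two orthogonal totally singular modules -/
theorem cnt_sum (hper : commutator (_root_.Matrix.SpecialLinearGroup (Fin 2) K) = ⊤) (hρ : Pair ρ ρ') {n m : ℕ} (hn : n < a)
    (hm : m < a) (hnm : n ≠ m) {x y x' y' : I27 → k} (h : TTwo ρ χ (ka ι n) x y) (h' : TTwo ρ χ (ka ι m) x' y')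
    (h0 : cr x x' = 0 ∧ cr x y' = 0 ∧ cr y x' = 0 ∧ cr y y' = 0) :
    2 ≤ (cf (Sy.{u, u, w} ι 2) (rp ρ χ)).count (2 ^ n) ∧ 2 ≤ (cf (Sy.{u, u, w} ι 2) (rp ρ χ)).count (2 ^ m) := by
  have hs := stb_sum h.toTwo h'.toTwo
  have h1 := cnt_le ι hK hs hn h.toTwo (Submodule.subset_span (by simp)) (Submodule.subset_span (by simp))
  have h2 := cnt_le ι hK hs hm h'.toTwo (Submodule.subset_span (by simp)) (Submodule.subset_span (by simp))
  have h3 := hull_cf ι hper hρ hs (finrank_sum ι hK hn hm hnm h.toTwo h'.toTwo) (h.sum_ts h' h0).1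
  have h4 := Multiset.count_le_of_le (2 ^ n) h3
  have h5 := Multiset.count_le_of_le (2 ^ m) h3
  rw [Multiset.count_add] at h4 h5
  omega

/-- the multiplicities of the product of two totally singular modules -/
theorem cnt_four (hper : commutator (_root_.Matrix.SpecialLinearGroup (Fin 2) K) = ⊤) (hnf : NoFx χ) (hρ : Pair ρ ρ') {n m : ℕ}
    (hn : n < a) (hm : m < a) (hnm : n ≠ m) {x y x' y' : I27 → k} (h : TTwo ρ χ (ka ι n) x y)
    (h' : TTwo ρ χ (ka ι m) x' y') (h0 : ¬ (cr x x' = 0 ∧ cr x y' = 0 ∧ cr y x' = 0 ∧ cr y y' = 0)) :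
    2 ≤ (cf (Sy.{u, u, w} ι 2) (rp ρ χ)).count (2 ^ n + 2 ^ m) := by
  have hf := h.four hρ h'
  obtain ⟨hd, hV⟩ := hf.isV ι hK hn hm hnm h0
  have h3 := hull_cf ι hper hρ.swap hf.stb hd (h.four_ts hρ hnf h').1
  rw [count_of_isV ι hf.stb (hV hf.stb)] at h3
  have h4 := Multiset.count_le_of_le (2 ^ n + 2 ^ m) h3
  rw [Multiset.count_add, Multiset.count_singleton_self, cf_pair ι hρ] at h4
  omega

end alg

section frob

variable [CharP k 2] {K : Type w} [Field K] [DecidableEq k] [Fintype K] [DecidableEq K] [CharP K 2] [IsAlgClosed k]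
  (ι : K →+* k) {a : ℕ} (hK : Fintype.card K = 2 ^ a)
  {F : Type v} [Field F] [Fintype F] (f : F →+* k) {e : ℕ} (hF : Fintype.card F = 2 ^ e)
  {ψ : ProjectiveSpecialLinearGroup (Fin 2) K →* ↥(Zgrp F)} {Γ M : Subgroup ↥(Zgrp F)} (hS : Setup Γ M ψ)
  (hper : commutator (_root_.Matrix.SpecialLinearGroup (Fin 2) K) = ⊤) (hnf : NoFx (chi f ψ))
  {ρ ρ' : Representation k ↥(Zgrp k) (I27 → k)}

include hK hF hS hnf

/-- **no two totally singular modules of different types which are stable under the Frobenius map** -/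
theorem two_types (hρ : Pair ρ ρ') {n m : ℕ} (hn : n < a) (hm : m < a) (hnm : n ≠ m) {x y x' y' : I27 → k}
    (h : TTwo ρ (chi f ψ) (ka ι n) x y) (h' : TTwo ρ (chi f ψ) (ka ι m) x' y')
    (hst : (Ph e x ∈ Submodule.span k {x, y} ∧ Ph e y ∈ Submodule.span k {x, y} ∧
        Ph e x' ∈ Submodule.span k {x', y'} ∧ Ph e y' ∈ Submodule.span k {x', y'}) ∨
      (Ph e x ∈ Submodule.span k {x', y'} ∧ Ph e y ∈ Submodule.span k {x', y'} ∧
        Ph e x' ∈ Submodule.span k {x, y} ∧ Ph e y' ∈ Submodule.span k {x, y})) : False := by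
  by_cases h0 : cr x x' = 0 ∧ cr x y' = 0 ∧ cr y x' = 0 ∧ cr y y' = 0
  · -- the sum
    have hA : Submodule.span k {x, y} ≤ Submodule.span k {x, y, x', y'} := by
      refine Submodule.span_mono ?_
      rintro z (rfl | hz)
      · simp
      · rw [Set.mem_singleton_iff.1 hz]
        simp
    have hB : Submodule.span k {x', y'} ≤ Submodule.span k {x, y, x', y'} := by
      refine Submodule.span_mono ?_
      rintro z (rfl | hz)
      · simp
      · rw [Set.mem_singleton_iff.1 hz]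
        simp
    refine rat_ts f hF hS (pair_left hρ) (stb_sum h.toTwo h'.toTwo) (span_Ph ?_) (h.sum_ts h' h0).1
      (Or.inl (finrank_sum ι hK hn hm hnm h.toTwo h'.toTwo))
    rintro z (rfl | rfl | rfl | hz)
    · rcases hst with hst | hst
      · exact hA hst.1
      · exact hB hst.1
    · rcases hst with hst | hst
      · exact hA hst.2.1
      · exact hB hst.2.1
    · rcases hst with hst | hst
      · exact hB hst.2.2.1
      · exact hA hst.2.2.1
    · rw [Set.mem_singleton_iff.1 hz]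
      rcases hst with hst | hst
      · exact hB hst.2.2.2
      · exact hA hst.2.2.2
  · -- the product
    have hf := h.four hρ h'
    obtain ⟨hd, hV⟩ := hf.isV ι hK hn hm hnm h0
    refine rat_ts f hF hS (pair_left hρ.swap) hf.stb (span_Ph ?_) (h.four_ts hρ hnf h').1 (Or.inl hd)
    have key : ∀ u v, (Ph e u ∈ Submodule.span k {x, y} ∧ Ph e v ∈ Submodule.span k {x', y'}) ∨
        (Ph e u ∈ Submodule.span k {x', y'} ∧ Ph e v ∈ Submodule.span k {x, y}) →
        Ph e (cr u v) ∈ Submodule.span k {cr x x', cr x y', cr y x', cr y y'} := by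
      intro u v huv
      rw [← Ph_cr]
      rcases huv with huv | huv
      · exact cr_span huv.1 huv.2
      · rw [cr_comm (Ph e u) (Ph e v)]
        exact cr_span huv.2 huv.1
    have k1 := key x x' (hst.imp (fun h => ⟨h.1, h.2.2.1⟩) fun h => ⟨h.1, h.2.2.1⟩)
    have k2 := key x y' (hst.imp (fun h => ⟨h.1, h.2.2.2⟩) fun h => ⟨h.1, h.2.2.2⟩)
    have k3 := key y x' (hst.imp (fun h => ⟨h.2.1, h.2.2.1⟩) fun h => ⟨h.2.1, h.2.2.1⟩)
    have k4 := key y y' (hst.imp (fun h => ⟨h.2.1, h.2.2.2⟩) fun h => ⟨h.2.1, h.2.2.2⟩)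
    intro z hz
    rcases hz with hz | hz | hz | hz
    · rw [hz]; exact k1
    · rw [hz]; exact k2
    · rw [hz]; exact k3
    · rw [Set.mem_singleton_iff.1 hz]; exact k4

end frob

end Cfsg.Agent.R2.H6P2
end

-- part: R2/H6P2/Rone
section
/-!
# S5749, S5750, box P2: there is a totally singular twisted natural module fixed by the Frobenius map (helper6)
-/

set_option autoImplicit false
set_option linter.unusedSectionVars false

namespace Cfsg.Agent.R2.H6P2

open Module Matrix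
open Cfsg.Lie
open Cfsg.Agent.ChevalleyStructure.E6Min.Basic (Zgrp)
open Cfsg.Agent.H943.SL2Rel Cfsg.Agent.H943.SL2Mod Cfsg.Agent.H943.RepAdd
open Cfsg.Agent.R2.H28.SL2 Cfsg.Agent.R2.SL2 Cfsg.Agent.R2.GEO
open Cfsg.Agent.H952.F4 (sh cr tf)
open Cfsg.Agent.H952.F4.Jord
open Cfsg.Agent.H163.E6 (V V' TS)
open Cfsg.Agent.H65.E6Emb
open Cfsg.Agent.R2.H9.E6 (Setup pq pq_surjective)

universe u v w x

theorem ne_mod {r i j : ℕ} (h1 : i < j) (h2 : j < i + r) : ¬ i ≡ j [MOD r] := by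
  intro h
  rw [Nat.modEq_iff_dvd' h1.le] at h
  have h3 := Nat.le_of_dvd (by omega) h
  omega

theorem two_d {r i j d : ℕ} (hd : 0 < d) (hdr : d < r) (h1 : i ≡ j + d [MOD r]) (h2 : i + d ≡ j [MOD r]) :
    2 * d = r := by
  have h3 : i + 0 ≡ i + 2 * d [MOD r] := by
    have h4 : i + d + d ≡ j + d [MOD r] := Nat.ModEq.add_right d h2
    have h5 : i ≡ i + d + d [MOD r] := h1.trans h4.symm
    have h6 : i + d + d = i + 2 * d := by ring
    rw [h6] at h5
    exact h5
  have h4 : 0 ≡ 2 * d [MOD r] := Nat.ModEq.add_left_cancel' i h3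
  obtain ⟨c, hc⟩ := (Nat.modEq_zero_iff_dvd).1 h4.symm
  have hc1 : 0 < c := by
    rcases Nat.eq_zero_or_pos c with h | h
    · rw [h, Nat.mul_zero] at hc
      omega
    · exact h
  have hc2 : c < 2 := by
    by_contra hcon
    have : r * 2 ≤ r * c := Nat.mul_le_mul_left r (by omega)
    omega
  have hc3 : c = 1 := by omega
  rw [hc3, Nat.mul_one] at hc
  exact hc

/-- the four products are zero -/
def Zr {k : Type u} [Field k] (X Y : ℕ → I27 → k) (i j : ℕ) : Prop :=
  cr (X i) (X j) = 0 ∧ cr (X i) (Y j) = 0 ∧ cr (Y i) (X j) = 0 ∧ cr (Y i) (Y j) = 0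

section frob

variable {k : Type u} [Field k] [CharP k 2] {K : Type w} [Field K] [DecidableEq k] [Fintype K] [DecidableEq K]
  [CharP K 2] [IsAlgClosed k]
  (ι : K →+* k) {a : ℕ} (hK : Fintype.card K = 2 ^ a)
  {F : Type v} [Field F] [Fintype F] (f : F →+* k) {e : ℕ} (hF : Fintype.card F = 2 ^ e)
  {ψ : ProjectiveSpecialLinearGroup (Fin 2) K →* ↥(Zgrp F)} {Γ M : Subgroup ↥(Zgrp F)} (hS : Setup Γ M ψ)
  (hper : commutator (_root_.Matrix.SpecialLinearGroup (Fin 2) K) = ⊤) (hnf : NoFx (chi f ψ))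
  {ρ ρ' : Representation k ↥(Zgrp k) (I27 → k)}

include hK hF hS hnf hper

/-- **the orbit has length 1** -/
theorem len_one (ha : 0 < a) (hρ : Pair ρ ρ') {n : ℕ} {x y : I27 → k} (h : TTwo ρ (chi f ψ) (ka ι n) x y)
    (hrx : Ph (e * (a / Nat.gcd a e)) x = x) (hry : Ph (e * (a / Nat.gcd a e)) y = y) : a / Nat.gcd a e = 1 := by
  have h27 : finrank k (I27 → k) = 27 := by rw [finrank_fintype_fun_eq_card]; rfl
  set r := a / Nat.gcd a e with hr
  have hr0 : 0 < r := Nat.div_pos (Nat.le_of_dvd ha (Nat.gcd_dvd_left a e)) (Nat.gcd_pos_of_pos_left e ha)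
  obtain ⟨X, hX⟩ : ∃ X : ℕ → I27 → k, ∀ i, X i = Ph (e * i) x := ⟨_, fun _ => rfl⟩
  obtain ⟨Y, hY⟩ : ∃ Y : ℕ → I27 → k, ∀ i, Y i = Ph (e * i) y := ⟨_, fun _ => rfl⟩
  obtain ⟨N, hN⟩ : ∃ N : ℕ → ℕ, ∀ i, N i = (n + e * i) % a := ⟨_, fun _ => rfl⟩
  have hNa : ∀ i, N i < a := fun i => by rw [hN]; exact Nat.mod_lt _ ha
  have hNr : ∀ i j, N i = N j ↔ i ≡ j [MOD r] := fun i j => by rw [hN, hN, N_iff ha n i j]
  have hT : ∀ i, TTwo ρ (chi f ψ) (ka ι (N i)) (X i) (Y i) := fun i => by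
    rw [hN, hX, hY, ka_mod ι hK]
    exact h.ph f hF (pair_left hρ) i
  have hXs : ∀ i j, Ph (e * i) (X j) = X (i + j) := fun i j => by rw [hX, hX, Ph_comp, ← Nat.mul_add]
  have hYs : ∀ i j, Ph (e * i) (Y j) = Y (i + j) := fun i j => by rw [hY, hY, Ph_comp, ← Nat.mul_add]
  have hX1 : ∀ j, Ph e (X j) = X (j + 1) := fun j => by
    have := hXs 1 j
    rwa [Nat.mul_one, Nat.add_comm] at this
  have hY1 : ∀ j, Ph e (Y j) = Y (j + 1) := fun j => by
    have := hYs 1 j
    rwa [Nat.mul_one, Nat.add_comm] at this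
  have hXr : X r = X 0 := by
    rw [hX, hX, hrx, Nat.mul_zero]
    funext i
    show x i = fr 0 (x i)
    rw [fr_apply, pow_zero, pow_one]
  have hYr : Y r = Y 0 := by
    rw [hY, hY, hry, Nat.mul_zero]
    funext i
    show y i = fr 0 (y i)
    rw [fr_apply, pow_zero, pow_one]
  have hZs : ∀ s i j, Zr X Y i j → Zr X Y (s + i) (s + j) := by
    rintro s i j ⟨h1, h2, h3, h4⟩
    refine ⟨?_, ?_, ?_, ?_⟩
    · rw [← hXs, ← hXs, Ph_cr, h1, Ph_zero]
    · rw [← hXs, ← hYs, Ph_cr, h2, Ph_zero]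
    · rw [← hXs, ← hYs, Ph_cr, h3, Ph_zero]
    · rw [← hYs, ← hYs, Ph_cr, h4, Ph_zero]
  have hZc : ∀ i j, Zr X Y i j → Zr X Y j i := by
    rintro i j ⟨h1, h2, h3, h4⟩
    exact ⟨(cr_comm _ _).trans h1, (cr_comm _ _).trans h3, (cr_comm _ _).trans h2, (cr_comm _ _).trans h4⟩
  -- shift of non-zero products
  have hZn : ∀ s d, ¬ Zr X Y 0 d → ¬ Zr X Y s (s + d) := by
    intro s d h0 h1
    apply h0
    obtain ⟨h1, h2, h3, h4⟩ := h1
    have e0 : Ph (e * s) (X 0) = X s := hXs s 0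
    have e1 : Ph (e * s) (Y 0) = Y s := hYs s 0
    refine ⟨?_, ?_, ?_, ?_⟩
    · rwa [← e0, ← hXs, Ph_cr, Ph_eq_zero] at h1
    · rwa [← e0, ← hYs, Ph_cr, Ph_eq_zero] at h2
    · rwa [← e1, ← hXs, Ph_cr, Ph_eq_zero] at h3
    · rwa [← e1, ← hYs, Ph_cr, Ph_eq_zero] at h4
  by_contra hr1
  -- `r = 2`
  have hr2 : r ≠ 2 := by
    intro h2
    have hne : N 0 ≠ N 1 := fun h0 => ne_mod (by omega) (by omega) ((hNr 0 1).1 h0)
    have e0 : Ph e (X 0) = X 1 := hX1 0
    have e1 : Ph e (Y 0) = Y 1 := hY1 0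
    have e2 : Ph e (X 1) = X 0 := by
      rw [hX1, ← hXr, h2]
    have e3 : Ph e (Y 1) = Y 0 := by
      rw [hY1, ← hYr, h2]
    refine two_types ι hK f hF hS hnf hρ (hNa 0) (hNa 1) hne (hT 0) (hT 1) (Or.inr ⟨?_, ?_, ?_, ?_⟩)
    · rw [e0]; exact Submodule.subset_span (Or.inl rfl)
    · rw [e1]; exact Submodule.subset_span (Or.inr rfl)
    · rw [e2]; exact Submodule.subset_span (Or.inl rfl)
    · rw [e3]; exact Submodule.subset_span (Or.inr rfl)
  have hr3 : 3 ≤ r := by omega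
  -- the first case
  by_cases hA : ∃ d, 0 < d ∧ d < r ∧ 2 * d ≠ r ∧ ¬ Zr X Y 0 d
  · obtain ⟨d, hd0, hdr, hd2, hZ⟩ := hA
    have hZ1 := hZn 1 d hZ
    have hZ2 := hZn 2 d hZ
    have hne : ∀ i, N i ≠ N (i + d) := fun i h0 => ne_mod (by omega) (by omega) ((hNr i (i + d)).1 h0)
    have hc : ∀ i, ¬ Zr X Y i (i + d) →
        2 ≤ (cf (Sy.{u, u, w} ι 2) (rp ρ (chi f ψ))).count (2 ^ N i + 2 ^ N (i + d)) := fun i hi =>
      cnt_four ι hK hper hnf hρ (hNa i) (hNa _) (hne i) (hT i) (hT _) hi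
    have c0 := hc 0 (by rw [Nat.zero_add]; exact hZ)
    have c1 := hc 1 hZ1
    have c2 := hc 2 hZ2
    have d0 := cnt_one ι hK (hNa 0) (hT 0).toTwo
    have d1 := cnt_one ι hK (hNa 1) (hT 1).toTwo
    have hb : ∀ i j, i < j → j < i + 3 → 2 ^ N i + 2 ^ N (i + d) ≠ 2 ^ N j + 2 ^ N (j + d) := by
      intro i j hij hj h0
      rcases lab_two (hne i) (hne j) h0 with ⟨h1, h2⟩ | ⟨h1, h2⟩
      · exact ne_mod hij (by omega) ((hNr _ _).1 h1)
      · exact hd2 (two_d hd0 hdr ((hNr _ _).1 h1) ((hNr _ _).1 h2))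
    have hnd : [2 ^ N 0 + 2 ^ N (0 + d), 2 ^ N 1 + 2 ^ N (1 + d), 2 ^ N 2 + 2 ^ N (2 + d), 2 ^ N 0, 2 ^ N 1].Nodup := by
      simp only [List.nodup_cons, List.mem_cons, List.not_mem_nil, or_false, not_or, not_false_eq_true,
        List.nodup_nil, and_true]
      exact ⟨⟨hb 0 1 (by omega) (by omega), hb 0 2 (by omega) (by omega), lab_ne (hne 0), lab_ne (hne 0)⟩,
        ⟨hb 1 2 (by omega) (by omega), lab_ne (hne 1), lab_ne (hne 1)⟩, ⟨lab_ne (hne 2), lab_ne (hne 2)⟩,
        fun h0 => ne_mod (by omega) (by omega) ((hNr 0 1).1 (lab_inj h0))⟩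
    have h3 := sum_le ι hK (rp ρ (chi f ψ)) hnd
    simp only [List.map_cons, List.map_nil, List.sum_cons, List.sum_nil, card_one, card_two (hne _)] at h3
    omega
  have hA' : ∀ d, 0 < d → d < r → 2 * d ≠ r → Zr X Y 0 d := by
    intro d h1 h2 h3
    by_contra h4
    exact hA ⟨d, h1, h2, h3, h4⟩
  -- the second case
  by_cases hB : ∃ d, 0 < d ∧ d < r ∧ 2 * d = r ∧ ¬ Zr X Y 0 d
  · obtain ⟨d, hd0, hdr, hd2, hZ⟩ := hB
    have hr4 : 4 ≤ r := by omega
    have hZ1 := hZn 1 d hZ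
    have hne : ∀ i, N i ≠ N (i + d) := fun i h0 => ne_mod (by omega) (by omega) ((hNr i (i + d)).1 h0)
    have hne' : ∀ i, N i ≠ N (i + 1) := fun i h0 => ne_mod (by omega) (by omega) ((hNr i (i + 1)).1 h0)
    have hc : ∀ i, ¬ Zr X Y i (i + d) →
        2 ≤ (cf (Sy.{u, u, w} ι 2) (rp ρ (chi f ψ))).count (2 ^ N i + 2 ^ N (i + d)) := fun i hi =>
      cnt_four ι hK hper hnf hρ (hNa i) (hNa _) (hne i) (hT i) (hT _) hi
    have c0 := hc 0 (by rw [Nat.zero_add]; exact hZ)
    have c1 := hc 1 hZ1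
    have hs : ∀ i, Zr X Y i (i + 1) := fun i => hZs i 0 1 (hA' 1 (by omega) (by omega) (by omega))
    have hd : ∀ i, 2 ≤ (cf (Sy.{u, u, w} ι 2) (rp ρ (chi f ψ))).count (2 ^ N i) := fun i =>
      (cnt_sum ι hK hper hρ (hNa i) (hNa _) (hne' i) (hT i) (hT _) (hs i)).1
    have d0 := hd 0
    have d1 := hd 1
    have d2 := hd 2
    have hnd : [2 ^ N 0 + 2 ^ N (0 + d), 2 ^ N 1 + 2 ^ N (1 + d), 2 ^ N 0, 2 ^ N 1, 2 ^ N 2].Nodup := by
      simp only [List.nodup_cons, List.mem_cons, List.not_mem_nil, or_false, not_or, not_false_eq_true,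
        List.nodup_nil, and_true]
      refine ⟨⟨?_, lab_ne (hne 0), lab_ne (hne 0), lab_ne (hne 0)⟩,
        ⟨lab_ne (hne 1), lab_ne (hne 1), lab_ne (hne 1)⟩,
        ⟨fun h0 => ne_mod (by omega) (by omega) ((hNr 0 1).1 (lab_inj h0)),
          fun h0 => ne_mod (by omega) (by omega) ((hNr 0 2).1 (lab_inj h0))⟩,
        fun h0 => ne_mod (by omega) (by omega) ((hNr 1 2).1 (lab_inj h0))⟩
      intro h0
      rcases lab_two (hne 0) (hne 1) h0 with ⟨h1, h2⟩ | ⟨h1, h2⟩
      · exact ne_mod (by omega) (by omega) ((hNr _ _).1 h1)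
      · exact ne_mod (by omega) (by omega) ((hNr _ _).1 h1)
    have h3 := sum_le ι hK (rp ρ (chi f ψ)) hnd
    simp only [List.map_cons, List.map_nil, List.sum_cons, List.sum_nil, card_one, card_two (hne _)] at h3
    omega
  -- all products are zero
  have hall : ∀ d, 0 < d → d < r → Zr X Y 0 d := by
    intro d h1 h2
    by_contra h4
    by_cases h3 : 2 * d = r
    · exact hB ⟨d, h1, h2, h3, h4⟩
    · exact hA ⟨d, h1, h2, h3, h4⟩
  have hZ : ∀ i j, i < r → j < r → i ≠ j → Zr X Y i j := by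
    have h1 : ∀ i j, i < j → j < r → Zr X Y i j := by
      intro i j hij hj
      have h2 := hZs i 0 (j - i) (hall (j - i) (by omega) (by omega))
      rwa [Nat.add_zero, Nat.add_sub_cancel' hij.le] at h2
    intro i j hi hj hij
    rcases lt_or_gt_of_ne hij with h2 | h2
    · exact h1 i j h2 hj
    · exact hZc j i (h1 j i h2 hi)
  obtain ⟨B, hB0, hB1⟩ : ∃ B : Fin r × Fin 2 → I27 → k, (∀ i, B (i, 0) = X i) ∧ ∀ i, B (i, 1) = Y i :=
    ⟨fun p => if p.2 = 0 then X p.1 else Y p.1, fun i => rfl, fun i => rfl⟩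
  have hBc : ∀ (p : Fin r × Fin 2), B p = X p.1 ∨ B p = Y p.1 := by
    rintro ⟨i, l⟩
    fin_cases l
    · exact Or.inl (hB0 i)
    · exact Or.inr (hB1 i)
  have hmX : ∀ i < r, X i ∈ Submodule.span k (Set.range B) := fun i hi =>
    Submodule.subset_span ⟨(⟨i, hi⟩, 0), hB0 ⟨i, hi⟩⟩
  have hmY : ∀ i < r, Y i ∈ Submodule.span k (Set.range B) := fun i hi =>
    Submodule.subset_span ⟨(⟨i, hi⟩, 1), hB1 ⟨i, hi⟩⟩
  have hst : Stb (rp ρ (chi f ψ)) (Submodule.span k (Set.range B)) := by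
    refine stb_span fun g z hz => ?_
    obtain ⟨p, rfl⟩ := hz
    rcases hBc p with hp | hp <;> rw [hp]
    · rw [(hT p.1).act₀]
      exact Submodule.add_mem _ (Submodule.smul_mem _ _ (hmX _ p.1.2)) (Submodule.smul_mem _ _ (hmY _ p.1.2))
    · rw [(hT p.1).act₁]
      exact Submodule.add_mem _ (Submodule.smul_mem _ _ (hmX _ p.1.2)) (Submodule.smul_mem _ _ (hmY _ p.1.2))
  have hts : TS (Submodule.span k (Set.range B)) := by
    refine ts_set ?_ ?_
    · rintro _ ⟨p, rfl⟩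
      rcases hBc p with hp | hp <;> rw [hp]
      · exact (hT p.1).shx
      · exact (hT p.1).shy
    · rintro _ ⟨p, rfl⟩ _ ⟨p', rfl⟩
      by_cases hpp : (p.1 : ℕ) = p'.1
      · rcases hBc p with hp | hp <;> rcases hBc p' with hp' | hp' <;> rw [hp, hp', ← hpp]
        · exact cr_self0 (X p.1)
        · exact (hT p.1).crxy
        · exact (cr_comm (Y p.1) (X p.1)).trans (hT p.1).crxy
        · exact cr_self0 (Y p.1)
      · obtain ⟨h1, h2, h3, h4⟩ := hZ p.1 p'.1 p.1.2 p'.1.2 hpp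
        rcases hBc p with hp | hp <;> rcases hBc p' with hp' | hp' <;> rw [hp, hp']
        · exact h1
        · exact h2
        · exact h3
        · exact h4
  have hfr : ∀ v ∈ Submodule.span k (Set.range B), Ph e v ∈ Submodule.span k (Set.range B) := by
    refine span_Ph ?_
    rintro _ ⟨p, rfl⟩
    have hlt : (p.1 : ℕ) < r := p.1.2
    rcases hBc p with hp | hp <;> rw [hp]
    · rw [hX1]
      by_cases h1 : (p.1 : ℕ) + 1 < r
      · exact hmX _ h1
      · have h2 : (p.1 : ℕ) + 1 = r := by omega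
        rw [h2, hXr]
        exact hmX _ hr0
    · rw [hY1]
      by_cases h1 : (p.1 : ℕ) + 1 < r
      · exact hmY _ h1
      · have h2 : (p.1 : ℕ) + 1 = r := by omega
        rw [h2, hYr]
        exact hmY _ hr0
  have hle : finrank k (Submodule.span k (Set.range B)) ≤ 2 * r := by
    refine (finrank_range_le_card B).trans ?_
    rw [Fintype.card_prod, Fintype.card_fin, Fintype.card_fin, Nat.mul_comm]
  have hge : 2 * r ≤ finrank k (Submodule.span k (Set.range B)) := by
    have hnd : ((List.range r).map fun i => 2 ^ N i).Nodup := by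
      refine List.Nodup.map_on ?_ List.nodup_range
      intro i hi j hj hij
      have hi' := List.mem_range.1 hi
      have hj' := List.mem_range.1 hj
      have h1 := (hNr i j).1 (lab_inj hij)
      have h2 : i % r = j % r := h1
      rwa [Nat.mod_eq_of_lt hi', Nat.mod_eq_of_lt hj'] at h2
    have h3 := sum_le ι hK (subRep (rp ρ (chi f ψ)) _ hst) hnd
    refine le_trans ?_ h3
    rw [List.map_map]
    have h4 := List.card_nsmul_le_sum ((List.range r).map ((fun b =>
      (cf (Sy.{u, u, w} ι 2) (subRep (rp ρ (chi f ψ)) _ hst)).count b * (Bp 2 b).card) ∘ fun i => 2 ^ N i)) 2 (by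
        intro c hc
        obtain ⟨i, hi, rfl⟩ := List.mem_map.1 hc
        have hi' := List.mem_range.1 hi
        have h5 := cnt_le ι hK hst (hNa i) (hT i).toTwo (hmX i hi') (hmY i hi')
        show 2 ≤ (cf (Sy.{u, u, w} ι 2) (subRep (rp ρ (chi f ψ)) _ hst)).count (2 ^ N i) * (Bp 2 (2 ^ N i)).card
        rw [card_one]
        omega)
    rw [List.length_map, List.length_range, smul_eq_mul, Nat.mul_comm] at h4
    exact h4
  have h6 := finrank_le_six hts.1
  exact rat_ts f hF hS (pair_left hρ) hst hfr hts.1 (by omega)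

/-- **a totally singular twisted natural module fixed by the Frobenius map** -/
theorem r_one (ha : 0 < a) : a ∣ e ∧ ∃ ρ ρ' : Representation k ↥(Zgrp k) (I27 → k), Pair ρ ρ' ∧
    ∃ n x y, TTwo ρ (chi f ψ) (ka ι n) x y ∧ Ph e x = x ∧ Ph e y = y := by
  obtain ⟨ρ₀, hρ₀, n, -, x, y, hxy⟩ := exists_two ι hK hper hnf
  obtain ⟨ρ₁, hp⟩ := exists_pair hρ₀
  have hmod : ∀ m, ka ι (m + e * (a / Nat.gcd a e)) = ka ι m := by
    intro m
    rw [← ka_mod ι hK (m + e * (a / Nat.gcd a e)), ← ka_mod ι hK m]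
    congr 1
    have h1 := (N_iff ha m (e := e) (a / Nat.gcd a e) 0).2 (by
      show (a / Nat.gcd a e) % (a / Nat.gcd a e) = 0 % (a / Nat.gcd a e)
      rw [Nat.mod_self, Nat.zero_mod])
    rwa [Nat.mul_zero, Nat.add_zero] at h1
  obtain ⟨x, y, hxy, hx, hy⟩ := exists_ph f hF hρ₀ hxy (hmod n)
  have key : ∃ ρ ρ' : Representation k ↥(Zgrp k) (I27 → k), Pair ρ ρ' ∧
      ∃ n x y, TTwo ρ (chi f ψ) (ka ι n) x y ∧ Ph (e * (a / Nat.gcd a e)) x = x ∧
        Ph (e * (a / Nat.gcd a e)) y = y := by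
    rcases hxy.ts_or hp hnf with h1 | h1
    · exact ⟨ρ₀, ρ₁, hp, n, x, y, h1, hx, hy⟩
    · exact ⟨ρ₁, ρ₀, hp.swap, n + 1, sh x, sh y, h1, by rw [← Ph_sh, hx], by rw [← Ph_sh, hy]⟩
  obtain ⟨ρ, ρ', hρ, n, x, y, h, hrx, hry⟩ := key
  have h1 := len_one ι hK f hF hS hper hnf ha hρ h hrx hry
  rw [h1, Nat.mul_one] at hrx hry
  refine ⟨?_, ρ, ρ', hρ, n, x, y, h, hrx, hry⟩
  have h2 : Nat.gcd a e * 1 = a := by
    rw [← h1]
    exact Nat.mul_div_cancel' (Nat.gcd_dvd_left a e)
  rw [Nat.mul_one] at h2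
  rw [← h2]
  exact Nat.gcd_dvd_right a e

end frob

end Cfsg.Agent.R2.H6P2
end

-- part: R2/H6P2/Inn
section
/-!
# S5749, S5750, box P2: the maximal subgroup stabilizes a totally singular subspace of dimension 2 (helper6)

`sk_noether` : matrices normalizing `SL₂(K)` are scalar multiples of matrices over `K` (characteristic 2);
`m_stable` : `M` stabilizes a totally singular subspace of dimension 2 over `F`.
-/

set_option autoImplicit false
set_option linter.unusedSectionVars false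

namespace Cfsg.Agent.R2.H6P2

open Module Matrix
open Cfsg.Lie
open Cfsg.Agent.ChevalleyStructure.E6Min.Basic (Zgrp)
open Cfsg.Agent.ChevalleyStructure.E6Min.Adjoint (ad)
open Cfsg.Agent.H943.SL2Rel Cfsg.Agent.H943.SL2Mod Cfsg.Agent.H943.RepAdd
open Cfsg.Agent.R2.H28.SL2 Cfsg.Agent.R2.SL2 Cfsg.Agent.R2.GEO
open Cfsg.Agent.H952.F4 (sh cr tf)
open Cfsg.Agent.H952.F4.Jord
open Cfsg.Agent.H163.E6 (V V' TS)
open Cfsg.Agent.H65.E6Emb
open Cfsg.Agent.R2.H9.E6 (Setup pq pq_surjective)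

universe u v w x

section sk

variable {k : Type u} [Field k] [CharP k 2] [IsAlgClosed k] {K : Type w} [Field K] [Fintype K] [CharP K 2]

theorem exists_sq (c : K) : ∃ s : K, c = s ^ 2 := by
  have h2 : ringChar K = 2 := ringChar.eq K 2
  obtain ⟨s, hs⟩ := FiniteField.isSquare_of_char_two h2 c
  exact ⟨s, by rw [hs, pow_two]⟩

theorem sq_inj2 {x y : k} (h : x ^ 2 = y ^ 2) : x = y := by
  have h20 : (2 : k) = 0 := CharTwo.two_eq_zero
  have h1 : (x - y) ^ 2 = 0 := by linear_combination h + (y ^ 2 - x * y) * h20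
  exact sub_eq_zero.1 (pow_eq_zero_iff two_ne_zero |>.1 h1)

/-- **matrices normalizing `SL₂(K)`** -/
theorem sk_noether (κ : K →+* k) {p q r s : k} (hD : p * s - q * r ≠ 0)
    (σ : _root_.Matrix.SpecialLinearGroup (Fin 2) K → _root_.Matrix.SpecialLinearGroup (Fin 2) K)
    (h00 : ∀ g : _root_.Matrix.SpecialLinearGroup (Fin 2) K,
      κ (g.1 0 0) * p + κ (g.1 0 1) * r = p * κ ((σ g).1 0 0) + q * κ ((σ g).1 1 0))
    (h01 : ∀ g : _root_.Matrix.SpecialLinearGroup (Fin 2) K,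
      κ (g.1 0 0) * q + κ (g.1 0 1) * s = p * κ ((σ g).1 0 1) + q * κ ((σ g).1 1 1))
    (h10 : ∀ g : _root_.Matrix.SpecialLinearGroup (Fin 2) K,
      κ (g.1 1 0) * p + κ (g.1 1 1) * r = r * κ ((σ g).1 0 0) + s * κ ((σ g).1 1 0))
    (h11 : ∀ g : _root_.Matrix.SpecialLinearGroup (Fin 2) K,
      κ (g.1 1 0) * q + κ (g.1 1 1) * s = r * κ ((σ g).1 0 1) + s * κ ((σ g).1 1 1)) :
    ∃ t : _root_.Matrix.SpecialLinearGroup (Fin 2) K, ∀ g, g * t = t * σ g := by
  obtain ⟨l, hl⟩ := IsAlgClosed.exists_pow_nat_eq (p * s - q * r) (n := 2) two_pos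
  have hl0 : l ≠ 0 := by
    rintro rfl
    rw [zero_pow two_ne_zero] at hl
    exact hD hl.symm
  -- the element `u(1)`
  have a1 := h00 (u 1)
  have a2 := h01 (u 1)
  have a3 := h10 (u 1)
  have a4 := h11 (u 1)
  rw [show (u (1 : K)).1 0 0 = 1 from rfl, show (u (1 : K)).1 0 1 = 1 from rfl, map_one, one_mul, one_mul] at a1 a2
  rw [show (u (1 : K)).1 1 0 = 0 from rfl, show (u (1 : K)).1 1 1 = 1 from rfl, map_one, map_zero, zero_mul, one_mul,
    zero_add] at a3 a4
  -- the transposed element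
  let v1 : _root_.Matrix.SpecialLinearGroup (Fin 2) K := ⟨!![1, 0; 1, 1], by simp [Matrix.det_fin_two]⟩
  have b1 := h00 v1
  have b2 := h01 v1
  have b3 := h10 v1
  have b4 := h11 v1
  rw [show v1.1 0 0 = 1 from rfl, show v1.1 0 1 = 0 from rfl, map_one, map_zero, one_mul, zero_mul, add_zero] at b1 b2
  rw [show v1.1 1 0 = 1 from rfl, show v1.1 1 1 = 1 from rfl, map_one, one_mul, one_mul] at b3 b4
  have h20 : (2 : k) = 0 := CharTwo.two_eq_zero
  have c1 : r ^ 2 = (p * s - q * r) * κ ((σ (u 1)).1 1 0) := by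
    linear_combination (-p) * a3 + r * a1 + (- p * s * κ ((σ (u 1)).1 1 0) + q * r * κ ((σ (u 1)).1 1 0)) * h20
  have c2 : s ^ 2 = (p * s - q * r) * κ ((σ (u 1)).1 0 1) := by
    linear_combination s * a2 - q * a4
  have c3 : p ^ 2 = (p * s - q * r) * κ ((σ v1).1 1 0) := by
    linear_combination p * b3 - r * b1
  have c4 : q ^ 2 = (p * s - q * r) * κ ((σ v1).1 0 1) := by
    linear_combination (-q) * b4 + s * b2 + q ^ 2 * h20
  have key : ∀ z : k, ∀ c : K, z ^ 2 = (p * s - q * r) * κ c → ∃ z₀ : K, z = l * κ z₀ := by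
    intro z c hz
    obtain ⟨z₀, hz₀⟩ := exists_sq c
    refine ⟨z₀, sq_inj2 ?_⟩
    rw [hz, hz₀, mul_pow, hl, map_pow]
  obtain ⟨r₀, rfl⟩ := key r _ c1
  obtain ⟨s₀, rfl⟩ := key s _ c2
  obtain ⟨p₀, rfl⟩ := key p _ c3
  obtain ⟨q₀, rfl⟩ := key q _ c4
  have hdet : p₀ * s₀ - q₀ * r₀ = 1 := by
    apply κ.injective
    have h1 : l ^ 2 * (κ p₀ * κ s₀ - κ q₀ * κ r₀) = l ^ 2 * 1 := by
      linear_combination -hl
    rw [map_sub, map_mul, map_mul, map_one]
    exact mul_left_cancel₀ (pow_ne_zero 2 hl0) h1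
  refine ⟨⟨!![p₀, q₀; r₀, s₀], by rw [Matrix.det_fin_two_of]; exact hdet⟩, fun g => ?_⟩
  have e00 := h00 g
  have e01 := h01 g
  have e10 := h10 g
  have e11 := h11 g
  apply Subtype.ext
  show g.1 * !![p₀, q₀; r₀, s₀] = !![p₀, q₀; r₀, s₀] * (σ g).1
  ext i j
  apply κ.injective
  apply mul_left_cancel₀ hl0
  fin_cases i <;> fin_cases j
  · show l * κ ((g.1 * !![p₀, q₀; r₀, s₀]) 0 0) = l * κ ((!![p₀, q₀; r₀, s₀] * (σ g).1) 0 0)
    rw [Matrix.mul_apply, Matrix.mul_apply, Fin.sum_univ_two, Fin.sum_univ_two]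
    show l * κ (g.1 0 0 * p₀ + g.1 0 1 * r₀) = l * κ (p₀ * (σ g).1 0 0 + q₀ * (σ g).1 1 0)
    simp only [map_add, map_mul]
    linear_combination e00
  · show l * κ ((g.1 * !![p₀, q₀; r₀, s₀]) 0 1) = l * κ ((!![p₀, q₀; r₀, s₀] * (σ g).1) 0 1)
    rw [Matrix.mul_apply, Matrix.mul_apply, Fin.sum_univ_two, Fin.sum_univ_two]
    show l * κ (g.1 0 0 * q₀ + g.1 0 1 * s₀) = l * κ (p₀ * (σ g).1 0 1 + q₀ * (σ g).1 1 1)
    simp only [map_add, map_mul]
    linear_combination e01
  · show l * κ ((g.1 * !![p₀, q₀; r₀, s₀]) 1 0) = l * κ ((!![p₀, q₀; r₀, s₀] * (σ g).1) 1 0)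
    rw [Matrix.mul_apply, Matrix.mul_apply, Fin.sum_univ_two, Fin.sum_univ_two]
    show l * κ (g.1 1 0 * p₀ + g.1 1 1 * r₀) = l * κ (r₀ * (σ g).1 0 0 + s₀ * (σ g).1 1 0)
    simp only [map_add, map_mul]
    linear_combination e10
  · show l * κ ((g.1 * !![p₀, q₀; r₀, s₀]) 1 1) = l * κ ((!![p₀, q₀; r₀, s₀] * (σ g).1) 1 1)
    rw [Matrix.mul_apply, Matrix.mul_apply, Fin.sum_univ_two, Fin.sum_univ_two]
    show l * κ (g.1 1 0 * q₀ + g.1 1 1 * s₀) = l * κ (r₀ * (σ g).1 0 1 + s₀ * (σ g).1 1 1)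
    simp only [map_add, map_mul]
    linear_combination e11

end sk

end Cfsg.Agent.R2.H6P2
end

private theorem dce_e213d6174f8d : _root_.True := by
  try have : _root_.True := by simp only [_root_.Cfsg.Agent.R2.H28.SL2.Sy.congr_simp]
  try have : _root_.True := by simp only [_root_.Cfsg.Agent.H943.RepAdd.subRep.congr_simp]
  exact _root_.True.intro
end

-- part: R2/H6P2/Mst
section
set_option linter.all false
open scoped Cfsg.Agent.FastGrp

/-!
# S5749, S5750, box P2: the maximal subgroup stabilizes a totally singular subspace of dimension 2 (helper6)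

`m_inner` : every element of `M` acts on `A` as an inner automorphism;
`m_stable` : `M` stabilizes a totally singular subspace of dimension 2 over `F`.
-/

set_option autoImplicit false
set_option linter.unusedSectionVars false

namespace Cfsg.Agent.R2.H6P2

open Module Matrix
open Cfsg.Lie
open Cfsg.Agent.ChevalleyStructure.E6Min.Basic (Zgrp)
open Cfsg.Agent.ChevalleyStructure.E6Min.Adjoint (ad)
open Cfsg.Agent.H943.SL2Rel Cfsg.Agent.H943.SL2Mod Cfsg.Agent.H943.RepAdd
open Cfsg.Agent.R2.H28.SL2 Cfsg.Agent.R2.SL2 Cfsg.Agent.R2.GEO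
open Cfsg.Agent.H952.F4 (sh cr tf)
open Cfsg.Agent.H952.F4.Jord
open Cfsg.Agent.H163.E6 (V V' TS)
open Cfsg.Agent.H65.E6Emb
open Cfsg.Agent.R2.H9.E6 (Setup pq pq_surjective finrank_map_rho)

universe u v w x

section alg

variable {k : Type u} [Field k] [CharP k 2] {K : Type w} [Field K] [DecidableEq k] [Fintype K] [DecidableEq K]
  [CharP K 2] [IsAlgClosed k]
  (ι : K →+* k) {a : ℕ} (hK : Fintype.card K = 2 ^ a)
  {ρ ρ' : Representation k ↥(Zgrp k) (I27 → k)} {χ : SpecialLinearGroup (Fin 2) K →* ↥(Zgrp k)}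

include hK

/-- **submodules of dimension 2** -/
theorem two_of_dim (hnf : NoFx χ) (hρ : ρ = V k ∨ ρ = V' k) {U : Submodule k (I27 → k)} (hU : Stb (rp ρ χ) U)
    (hd : finrank k U = 2) : ∃ n < a, ∃ x y, Two (rp ρ χ) (ka ι n) x y ∧ Submodule.span k {x, y} = U := by
  have hU0 : U ≠ ⊥ := by
    rintro rfl
    rw [finrank_bot] at hd
    omega
  have hI : Irrd (subRep (rp ρ χ) U hU) := by
    refine irr_of_min (rp ρ χ) hU hU0 fun U' hle hU' => ?_
    have h1 := Submodule.finrank_mono hle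
    rw [hd] at h1
    have h2 := no_one ι hnf hρ hU'
    by_cases h3 : finrank k U' = 0
    · exact Or.inl (Submodule.finrank_eq_zero.1 h3)
    · exact Or.inr (Submodule.eq_of_le_of_finrank_eq hle (by omega))
  obtain ⟨b, hb⟩ := (Sy ι 2).ex _ hI
  obtain ⟨n, hna, -, x, y, hxy, hsp⟩ := two_of_isV ι hK hb hd
  refine ⟨n, hna, x, y, ⟨fun g => ?_, fun g => ?_, fun h => hxy.ne (Subtype.ext h)⟩, ?_⟩
  · exact congrArg Subtype.val (hxy.act₀ g)
  · exact congrArg Subtype.val (hxy.act₁ g)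
  · have h1 := congrArg (Submodule.map U.subtype) hsp
    rw [Submodule.map_span, Submodule.map_top, Submodule.range_subtype, Set.image_pair] at h1
    exact h1

end alg

section frob

variable {k : Type u} [Field k] [CharP k 2] {K : Type w} [Field K] [DecidableEq k] [Fintype K] [DecidableEq K]
  [CharP K 2] [IsAlgClosed k]
  (ι : K →+* k) {a : ℕ} (hK : Fintype.card K = 2 ^ a)
  {F : Type v} [Field F] [Fintype F] (f : F →+* k) {e : ℕ} (hF : Fintype.card F = 2 ^ e)
  {ψ : ProjectiveSpecialLinearGroup (Fin 2) K →* ↥(Zgrp F)} {Γ M : Subgroup ↥(Zgrp F)} (hS : Setup Γ M ψ)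
  (hnf : NoFx (chi f ψ))
  {ρ ρ' : Representation k ↥(Zgrp k) (I27 → k)}

include hK hF hS hnf

/-- **the elements of `M` act as inner automorphisms** -/
theorem m_inner (ha : 0 < a) (hρ : Pair ρ ρ') {n : ℕ} {x y : I27 → k} (h : TTwo ρ (chi f ψ) (ka ι n) x y)
    (hx : Ph e x = x) (hy : Ph e y = y) {m : ↥(Zgrp F)} (hm : m ∈ M) :
    ∃ t : ProjectiveSpecialLinearGroup (Fin 2) K, ∀ z, ψ z * (ψ t * m) = (ψ t * m) * ψ z := by
  wlog hna : n < a generalizing n
  · exact this (n := n % a) (by rw [ka_mod ι hK]; exact h) (Nat.mod_lt _ ha)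
  have hρ0 := pair_left hρ
  have hρm : ∀ (g g' : ↥(Zgrp F)) (v : I27 → k), ρ (emb f (g * g')) v = ρ (emb f g) (ρ (emb f g') v) := by
    intro g g' v
    rw [map_mul, map_mul]
    rfl
  have hρ1 : ∀ v : I27 → k, ρ (emb f (1 : ↥(Zgrp F))) v = v := by
    intro v
    rw [map_one, map_one]
    rfl
  -- the image of the module
  set U : Submodule k (I27 → k) := (Submodule.span k {x, y}).map (ρ (emb f m)) with hUdef
  have hUs : Stb (rp ρ (chi f ψ)) U := by
    rintro g _ ⟨v, hv, rfl⟩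
    obtain ⟨z, hz⟩ := hS.norm' hm (pq g)
    obtain ⟨g', rfl⟩ := pq_surjective z
    refine ⟨ρ (emb f (ψ (pq g'))) v, h.stb g' v hv, ?_⟩
    rw [rp_apply, chi_apply, ← hρm, ← hρm, hz]
    congr 2
    group
  have hUd : finrank k U = 2 := by
    rw [hUdef, finrank_map_rho]
    exact (h.toTwo.isV ι hK hna).1
  obtain ⟨n', hn', x2, y2, h2, hsp⟩ := two_of_dim ι hK hnf hρ0 hUs hUd
  have hx2 : x2 ∈ U := by rw [← hsp]; exact Submodule.subset_span (Or.inl rfl)
  have hy2 : y2 ∈ U := by rw [← hsp]; exact Submodule.subset_span (Or.inr rfl)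
  have hUts : ∀ v ∈ U, sh v = 0 := by
    rintro _ ⟨v, hv, rfl⟩
    rw [pair_sh hρ, h.ts v hv, map_zero]
  have hUph : ∀ v ∈ U, Ph e v ∈ U := by
    rintro _ ⟨v, hv, rfl⟩
    refine ⟨Ph e v, ?_, ?_⟩
    · refine span_Ph ?_ v hv
      intro z hz
      rcases hz with hz | hz
      · rw [hz, hx]
        exact Submodule.subset_span (Or.inl rfl)
      · rw [Set.mem_singleton_iff.1 hz, hy]
        exact Submodule.subset_span (Or.inr rfl)
    · have h1 := Ph_emb f hF hρ0 1 m v
      rw [Nat.mul_one] at h1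
      exact h1.symm
  have h2' : TTwo ρ (chi f ψ) (ka ι n') x2 y2 := ⟨h2, hUts _ hx2, hUts _ hy2, h2.cr_zero hρ hnf⟩
  have hnn : n = n' := by
    by_contra hne
    refine two_types ι hK f hF hS hnf hρ hna hn' hne h h2' (Or.inl ⟨?_, ?_, ?_, ?_⟩)
    · rw [hx]
      exact Submodule.subset_span (Or.inl rfl)
    · rw [hy]
      exact Submodule.subset_span (Or.inr rfl)
    · rw [hsp]
      exact hUph _ hx2
    · rw [hsp]
      exact hUph _ hy2
  subst hnn
  -- the matrix
  obtain ⟨v1, hv1, hx2'⟩ := hx2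
  obtain ⟨v2, hv2, hy2'⟩ := hy2
  obtain ⟨p, r, rfl⟩ := Submodule.mem_span_pair.1 hv1
  obtain ⟨q, s, rfl⟩ := Submodule.mem_span_pair.1 hv2
  have hσ0 : ∀ g : SpecialLinearGroup (Fin 2) K, ∃ g' : SpecialLinearGroup (Fin 2) K,
      ψ (pq g') = m * ψ (pq g) * m⁻¹ := by
    intro g
    obtain ⟨z, hz⟩ := hS.norm hm (pq g)
    obtain ⟨g', rfl⟩ := pq_surjective z
    exact ⟨g', hz⟩
  choose σ hσ using hσ0
  have hσ1 : ∀ (g : SpecialLinearGroup (Fin 2) K) (v : I27 → k),
      ρ (chi f ψ (σ g)) (ρ (emb f m) v) = ρ (emb f m) (ρ (chi f ψ g) v) := by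
    intro g v
    rw [chi_apply, chi_apply, ← hρm, ← hρm, hσ]
    congr 2
    group
  have hinj : ∀ v v' : I27 → k, ρ (emb f m) v = ρ (emb f m) v' → v = v' := by
    intro v v' hv
    have h1 := congrArg (ρ (emb f m⁻¹)) hv
    rw [← hρm, ← hρm, inv_mul_cancel, hρ1, hρ1] at h1
    exact h1
  have e0 : ∀ g, ρ (chi f ψ g) x = _ := h.act₀
  have e1 : ∀ g, ρ (chi f ψ g) y = _ := h.act₁
  have E0 : ∀ g : SpecialLinearGroup (Fin 2) K,
      p • (ka ι n (g.1 0 0) • x + ka ι n (g.1 1 0) • y) + r • (ka ι n (g.1 0 1) • x + ka ι n (g.1 1 1) • y) =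
      ka ι n ((σ g).1 0 0) • (p • x + r • y) + ka ι n ((σ g).1 1 0) • (q • x + s • y) := by
    intro g
    apply hinj
    have h1 := h2.act₀ (σ g)
    rw [← hx2', ← hy2', rp_apply, hσ1, map_add, map_smul, map_smul, e0, e1] at h1
    rw [h1, ← map_smul (ρ (emb f m)), ← map_smul (ρ (emb f m)), ← map_add (ρ (emb f m))]
  have E1 : ∀ g : SpecialLinearGroup (Fin 2) K,
      q • (ka ι n (g.1 0 0) • x + ka ι n (g.1 1 0) • y) + s • (ka ι n (g.1 0 1) • x + ka ι n (g.1 1 1) • y) =
      ka ι n ((σ g).1 0 1) • (p • x + r • y) + ka ι n ((σ g).1 1 1) • (q • x + s • y) := by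
    intro g
    apply hinj
    have h1 := h2.act₁ (σ g)
    rw [← hx2', ← hy2', rp_apply, hσ1, map_add, map_smul, map_smul, e0, e1] at h1
    rw [h1, ← map_smul (ρ (emb f m)), ← map_smul (ρ (emb f m)), ← map_add (ρ (emb f m))]
  have hD : p * s - q * r ≠ 0 := by
    intro hD
    have hxy2 : ∀ α β : k, α • (p • x + r • y) + β • (q • x + s • y) = 0 → α = 0 ∧ β = 0 := by
      intro α β h0
      refine h2.indep ?_
      rw [← hx2', ← hy2', ← map_smul, ← map_smul, ← map_add, h0, map_zero]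
    have h1 := hxy2 s (-r) (by
      have e : s • (p • x + r • y) + (-r) • (q • x + s • y) = (p * s - q * r) • x := by module
      rw [e, hD, zero_smul])
    have h3 := hxy2 (-q) p (by
      have e : (-q) • (p • x + r • y) + p • (q • x + s • y) = (p * s - q * r) • y := by module
      rw [e, hD, zero_smul])
    have hr : r = 0 := neg_eq_zero.1 h1.2
    apply h2.ne
    rw [← hx2', h3.2, hr, zero_smul, zero_smul, add_zero, map_zero]
  have key : ∀ g : SpecialLinearGroup (Fin 2) K,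
      (ka ι n (g.1 0 0) * p + ka ι n (g.1 0 1) * r = p * ka ι n ((σ g).1 0 0) + q * ka ι n ((σ g).1 1 0)) ∧
      (ka ι n (g.1 1 0) * p + ka ι n (g.1 1 1) * r = r * ka ι n ((σ g).1 0 0) + s * ka ι n ((σ g).1 1 0)) := by
    intro g
    have h1 := h.toTwo.indep (α := ka ι n (g.1 0 0) * p + ka ι n (g.1 0 1) * r -
        (p * ka ι n ((σ g).1 0 0) + q * ka ι n ((σ g).1 1 0)))
      (β := ka ι n (g.1 1 0) * p + ka ι n (g.1 1 1) * r -
        (r * ka ι n ((σ g).1 0 0) + s * ka ι n ((σ g).1 1 0))) (by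
        have h3 := sub_eq_zero.2 (E0 g)
        rw [← h3]
        module)
    exact ⟨sub_eq_zero.1 h1.1, sub_eq_zero.1 h1.2⟩
  have key' : ∀ g : SpecialLinearGroup (Fin 2) K,
      (ka ι n (g.1 0 0) * q + ka ι n (g.1 0 1) * s = p * ka ι n ((σ g).1 0 1) + q * ka ι n ((σ g).1 1 1)) ∧
      (ka ι n (g.1 1 0) * q + ka ι n (g.1 1 1) * s = r * ka ι n ((σ g).1 0 1) + s * ka ι n ((σ g).1 1 1)) := by
    intro g
    have h1 := h.toTwo.indep (α := ka ι n (g.1 0 0) * q + ka ι n (g.1 0 1) * s -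
        (p * ka ι n ((σ g).1 0 1) + q * ka ι n ((σ g).1 1 1)))
      (β := ka ι n (g.1 1 0) * q + ka ι n (g.1 1 1) * s -
        (r * ka ι n ((σ g).1 0 1) + s * ka ι n ((σ g).1 1 1))) (by
        have h3 := sub_eq_zero.2 (E1 g)
        rw [← h3]
        module)
    exact ⟨sub_eq_zero.1 h1.1, sub_eq_zero.1 h1.2⟩
  obtain ⟨t, ht⟩ := sk_noether (ka ι n) hD σ (fun g => (key g).1) (fun g => (key' g).1) (fun g => (key g).2)
    fun g => (key' g).2
  refine ⟨pq t, fun z => ?_⟩
  obtain ⟨g, rfl⟩ := pq_surjective z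
  have h3 : ψ (pq g) * ψ (pq t) = ψ (pq t) * (m * ψ (pq g) * m⁻¹) := by
    rw [← hσ, ← map_mul, ← map_mul, ← map_mul, ← map_mul, ht]
  calc ψ (pq g) * (ψ (pq t) * m) = (ψ (pq g) * ψ (pq t)) * m := by group
    _ = ψ (pq t) * (m * ψ (pq g) * m⁻¹) * m := by rw [h3]
    _ = _ := by group

/-- **`M` stabilizes a totally singular subspace of dimension 2** -/
theorem m_stable (ha : 0 < a) (hρ : Pair ρ ρ') {n : ℕ} {x y : I27 → k} (h : TTwo ρ (chi f ψ) (ka ι n) x y)
    (hx : Ph e x = x) (hy : Ph e y = y) :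
    ∃ ρ₀ : Representation F ↥(Zgrp F) (I27 → F), (ρ₀ = V F ∨ ρ₀ = V' F) ∧ ∃ W : Submodule F (I27 → F),
      finrank F W = 2 ∧ (∀ w ∈ W, sh w = 0) ∧ ∀ m ∈ M, ∀ w ∈ W, ρ₀ m w ∈ W := by
  have hd : finrank k (Submodule.span k {x, y}) = 2 := by
    have h1 : Two (rp ρ (chi f ψ)) (ka ι (n % a)) x y := by rw [ka_mod ι hK]; exact h.toTwo
    exact (h1.isV ι hK (Nat.mod_lt _ ha)).1
  have hph : ∀ v ∈ Submodule.span k {x, y}, Ph e v ∈ Submodule.span k {x, y} := by
    refine span_Ph ?_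
    intro z hz
    rcases hz with hz | hz
    · rw [hz, hx]
      exact Submodule.subset_span (Or.inl rfl)
    · rw [Set.mem_singleton_iff.1 hz, hy]
      exact Submodule.subset_span (Or.inr rfl)
  obtain ⟨W, hW⟩ := exists_ext (fr e) f (U := Submodule.span k {x, y})
    (fun x hx => mem_range_of_pow f (by rw [hF, ← fr_apply, hx])) hph
  obtain ⟨ρ₀, hρ₀, hcomp⟩ : ∃ ρ₀ : Representation F ↥(Zgrp F) (I27 → F), (ρ₀ = V F ∨ ρ₀ = V' F) ∧
      ∀ g x, ρ (emb f g) (fun i => f (x i)) = fun i => f (ρ₀ g x i) := by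
    rcases pair_left hρ with rfl | rfl
    · exact ⟨V F, Or.inl rfl, V_emb f⟩
    · exact ⟨V' F, Or.inr rfl, V'_emb f⟩
  have hWs : ∀ a, ∀ w ∈ W, ρ₀ (ψ a) w ∈ W := by
    intro a w hw
    obtain ⟨g, rfl⟩ := pq_surjective a
    rw [← mem_ext_iff (f := f), hW, ← hcomp]
    exact h.stb g _ (by rw [← hW]; exact mem_ext_of_mem hw)
  have hWts : ∀ w ∈ W, sh w = 0 := by
    intro w hw
    have h1 : sh (fun i => f (w i)) = 0 := h.ts _ (by rw [← hW]; exact mem_ext_of_mem hw)
    rw [sh_map] at h1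
    funext i
    have h2 := congrFun h1 i
    exact (map_eq_zero f).1 h2
  refine ⟨ρ₀, hρ₀, W, ?_, hWts, fun m hm w hw => ?_⟩
  · have h1 : finrank F W = finrank k (Submodule.span k {x, y}) := by rw [← hW, finrank_ext]
    rw [h1, hd]
  · obtain ⟨t, ht⟩ := m_inner ι hK f hF hS hnf ha hρ h hx hy hm
    have hc : ψ t * m ∈ M := mul_mem (hS.mem_M t) hm
    obtain ⟨c, -, -, hc'⟩ := Cfsg.Agent.H163.E6.Cnt.ker_scalar hρ₀ (hS.centM hc ht)
    have h1 : m = ψ t⁻¹ * (ψ t * m) := by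
      rw [← mul_assoc, ← map_mul, inv_mul_cancel, map_one, one_mul]
    rw [h1, map_mul, Module.End.mul_apply, hc']
    exact hWs _ _ (W.smul_mem _ hw)

end frob

end Cfsg.Agent.R2.H6P2
end
end
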